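import Cfsg.Agent.Lib.Char.SubBlock.Inside

/-!
# The centraliser of `[W, E]` normalises a block: generalities and the case without upper section in the core
-/

set_option autoImplicit false
set_option linter.unusedSectionVars false
set_option linter.style.haveILetI false
set_option linter.unusedVariables false

open Subgroup
open scoped commutatorElement

namespace CfsgLib.BlockCent

open CfsgLib.SubBlock
open CfsgLib.BaumannBlock (bW bZ BlockFacts)

universe u
variable {G : Type u} [Group G] [Finite G] {p : ℕ} [hp : Fact p.Prime] {E : Subgroup G}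

attribute [local instance] CfsgLib.Coprime.pCore_normal'

theorem exists_coprime_power (p : ℕ) [Fact p.Prime] (x : G) : ∃ a, (orderOf (x ^ p ^ a)).Coprime p := by
  have hp : p.Prime := Fact.out
  obtain ⟨a, c, hc, hab⟩ := Nat.exists_eq_pow_mul_and_not_dvd (orderOf_pos x).ne' p hp.ne_one
  refine ⟨a, ?_⟩
  rw [orderOf_pow' _ (pow_ne_zero a hp.ne_zero), hab, Nat.gcd_eq_right (Dvd.intro _ rfl),
    Nat.mul_div_cancel_left _ (Nat.pow_pos hp.pos)]
  exact Nat.coprime_comm.1 (hp.coprime_iff_not_dvd.2 hc)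

theorem isPGroup_of_coprime {K : Subgroup G} (h : ∀ x ∈ K, (orderOf x).Coprime p → x = 1) : IsPGroup p ↥K := by
  intro k
  obtain ⟨a, ha⟩ := exists_coprime_power p (k : G)
  exact ⟨a, Subtype.ext (h _ (pow_mem k.2 _) ha)⟩

theorem eq_one_of_pgroup {K : Subgroup G} (hK : IsPGroup p ↥K) {x : G} (hx : x ∈ K)
    (ho : (orderOf x).Coprime p) : x = 1 := by
  obtain ⟨n, hn⟩ := hK ⟨x, hx⟩
  exact orderOf_eq_one_iff.1 (Nat.eq_one_of_dvd_coprimes (Nat.Coprime.pow_right n ho) dvd_rfl
    (orderOf_dvd_of_pow_eq_one (congrArg Subtype.val hn)))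

theorem core_norm (g : G) : g ∈ normalizer (Cfsg.pCore p G : Set G) := by
  rw [normalizer_eq_top_iff.2 (CfsgLib.Coprime.pCore_normal' p)]; exact mem_top _

theorem eq_one_of_cent_core (hG : centralizer (Cfsg.pCore p G : Set G) ≤ Cfsg.pCore p G) {x : G}
    (ho : (orderOf x).Coprime p) (hc : ∀ q ∈ Cfsg.pCore p G, x * q = q * x) : x = 1 :=
  eq_one_of_pgroup (CfsgLib.Coprime.pCore_isPGroup p) (hG (mem_centralizer_iff.2 fun q hq => (hc q hq).symm)) ho

theorem comm_mem_left {E : Subgroup G} {e x : G} (he : e ∈ E) (hx : x ∈ normalizer (E : Set G)) : ⁅e, x⁆ ∈ E := by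
  rw [commutatorElement_def, show e * x * e⁻¹ * x⁻¹ = e * (x * e⁻¹ * x⁻¹) by group]
  exact mul_mem he ((mem_normalizer_iff.1 hx _).1 (inv_mem he))

theorem comm_mem_right {E : Subgroup G} {e x : G} (he : e ∈ E) (hx : x ∈ normalizer (E : Set G)) : ⁅x, e⁆ ∈ E := by
  rw [← commutatorElement_inv e x]; exact inv_mem (comm_mem_left he hx)

/-- An element moving `E` only inside `E R` for a normalising `p`-group `R` normalises `E`. -/
theorem mem_normalizer_of_comm (hres : Cfsg.pResidualOf p E = E) {R : Subgroup G} (hR : IsPGroup p ↥R)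
    (hRN : R ≤ normalizer (E : Set G)) {c : G} (h : ∀ e ∈ E, ⁅e, c⁆ ∈ R) : c ∈ normalizer (E : Set G) := by
  refine CfsgLib.Fusion.conjBy_eq_iff.1 (CfsgLib.Fusion.conjBy_eq_of_le ?_)
  rw [CfsgLib.Fusion.conjBy, map_le_iff_le_comap]
  conv_lhs => rw [closure_coprime_eq hres]
  refine (closure_le _).2 fun x hx => ?_
  show c * x * c⁻¹ ∈ E
  refine CfsgLib.BaumannNormal.coprime_mem_sup hR hRN ?_ ?_
  · rw [show c * x * c⁻¹ = ⁅x, c⁆⁻¹ * x by simp only [commutatorElement_def]; group]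
    exact mul_mem (mem_sup_right (inv_mem (h x hx.1))) (mem_sup_left hx.1)
  · exact ((orderOf_injective (MulAut.conj c).toMonoidHom (MulAut.conj c).injective x).symm ▸ hx.2 :
      (orderOf ((MulAut.conj c).toMonoidHom x)).Coprime p)

/-- The centraliser of `[W, E]`. -/
def cC (p : ℕ) (E : Subgroup G) : Subgroup G := centralizer (bV p E : Set G)

theorem cC_norm {x : G} (hx : x ∈ normalizer (E : Set G)) : x ∈ normalizer (cC p E : Set G) :=
  CfsgLib.Coprime.normalizer_le_normalizer_centralizer _ (bV_norm hx)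

section Block

variable {T : Sylow p G}

theorem bV_le_vG (hG : centralizer (Cfsg.pCore p G : Set G) ≤ Cfsg.pCore p G)
    (hE : Cfsg.IsBaumannBlock p (T : Subgroup G) E) : bV p E ≤ vG G p :=
  CfsgLib.BaumannBlock.V_le_omegaOneCenter hG T hE

theorem core_le_cC (hG : centralizer (Cfsg.pCore p G : Set G) ≤ Cfsg.pCore p G)
    (hE : Cfsg.IsBaumannBlock p (T : Subgroup G) E) : Cfsg.pCore p G ≤ cC p E := fun q hq =>
  mem_centralizer_iff.2 fun v hv => (vG_comm (bV_le_vG hG hE hv) hq).symm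

theorem norm_of_invariant (hE : Cfsg.IsBaumannBlock p (T : Subgroup G) E) {R : Subgroup G} (hR : IsPGroup p ↥R)
    (h : ∀ x, x ∈ normalizer (E : Set G) → x ∈ normalizer (R : Set G)) : R ≤ normalizer (E : Set G) :=
  CfsgLib.BaumannNormal.le_normalizer_of_invariant T hE.1 hE.2.1 hR
    (fun b hb => h b (baumann_le_normalizer_of_block hE hb)) fun e he => h e (le_normalizer he)

/-- The commutators with `O_p(G)` are in `[W, E]`, or the block is exceptional and `O_p(E) ≤ O_p(G)`. -/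
theorem core_cases (hG : centralizer (Cfsg.pCore p G : Set G) ≤ Cfsg.pCore p G)
    (hE : Cfsg.IsBaumannBlock p (T : Subgroup G) E) :
    (∀ e ∈ E, ∀ q ∈ Cfsg.pCore p G, ⁅e, q⁆ ∈ bV p E) ∨ (bQ p E ≠ bW p E ∧ bQ p E ≤ Cfsg.pCore p G) := by
  have hf := CfsgLib.BaumannBlock.blockFacts hE
  by_cases hQW : bQ p E = bW p E
  · exact Or.inl fun e he q hq => (bV_eq_bQ hf hQW).ge (mem_inf.1 (comm_core_le T hE he hq)).1
  obtain ⟨R, hR⟩ : ∃ R, R = bQ p E ⊓ Cfsg.pCore p G := ⟨_, rfl⟩
  have hRN : E ≤ normalizer (R : Set G) := hR ▸ CfsgLib.Coprime.inf_le_normalizer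
    (fun y hy => bQ_norm (le_normalizer hy)) fun y _ => core_norm y
  obtain ⟨-, -, -, hirr, -, -⟩ := exc_data hE hQW
  rcases hirr (R ⊔ bW p E) (sup_le (hR ▸ inf_le_left) (bW_le_bQ E)) le_sup_right
    (CfsgLib.Coprime.sup_le_normalizer hRN hf.normW) with h | h
  · exact Or.inl fun e he q hq =>
      comm_mem_bV hf (fun y hy => h.le (mem_sup_left (hR.ge (comm_core_le T hE hy hq)))) he
  · refine Or.inr ⟨hQW, le_trans (hf.commQ.ge.trans (commutator_le.2 fun a ha y hy => ?_) : bQ p E ≤ R)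
      (hR.le.trans inf_le_right)⟩
    obtain ⟨r, hr, w, hw, rfl⟩ := CfsgLib.Coprime.mem_sup_exists
      (show bW p E ≤ normalizer (R : Set G) from fun z hz => hRN (bQ_le E (bW_le_bQ E hz))) (h.ge ha)
    rw [show ⁅r * w, y⁆ = r * ⁅w, y⁆ * r⁻¹ * ⁅r, y⁆ by simp only [commutatorElement_def]; group]
    have hv := commutator_mem_commutator hw hy
    exact mul_mem (mul_mem (mul_mem hr (hR.ge (mem_inf.2 ⟨bW_le_bQ E (bV_le_bW hf hv),
      vG_le (bV_le_vG hG hE hv)⟩))) (inv_mem hr))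
      (CfsgLib.BaumannBlock.commutator_le_of_normalizes hRN (commutator_mem_commutator hr hy))

/-- The case in which `[O_p(G), E]` lies in `[W, E]`. -/
theorem le_normalizer_of_small (hG : centralizer (Cfsg.pCore p G : Set G) ≤ Cfsg.pCore p G)
    (hE : Cfsg.IsBaumannBlock p (T : Subgroup G) E)
    (hcore : ∀ e ∈ E, ∀ q ∈ Cfsg.pCore p G, ⁅e, q⁆ ∈ bV p E) : cC p E ≤ normalizer (E : Set G) := by
  have hEC : ∀ x ∈ E, x ∈ normalizer (cC p E : Set G) := fun x hx => cC_norm (le_normalizer hx)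
  have hst : ∀ r ∈ ⁅E, cC p E⁆, r ∈ chainStab (Cfsg.pCore p G) (bV p E) := by
    refine commutator_le.2 fun e he c hc => ?_
    have hcV : c ∈ normalizer (bV p E : Set G) := centralizer_le_normalizer (bV p E : Set G) hc
    have h1 : ∀ x ∈ E, x ∈ chainStab (Cfsg.pCore p G) (bV p E) := fun x hx =>
      ⟨bV_norm (le_normalizer hx), core_norm x, hcore x hx⟩
    rw [commutatorElement_def, show e * c * e⁻¹ * c⁻¹ = e * (c * e⁻¹ * c⁻¹) by group]
    refine mul_mem (h1 e he) ⟨mul_mem (mul_mem hcV (bV_norm (le_normalizer (inv_mem he)))) (inv_mem hcV),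
      core_norm _, fun q hq => ?_⟩
    rw [show ⁅c * e⁻¹ * c⁻¹, q⁆ = c * ⁅e⁻¹, c⁻¹ * q * c⁆ * c⁻¹ by simp only [commutatorElement_def]; group]
    exact (mem_normalizer_iff.1 hcV _).1
      (hcore _ (inv_mem he) _ ((mem_normalizer_iff''.1 (core_norm c) q).1 hq))
  have hRC : ⁅E, cC p E⁆ ≤ cC p E := by
    rw [commutator_comm]
    exact CfsgLib.BaumannBlock.commutator_le_of_normalizes hEC
  have hRp : IsPGroup p ↥⁅E, cC p E⁆ := by
    refine isPGroup_of_coprime fun r hr ho => eq_one_of_cent_core hG ho fun q hq => ?_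
    exact fix_of_chain ((CfsgLib.Coprime.pCore_isPGroup p).to_le ((bV_le_vG hG hE).trans vG_le)) ho (hRC hr)
      (hst r hr).2.2 hq
  have hRN : ⁅E, cC p E⁆ ≤ normalizer (E : Set G) := norm_of_invariant hE hRp fun x hx =>
    CfsgLib.BaumannBlock.mem_normalizer_commutator hx (cC_norm hx)
  exact fun c hc => mem_normalizer_of_comm hE.1 hRp hRN fun e he => commutator_mem_commutator he hc

end Block

end CfsgLib.BlockCent
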