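import Cfsg.Agent.Lib.Char.BlockCent.Layers
import Cfsg.Agent.Lib.PGroup.FrattiniLe
import Cfsg.Agent.Lib.LocalStructure.FStar

/-!
# An invariant subgroup of odd order is centralised by the involution modulo `O_3(C([W, E]))`
-/

set_option autoImplicit false
set_option linter.unusedSectionVars false
set_option linter.style.haveILetI false
set_option linter.unusedVariables false
set_option maxHeartbeats 1000000

open Subgroup
open scoped commutatorElement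

namespace CfsgLib.BlockCent

open CfsgLib.SubBlock
open CfsgLib.BaumannBlock (bW bZ BlockFacts)

universe u
variable {G : Type u} [Group G] [Finite G]

attribute [local instance] CfsgLib.Coprime.pCore_normal'
attribute [local instance] fact_three

/-- Conjugation preserves the stabiliser of a chain. -/
theorem chainStab_conj {A A₀ : Subgroup G} {s x : G} (hsA : s ∈ normalizer (A : Set G))
    (hsA₀ : s ∈ normalizer (A₀ : Set G)) (hx : x ∈ chainStab A A₀) : s * x * s⁻¹ ∈ chainStab A A₀ := by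
  refine ⟨mul_mem (mul_mem hsA₀ hx.1) (inv_mem hsA₀), mul_mem (mul_mem hsA hx.2.1) (inv_mem hsA), fun q hq => ?_⟩
  rw [show ⁅s * x * s⁻¹, q⁆ = s * ⁅x, s⁻¹ * q * s⁆ * s⁻¹ by simp only [commutatorElement_def]; group]
  exact (mem_normalizer_iff.1 hsA₀ _).1 (hx.2.2 _ ((mem_normalizer_iff''.1 hsA q).1 hq))

/-- Commutators with an element acting as a scalar act trivially. -/
theorem comm_mem_chainStab_one {A A₀ : Subgroup G} {s e : G} (hsA : s ∈ normalizer (A : Set G))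
    (hsA₀ : s ∈ normalizer (A₀ : Set G)) (he : e ∈ chainStab A A₀) : ⁅s, e⁆ ∈ chainStab A A₀ := by
  rw [commutatorElement_def]
  exact mul_mem (chainStab_conj hsA hsA₀ he) (inv_mem he)

theorem comm_mem_chainStab_neg {A A₀ : Subgroup G} (h : IsAbSec A A₀) {s e : G} (hs : s ∈ secN A A₀)
    (he : e ∈ secN A A₀) (hneg : ∀ a ∈ A, e * a * e⁻¹ * a ∈ A₀) : ⁅s, e⁆ ∈ chainStab A A₀ := by
  obtain ⟨M, iM, ⟨S⟩⟩ := exists_secRep h
  obtain ⟨s', hs'⟩ : ∃ s' : ↥(secN A A₀), s' = ⟨s, hs⟩ := ⟨_, rfl⟩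
  obtain ⟨e', he'⟩ : ∃ e' : ↥(secN A A₀), e' = ⟨e, he⟩ := ⟨_, rfl⟩
  have hne : S.act e' = -1 := AddMonoidHom.ext fun m => by
    obtain ⟨u, hu, rfl⟩ := S.pr_surj m
    show S.act e' (S.pr u) = -S.pr u
    have hu' : e * u * e⁻¹ ∈ A := conj_mem_of_secN he hu
    rw [← S.pr_act e' u hu, show (e' : G) = e by rw [he'], eq_neg_iff_add_eq_zero, ← S.pr_mul _ hu' _ hu]
    exact (S.pr_eq_zero _ (mul_mem hu' hu)).2 (hneg u hu)
  have h1 : S.act ⁅s', e'⁆ = 1 := by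
    have hi : S.act s' * S.act s'⁻¹ = 1 := by rw [← map_mul, mul_inv_cancel, map_one]
    have hei : S.act e' * S.act e'⁻¹ = 1 := by rw [← map_mul, mul_inv_cancel, map_one]
    rw [commutatorElement_def, map_mul, map_mul, map_mul, hne, mul_neg, mul_one, neg_mul, hi, neg_mul, one_mul]
    rwa [hne, neg_mul, one_mul] at hei
  have h2 := (S.triv_iff ⁅s', e'⁆).2 h1
  rw [hs', he'] at h2
  have h3 : ⁅s, e⁆ ∈ secN A A₀ := mul_mem (mul_mem (mul_mem hs he) (inv_mem hs)) (inv_mem he)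
  exact ⟨h3.2, h3.1, h2⟩

variable {T : Sylow 3 G} {E : Subgroup G} {e : G}

namespace Inv

/-- A normalising element conjugates the involution into `e Q`. -/
theorem conj_mem_bQ (h : Inv T E e) {x : G} (hx : x ∈ normalizer (E : Set G)) : ⁅x, e⁆ ∈ bQ 3 E := by
  obtain ⟨f, hf⟩ : ∃ f, f = x * e * x⁻¹ := ⟨_, rfl⟩
  have hfE : f ∈ E := hf ▸ (mem_normalizer_iff.1 hx e).1 h.mem
  rw [commutatorElement_def, ← hf]
  refine h.kerW (mul_mem hfE (inv_mem h.mem)) fun w hw => ?_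
  have hWc : ∀ a ∈ bW 3 E, ∀ b ∈ bW 3 E, a * b = b * a := fun a ha b hb => bW_comm_bQ hb (bW_le_bQ E ha)
  have hfw : ∀ u ∈ bW 3 E, f * u * f⁻¹ * u ∈ bZ 3 E := fun u hu => by
    have hu' : x⁻¹ * u * x ∈ bW 3 E := (mem_normalizer_iff''.1 (bW_norm hx) u).1 hu
    rw [hf, show x * e * x⁻¹ * u * (x * e * x⁻¹)⁻¹ * u =
      x * (e * (x⁻¹ * u * x) * e⁻¹ * (x⁻¹ * u * x)) * x⁻¹ by group]
    exact (mem_normalizer_iff.1 (bZ_norm hx) _).1 (h.invW _ hu')
  have he' : e * w * e⁻¹ ∈ bW 3 E := (mem_normalizer_iff.1 (bW_norm h.e_norm) w).1 hw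
  have h1 := h.invW w hw
  have h2 := hfw _ he'
  rw [h.inv_e] at h1 h2 he' ⊢
  have h3 : f * (e * w * e) * f⁻¹ ∈ bW 3 E := (mem_normalizer_iff.1 (bW_norm (le_normalizer hfE)) _).1 he'
  rw [show ⁅f * e, w⁆ = f * (e * w * e⁻¹) * f⁻¹ * w⁻¹ by simp only [commutatorElement_def]; group, h.inv_e,
    show f * (e * w * e) * f⁻¹ * w⁻¹ = f * (e * w * e) * f⁻¹ * (e * w * e) * (w * (e * w * e))⁻¹ by group,
    hWc w hw _ he']
  exact mul_mem h2 (inv_mem h1)

/-- An invariant subgroup of odd order of `C([W, E])` that is `3'` modulo `P` is centralised by `e` modulo `P`. -/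
theorem core_comm (h : Inv T E e) {M1 : Subgroup G} (hMC : M1 ≤ cC 3 E) (hPM : cP 3 E ≤ M1)
    (hN : ∀ x ∈ normalizer (E : Set G), x ∈ normalizer (M1 : Set G))
    (h3 : ∀ x ∈ M1, ∀ a : ℕ, x ^ 3 ^ a ∈ cP 3 E → x ∈ cP 3 E) (hodd : Odd (Nat.card ↥M1)) :
    ⁅M1, zpowers e⁆ ≤ cP 3 E := by
  classical
  obtain ⟨R, hR⟩ : ∃ R, R = ⁅M1, zpowers e⁆ := ⟨_, rfl⟩
  rw [← hR]
  have hRM : R ≤ M1 := hR ▸ CfsgLib.BaumannBlock.commutator_le_of_normalizes (zpowers_le.2 (hN e h.e_norm))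
  -- generators
  have hRle : ∀ D : Subgroup G, (∀ s ∈ R, ⁅s, e⁆ ∈ D) → R ≤ D := by
    intro D hD
    conv_lhs => rw [hR]
    refine commutator_le.2 fun m hm k hk => ?_
    obtain ⟨i, rfl⟩ := mem_powers_iff_mem_zpowers.2 hk
    rcases Nat.even_or_odd i with ⟨j, rfl⟩ | ⟨j, rfl⟩
    · rw [show (fun x => e ^ x) (j + j) = 1 from by show e ^ (j + j) = 1; rw [← two_mul, pow_mul, pow_two, h.sq, one_pow],
        commutatorElement_one_right]
      exact one_mem _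
    · rw [show (fun x => e ^ x) (2 * j + 1) = e from by
        show e ^ (2 * j + 1) = e
        rw [pow_succ, pow_mul, pow_two, h.sq, one_pow, one_mul]]
      have hu : ⁅m, e⁆ ∈ R := hR.ge (commutator_mem_commutator hm (mem_zpowers e))
      have ho : (orderOf ⁅m, e⁆).Coprime 2 := by
        refine Nat.Coprime.coprime_dvd_left (?_ : orderOf ⁅m, e⁆ ∣ Nat.card ↥M1) (Nat.coprime_two_right.2 hodd)
        rw [show orderOf ⁅m, e⁆ = orderOf (⟨⁅m, e⁆, hRM hu⟩ : ↥M1) from (Subgroup.orderOf_mk _ _).symm]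
        exact orderOf_dvd_natCard _
      obtain ⟨s, hs, -, hms⟩ := exists_sqrt ho (e := e) (by
        simp only [commutatorElement_def]
        calc e * (m * e * m⁻¹ * e⁻¹) * e⁻¹ = e * m * e * m⁻¹ * (e⁻¹ * e⁻¹) := by group
          _ = e * m * e * m⁻¹ := by rw [h.inv_e, h.sq, mul_one]
          _ = _ := by
            rw [_root_.mul_inv_rev, _root_.mul_inv_rev, _root_.mul_inv_rev, inv_inv, inv_inv, h.inv_e]; group)
      rw [hms]
      exact hD s (zpowers_le.2 hu hs)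
  suffices key : ∀ r ∈ R, (orderOf r).Coprime 3 → r ∈ centralizer (cP 3 E : Set G) by
    intro x hx
    obtain ⟨a, ha⟩ := exists_coprime_power 3 x
    exact h3 x (hRM hx) a (h.cP_cent (key _ (pow_mem hx _) ha))
  have hMP : ∀ m ∈ M1, m ∈ normalizer (cP 3 E : Set G) := fun m hm => cC_le_normalizer_cP (hMC hm)
  have hPc : ∀ {x}, x ∈ cP 3 E → x ∈ normalizer (E : Set G) := fun hx => h.cP_le_norm hx
  obtain ⟨K, hK⟩ : ∃ K, K = cP 3 E ⊓ centralizer ({e} : Set G) := ⟨_, rfl⟩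
  have hKmem : ∀ x, x ∈ K ↔ x ∈ cP 3 E ∧ x * e = e * x := fun x => by
    rw [hK, mem_inf, mem_centralizer_singleton_iff]
  have hdec : ∀ x ∈ cP 3 E, ∃ q ∈ bQ 3 E, ∃ y ∈ K, x = q * y := fun x hx => by
    obtain ⟨q, hq, -, hqy⟩ := h.decomp (h.cP_comm hx h.mem)
    exact ⟨q, hq, q⁻¹ * x, (hKmem _).2 ⟨mul_mem (inv_mem (h.bQ_le_cP hq)) hx, hqy⟩, by group⟩
  have hZK : bZ 3 E ≤ K := fun z hz => (hKmem z).2
    ⟨h.bQ_le_cP (bW_le_bQ E hz.1), (mem_centralizer_iff.1 (mem_inf.1 hz).2 e h.mem).symm⟩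
  have hKW : ∀ u ∈ bQ 3 E, u ∈ K → u ∈ bZ 3 E := fun u hu huK => h.fixed_mem_bZ hu ((hKmem u).1 huK).2.symm
  by_cases hgood : ∀ x ∈ cP 3 E, ∀ a ∈ bQ 3 E, ⁅x, a⁆ ∈ bZ 3 E
  · -- `C_P(e)` contains the Frattini subgroup
    have hqK : ∀ q ∈ bQ 3 E, ∀ k ∈ K, q * k * q⁻¹ ∈ K := fun q hq k hk => by
      rw [show q * k * q⁻¹ = ⁅k, q⁆⁻¹ * k by simp only [commutatorElement_def]; group]
      exact mul_mem (inv_mem (hZK (hgood k ((hKmem k).1 hk).1 q hq))) hk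
    obtain ⟨Φ, hΦ⟩ : ∃ Φ, Φ = (frattini ↥(cP 3 E)).map (cP 3 E).subtype := ⟨_, rfl⟩
    have hΦP : Φ ≤ cP 3 E := hΦ ▸ map_subtype_le _
    have hΦN : ∀ x, x ∈ normalizer (cP 3 E : Set G) → x ∈ normalizer (Φ : Set G) := fun x hx => by
      rw [hΦ]; exact CfsgLib.LS.normalizer_le_normalizer_map_char _ hx
    have hcΦ : ∀ x ∈ cP 3 E, ∀ y ∈ cP 3 E, ⁅x, y⁆ ∈ Φ := fun x hx y hy => hΦ.ge
      ⟨⁅(⟨x, hx⟩ : ↥(cP 3 E)), ⟨y, hy⟩⁆,
        CfsgLib.Coprime.commutator_le_frattini cP_pgroup (commutator_mem_commutator (mem_top _) (mem_top _)), rfl⟩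
    have h3Φ : ∀ x ∈ cP 3 E, x ^ 3 ∈ Φ := fun x hx =>
      hΦ.ge ⟨⟨x, hx⟩ ^ 3, CfsgLib.Coprime.pow_mem_frattini cP_pgroup _, rfl⟩
    have hΦK : Φ ≤ K := by
      have hle : frattini ↥(cP 3 E) ≤ K.subgroupOf (cP 3 E) := by
        refine CfsgLib.FrattiniLe.frattini_le_of_pow_of_commutator (p := 3) (fun x => ?_) ?_
        · obtain ⟨q, hq, y, hy, hxy⟩ := hdec x x.2
          refine mem_subgroupOf.2 ?_
          rw [Subgroup.coe_pow, hxy]
          have hz : ∀ i : ℕ, ⁅y ^ i, q⁆ ∈ bZ 3 E := fun i => hgood _ (pow_mem ((hKmem y).1 hy).1 i) q hq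
          obtain ⟨z₁, hz₁, hy₁⟩ : ∃ z₁ ∈ bZ 3 E, y * q = z₁ * q * y :=
            ⟨⁅y, q⁆, by simpa using hz 1, by simp only [commutatorElement_def]; group⟩
          obtain ⟨z₂, hz₂, hy₂⟩ : ∃ z₂ ∈ bZ 3 E, y * y * q = z₂ * q * (y * y) :=
            ⟨⁅y * y, q⁆, by rw [← pow_two]; exact hz 2, by simp only [commutatorElement_def]; group⟩
          have e1 : (q * y) ^ 3 = q * (z₁ * q) * (z₂ * q) * (y * y * y) := by
            calc (q * y) ^ 3 = q * (y * q) * y * q * y := by rw [pow_succ, pow_two]; group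
              _ = q * (z₁ * q) * (y * y * q) * y := by rw [hy₁]; group
              _ = _ := by rw [hy₂]; group
          rw [e1]
          refine mul_mem ?_ (mul_mem (mul_mem hy hy) hy)
          have c1 : q * z₁ = z₁ * q := bW_comm_bQ hz₁.1 hq
          have c2 : q * q * z₂ = z₂ * (q * q) := bW_comm_bQ hz₂.1 (mul_mem hq hq)
          rw [show q * (z₁ * q) * (z₂ * q) = (q * z₁) * q * z₂ * q by group, c1,
            show z₁ * q * q * z₂ * q = z₁ * (q * q * z₂) * q by group, c2,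
            show z₁ * (z₂ * (q * q)) * q = z₁ * z₂ * q ^ 3 by rw [pow_succ, pow_two]; group]
          exact hZK (mul_mem (mul_mem hz₁ hz₂) (h.pow_three hq))
        · rw [commutator_def, commutator_le]
          intro x _ x' _
          obtain ⟨q, hq, y, hy, hxy⟩ := hdec x x.2
          obtain ⟨q', hq', y', hy', hxy'⟩ := hdec x' x'.2
          refine mem_subgroupOf.2 ?_
          show ⁅(x : G), (x' : G)⁆ ∈ K
          have hyP := ((hKmem y).1 hy).1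
          have hy'P := ((hKmem y').1 hy').1
          rw [hxy, hxy', show ⁅q * y, q' * y'⁆ = q * (⁅y, q'⁆ * (q' * ⁅y, y'⁆ * q'⁻¹)) * q⁻¹ *
            (⁅q, q'⁆ * (q' * ⁅y', q⁆⁻¹ * q'⁻¹)) by simp only [commutatorElement_def]; group]
          refine mul_mem (hqK q hq _ (mul_mem (hZK (hgood y hyP q' hq')) (hqK q' hq' _ ?_)))
            (mul_mem (hZK (h.derived.le (commutator_mem_commutator hq hq')))
              (hqK q' hq' _ (inv_mem (hZK (hgood y' hy'P q hq)))))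
          rw [commutatorElement_def]
          exact mul_mem (mul_mem (mul_mem hy hy') (inv_mem hy)) (inv_mem hy')
      rw [hΦ]
      exact (map_mono hle).trans (by rw [map_subgroupOf_eq_of_le (hK ▸ inf_le_left)])
    have hsec : IsAbSec (cP 3 E) Φ := ⟨hΦP, commutator_le.2 hcΦ⟩
    obtain ⟨X, iX, ⟨S⟩⟩ := exists_secRep hsec
    haveI := S.finite
    obtain ⟨M, iM, ⟨U⟩⟩ := exists_secRep h.secQZ
    have hS : ∀ x, x ∈ normalizer (cP 3 E : Set G) → x ∈ secN (cP 3 E) Φ := fun x hx => ⟨hx, hΦN x hx⟩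
    have hX3 : ∀ v : X, 3 • v = 0 := fun v => by
      obtain ⟨u, hu, rfl⟩ := S.pr_surj v
      rw [succ_nsmul, two_nsmul, ← S.pr_mul u hu u hu, ← S.pr_mul _ (mul_mem hu hu) u hu,
        S.pr_eq_zero _ (mul_mem (mul_mem hu hu) hu), show u * u * u = u ^ 3 by rw [pow_succ, pow_two]]
      exact h3Φ u hu
    have hPtriv : ∀ (x : G) (hx : x ∈ cP 3 E), S.act ⟨x, hS x (le_normalizer hx)⟩ = 1 := fun x hx =>
      (S.triv_iff ⟨x, hS x (le_normalizer hx)⟩).1 fun a ha => hcΦ x hx a ha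
    obtain ⟨e', he'⟩ : ∃ e' : ↥(secN (cP 3 E) Φ), e' = ⟨e, hS e (cP_norm h.e_norm)⟩ := ⟨_, rfl⟩
    have hev : (e' : G) = e := by rw [he']
    have hee : S.act e' * S.act e' = 1 := by
      rw [← map_mul, show e' * e' = 1 from Subtype.ext (by rw [Subgroup.coe_mul, hev]; exact h.sq), map_one]
    have hee' : ∀ v, S.act e' (S.act e' v) = v := fun v => congrArg (fun f : AddMonoid.End X => f v) hee
    have hnorm : ∀ (x : G) (hx : x ∈ normalizer (E : Set G)) v,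
        S.act e' (S.act ⟨x, hS x (cP_norm hx)⟩ v) = S.act ⟨x, hS x (cP_norm hx)⟩ (S.act e' v) := by
      intro x hx v
      obtain ⟨q, hq, hqe⟩ : ∃ q, q ∈ bQ 3 E ∧ q = ⁅x, e⁆ := ⟨_, h.conj_mem_bQ hx, rfl⟩
      have h1 := hPtriv q (h.bQ_le_cP hq)
      have h2 : (⟨x, hS x (cP_norm hx)⟩ : ↥(secN (cP 3 E) Φ)) * e' =
          ⟨q, hS q (le_normalizer (h.bQ_le_cP hq))⟩ * (e' * ⟨x, hS x (cP_norm hx)⟩) := Subtype.ext (by
        show x * (e' : G) = q * ((e' : G) * x)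
        rw [hev, hqe, commutatorElement_def]; group)
      have h3 := congrArg S.act h2
      rw [map_mul, map_mul, h1, one_mul, map_mul] at h3
      exact (congrArg (fun f : AddMonoid.End X => f v) h3).symm
    -- the map of `Q / Z` onto the inverted part
    choose l hl hlm using U.pr_surj
    have hwd : ∀ a ∈ bQ 3 E, S.act e' (S.pr (l (U.pr a))) - S.pr (l (U.pr a)) = S.act e' (S.pr a) - S.pr a := by
      intro a ha
      obtain ⟨z, hz, hza⟩ : ∃ z ∈ bZ 3 E, l (U.pr a) = z * a :=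
        ⟨l (U.pr a) * a⁻¹, (U.pr_eq_iff (hl _) ha).1 (hlm _), by group⟩
      have hzP : z ∈ cP 3 E := h.bQ_le_cP (bW_le_bQ E hz.1)
      have hze : S.act e' (S.pr z) = S.pr z := by
        rw [← S.pr_act e' z hzP, hev, ← ((hKmem z).1 (hZK hz)).2, mul_inv_cancel_right]
      rw [hza, S.pr_mul z hzP a (h.bQ_le_cP ha), map_add, hze]
      abel
    let j : M →+ X := AddMonoidHom.mk' (fun m => S.act e' (S.pr (l m)) - S.pr (l m)) fun m m' => by
      have h1 := hwd _ (mul_mem (hl m) (hl m'))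
      rw [U.pr_mul _ (hl m) _ (hl m'), hlm, hlm, S.pr_mul _ (h.bQ_le_cP (hl m)) _ (h.bQ_le_cP (hl m')),
        map_add] at h1
      rw [h1]
      abel
    have hj : ∀ a ∈ bQ 3 E, j (U.pr a) = S.act e' (S.pr a) - S.pr a := hwd
    have hjinj : Function.Injective j := by
      refine (injective_iff_map_eq_zero _).2 fun m hm => ?_
      obtain ⟨a, ha, rfl⟩ := U.pr_surj m
      rw [hj a ha] at hm
      have hu : ⁅e, a⁆ ∈ bQ 3 E := by
        rw [commutatorElement_def]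
        exact mul_mem ((mem_normalizer_iff.1 (bQ_norm h.e_norm) a).1 ha) (inv_mem ha)
      have huΦ : ⁅e, a⁆ ∈ Φ := (S.pr_eq_zero _ (h.bQ_le_cP hu)).1 (by
        rw [show e = (e' : G) from hev.symm, S.pr_comm e' (h.bQ_le_cP ha)]; exact hm)
      have hue := ((hKmem _).1 (hΦK huΦ)).2
      have h2 : ⁅e, a⁆ ^ 2 = 1 := by
        have e1 : e * ⁅e, a⁆ * e⁻¹ = ⁅e, a⁆⁻¹ := by
          simp only [commutatorElement_def]
          calc e * (e * a * e⁻¹ * a⁻¹) * e⁻¹ = (e * e) * a * e⁻¹ * a⁻¹ * e⁻¹ := by group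
            _ = a * e⁻¹ * a⁻¹ * e⁻¹ := by rw [h.sq, one_mul]
            _ = (e * a * e⁻¹ * a⁻¹)⁻¹ := by
              rw [_root_.mul_inv_rev, _root_.mul_inv_rev, _root_.mul_inv_rev, inv_inv, inv_inv, h.inv_e]; group
        rw [← hue, mul_inv_cancel_right] at e1
        rw [pow_two]
        nth_rw 2 [e1]
        exact mul_inv_cancel _
      refine (U.pr_eq_zero a ha).2 (h.fixed_mem_bZ ha (commutatorElement_eq_one_iff_mul_comm.1 ?_))
      exact orderOf_eq_one_iff.1 (Nat.eq_one_of_dvd_coprimes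
        (h.odd_of_mem (CfsgLib.JComp.isPGroup_pCoreOf 3 E) hu) dvd_rfl (orderOf_dvd_of_pow_eq_one h2))
    have hjneg : ∀ m, S.act e' (j m) = -j m := fun m => by
      show S.act e' (S.act e' _ - _) = -(S.act e' _ - _)
      rw [map_sub, hee', neg_sub]
    have hjrange : ∀ v, S.act e' v = -v → ∃ m, j m = v := by
      intro v hv
      obtain ⟨x, hx, hxv⟩ := S.pr_surj v
      obtain ⟨q, hq, y, hy, hxy⟩ := hdec x hx
      have hyP := ((hKmem y).1 hy).1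
      have hye : S.act e' (S.pr y) = S.pr y := by
        rw [← S.pr_act e' y hyP, hev, ← ((hKmem y).1 hy).2, mul_inv_cancel_right]
      refine ⟨U.pr q, ?_⟩
      rw [hj q hq]
      have h1 : S.act e' v - v = v := by
        have := hX3 v
        rw [succ_nsmul, two_nsmul] at this
        rw [hv]
        linear_combination (norm := abel) -this
      rw [← hxv, hxy, S.pr_mul q (h.bQ_le_cP hq) y hyP, map_add, hye] at h1
      rw [← hxv, hxy, S.pr_mul q (h.bQ_le_cP hq) y hyP]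
      linear_combination (norm := abel) h1
    have hjact : ∀ (x : G) (hx : x ∈ normalizer (E : Set G)) m,
        j (U.act ⟨x, Exc.norm_QZ hx⟩ m) = S.act ⟨x, hS x (cP_norm hx)⟩ (j m) := by
      intro x hx m
      obtain ⟨a, ha, rfl⟩ := U.pr_surj m
      rw [← U.pr_act ⟨x, Exc.norm_QZ hx⟩ a ha, hj _ (conj_mem_of_secN (Exc.norm_QZ hx) ha), hj a ha]
      show S.act e' (S.pr (x * a * x⁻¹)) - S.pr (x * a * x⁻¹) = _
      rw [show S.pr (x * a * x⁻¹) = S.act ⟨x, hS x (cP_norm hx)⟩ (S.pr a) from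
        S.pr_act ⟨x, hS x (cP_norm hx)⟩ a (h.bQ_le_cP ha), map_sub, hnorm x hx]
    -- the image of `M1`
    obtain ⟨φ, hφ⟩ : ∃ φ : ↥M1 →* (AddMonoid.End X)ˣ, ∀ m : ↥M1,
        (φ m : AddMonoid.End X) = S.act ⟨m, hS m (hMP m m.2)⟩ :=
      ⟨(S.act.comp (MonoidHom.mk' (fun m : ↥M1 => (⟨(m : G), hS m (hMP m m.2)⟩ : ↥(secN (cP 3 E) Φ)))
        fun _ _ => rfl)).toHomUnits, fun _ => rfl⟩
    haveI : Finite (AddMonoid.End X) :=
      Finite.of_injective (fun f : AddMonoid.End X => (f : X → X)) DFunLike.coe_injective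
    haveI : Finite (AddMonoid.End X)ˣ := Finite.of_injective _ Units.val_injective
    have hnd : ¬ 3 ∣ Nat.card φ.range := by
      intro hdvd
      obtain ⟨⟨y, m, rfl⟩, hy⟩ := exists_prime_orderOf_dvd_card' 3 hdvd
      rw [← Subgroup.orderOf_coe] at hy
      obtain ⟨a, c, hc', hac⟩ := Nat.exists_eq_pow_mul_and_not_dvd (orderOf_pos m).ne' 3 (by norm_num)
      have hmp : (m : G) ^ c ∈ cP 3 E := by
        refine h3 _ (pow_mem m.2 _) a ?_
        rw [← pow_mul, mul_comm, ← hac, ← Subgroup.coe_pow, pow_orderOf_eq_one]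
        exact one_mem _
      have h1 : φ m ^ c = 1 := by
        rw [← map_pow]
        exact Units.ext ((hφ _).trans (hPtriv _ hmp))
      exact hc' (hy ▸ orderOf_dvd_of_pow_eq_one h1)
    haveI := Fintype.ofFinite ↥φ.range
    obtain ⟨N, hNd⟩ : ∃ N, N = Nat.card φ.range := ⟨_, rfl⟩
    have hNN : (N * N) % 3 = 1 := by
      have : N % 3 ≠ 0 := fun h0 => hnd (hNd ▸ Nat.dvd_of_mod_eq_zero h0)
      rcases (show N % 3 = 1 ∨ N % 3 = 2 by omega) with h1 | h1 <;> simp [Nat.mul_mod, h1]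
    let avg : X → X := fun v => N • ∑ f : ↥φ.range, ((f : (AddMonoid.End X)ˣ) : AddMonoid.End X) v
    have havg_comm : ∀ (x : G) (hx : x ∈ normalizer (E : Set G)) v,
        avg (S.act ⟨x, hS x (cP_norm hx)⟩ v) = S.act ⟨x, hS x (cP_norm hx)⟩ (avg v) := by
      intro x hx v
      obtain ⟨x', hx'⟩ : ∃ x' : ↥(secN (cP 3 E) Φ), x' = ⟨x, hS x (cP_norm hx)⟩ := ⟨_, rfl⟩
      rw [← hx']
      obtain ⟨u, hu⟩ : ∃ u : (AddMonoid.End X)ˣ, (u : AddMonoid.End X) = S.act x' := ⟨S.act.toHomUnits x', rfl⟩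
      have hcj : ∀ f : ↥φ.range, u⁻¹ * (f : (AddMonoid.End X)ˣ) * u ∈ φ.range := by
        rintro ⟨_, r, rfl⟩
        have hr' : x⁻¹ * (r : G) * x ∈ M1 := (mem_normalizer_iff''.1 (hN x hx) r).1 r.2
        refine ⟨⟨_, hr'⟩, ?_⟩
        show φ ⟨x⁻¹ * (r : G) * x, hr'⟩ = u⁻¹ * φ r * u
        rw [mul_assoc u⁻¹, eq_inv_mul_iff_mul_eq]
        refine Units.ext ?_
        rw [Units.val_mul, Units.val_mul, hu, hφ, hφ, ← map_mul, ← map_mul]
        exact congrArg S.act (Subtype.ext (by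
          rw [hx']
          show x * (x⁻¹ * (r : G) * x) = r * x
          group))
      have hbij : Function.Bijective (fun f : ↥φ.range => (⟨_, hcj f⟩ : ↥φ.range)) :=
        Finite.injective_iff_bijective.1 fun f f' hff => Subtype.ext
          (mul_left_cancel (mul_right_cancel (congrArg Subtype.val hff)))
      show N • ∑ f : ↥φ.range, _ = S.act x' (N • ∑ f : ↥φ.range, _)
      rw [map_nsmul, map_sum]
      congr 1
      refine Fintype.sum_bijective _ hbij _ _ fun f => ?_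
      show (((f : (AddMonoid.End X)ˣ) : AddMonoid.End X) * S.act x') v = (S.act x' * ((u⁻¹ * (f : (AddMonoid.End X)ˣ) * u : (AddMonoid.End X)ˣ) : AddMonoid.End X)) v
      rw [← hu, ← Units.val_mul, ← Units.val_mul, mul_assoc u⁻¹, mul_inv_cancel_left]
    have havg_mem : ∀ m, ∃ m', j m' = avg (j m) := fun m => hjrange _ (by
      rw [show e' = ⟨e, hS e (cP_norm h.e_norm)⟩ from he', ← havg_comm e h.e_norm, ← he', hjneg]
      show N • ∑ f : ↥φ.range, _ = -(N • ∑ f : ↥φ.range, _)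
      rw [← smul_neg, ← Finset.sum_neg_distrib]
      exact congrArg _ (Fintype.sum_congr _ _ fun f => map_neg _ _))
    choose pf hpf using havg_mem
    obtain ⟨π, hπ⟩ : ∃ π : AddMonoid.End M, ∀ m, j (π m) = avg (j m) :=
      ⟨AddMonoidHom.mk' pf fun a b => hjinj (by
        rw [map_add, hpf, hpf, hpf, map_add]
        show N • ∑ f : ↥φ.range, _ = N • _ + N • _
        rw [← nsmul_add, ← Finset.sum_add_distrib]
        exact congrArg _ (Fintype.sum_congr _ _ fun f => map_add _ _ _)), hpf⟩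
    have hfixW : ∀ (m : G) (hm : m ∈ M1), ∀ w ∈ bW 3 E, S.act ⟨m, hS m (hMP m hm)⟩ (j (U.pr w)) = j (U.pr w) := by
      intro m hm w hw
      obtain ⟨v, hv, z, hz, rfl⟩ := CfsgLib.Coprime.mem_sup_exists
        (show bZ 3 E ≤ normalizer (bV 3 E : Set G) from fun z hz => bV_norm (le_normalizer (bQ_le E
          (bW_le_bQ E (mem_inf.1 hz).1)))) ((CfsgLib.BaumannBlock.V_sup_Z h.facts h.ne_bot).ge hw)
      have hzQ : z ∈ bQ 3 E := bW_le_bQ E hz.1
      have hvQ : v ∈ bQ 3 E := bW_le_bQ E (bV_le_bW h.facts hv)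
      rw [U.pr_mul v hvQ z hzQ, (U.pr_eq_zero z hzQ).2 hz, add_zero, hj v hvQ, show S.act e' (S.pr v) - S.pr v =
        S.pr ⁅(e' : G), v⁆ from (S.pr_comm e' (h.bQ_le_cP hvQ)).symm, hev]
      have hev' : ⁅e, v⁆ ∈ bV 3 E := by
        rw [commutatorElement_def]
        exact mul_mem ((mem_normalizer_iff.1 (bV_norm h.e_norm) v).1 hv) (inv_mem hv)
      rw [← S.pr_act ⟨m, hS m (hMP m hm)⟩ _ (h.bQ_le_cP (bW_le_bQ E (bV_le_bW h.facts hev')))]
      refine congrArg S.pr (mul_inv_eq_iff_eq_mul.2 ?_)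
      exact (mem_centralizer_iff.1 (hMC hm) _ hev').symm
    obtain ⟨F, hF⟩ : ∃ F : Subgroup G, ∀ a, a ∈ F ↔
        a ∈ bQ 3 E ∧ ∀ m (hm : m ∈ M1), S.act ⟨m, hS m (hMP m hm)⟩ (j (U.pr a)) = j (U.pr a) :=
      ⟨{ carrier := {a | a ∈ bQ 3 E ∧ ∀ m (hm : m ∈ M1), S.act ⟨m, hS m (hMP m hm)⟩ (j (U.pr a)) = j (U.pr a)}
         one_mem' := ⟨one_mem _, fun r hr => by rw [U.pr_one, map_zero, map_zero]⟩
         mul_mem' := fun {z w} hz hw => ⟨mul_mem hz.1 hw.1, fun r hr => by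
           rw [U.pr_mul _ hz.1 _ hw.1, map_add, map_add, hz.2 r hr, hw.2 r hr]⟩
         inv_mem' := fun {z} hz => ⟨inv_mem hz.1, fun r hr => by rw [U.pr_inv hz.1, map_neg, map_neg, hz.2 r hr]⟩ },
        fun _ => Iff.rfl⟩
    rcases h.secQ.irr F (fun a ha => ((hF a).1 ha).1)
      (fun w hw => (hF w).2 ⟨bW_le_bQ E hw, fun m hm => hfixW m hm w hw⟩) (fun g hg => by
      refine CfsgLib.Fusion.conjBy_eq_iff.1 (CfsgLib.Fusion.conjBy_eq_of_le ?_)
      rintro _ ⟨a, ha, rfl⟩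
      obtain ⟨haQ, hfa⟩ := (hF a).1 ha
      have hgN : g ∈ normalizer (E : Set G) := le_normalizer hg
      refine (hF _).2 ⟨conj_mem_of_secN (Exc.norm_QZ hgN) haQ, fun m hm => ?_⟩
      show S.act ⟨m, hS m (hMP m hm)⟩ (j (U.pr (g * a * g⁻¹))) = j (U.pr (g * a * g⁻¹))
      have hm' : g⁻¹ * m * g ∈ M1 := (mem_normalizer_iff''.1 (hN g hgN) m).1 hm
      rw [U.pr_act ⟨g, Exc.norm_QZ hgN⟩ a haQ, hjact g hgN]
      show (S.act ⟨m, hS m (hMP m hm)⟩ * S.act ⟨g, hS g (cP_norm hgN)⟩) (j (U.pr a)) = _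
      rw [← map_mul, show (⟨m, hS m (hMP m hm)⟩ * ⟨g, hS g (cP_norm hgN)⟩ : ↥(secN (cP 3 E) Φ)) =
        ⟨g, hS g (cP_norm hgN)⟩ * ⟨g⁻¹ * m * g, hS _ (hMP _ hm')⟩ from
          Subtype.ext (show m * g = g * (g⁻¹ * m * g) by group), map_mul]
      exact congrArg _ (hfa _ hm')) with hFW | hFQ
    · exfalso
      obtain ⟨b, hb⟩ := h.exists_isQuad
      refine no_split h.toExc hb U π (AddMonoidHom.ext fun m => hjinj ?_) (fun a ha => hjinj ?_) fun m => ?_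
      · show j (π (U.act _ m)) = j (U.act _ (π m))
        rw [hπ, hjact b (hb.norm h.toExc), hjact b (hb.norm h.toExc), hπ, havg_comm b (hb.norm h.toExc)]
      · rw [hπ]
        show N • ∑ f : ↥φ.range, _ = _
        have h1 : ∀ f : ↥φ.range, ((f : (AddMonoid.End X)ˣ) : AddMonoid.End X) (j (U.pr a)) = j (U.pr a) := by
          rintro ⟨_, r, rfl⟩
          rw [hφ r]
          exact hfixW r r.2 a ha
        rw [Fintype.sum_congr _ _ h1, Finset.sum_const, Finset.card_univ, ← Nat.card_eq_fintype_card, ← hNd,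
          ← mul_nsmul, ← Nat.mod_add_div (N * N) 3, hNN, add_nsmul, one_nsmul, mul_nsmul, hX3, nsmul_zero, add_zero]
      · obtain ⟨a, ha, hma⟩ := U.pr_surj (π m)
        refine ⟨a, hFW.le ((hF a).2 ⟨ha, fun r hr => ?_⟩), hma.symm⟩
        rw [hma, hπ]
        show S.act ⟨r, hS r (hMP r hr)⟩ (N • ∑ f : ↥φ.range, _) = N • ∑ f : ↥φ.range, _
        rw [map_nsmul, map_sum]
        congr 1
        refine Fintype.sum_bijective _ (Group.mulLeft_bijective (⟨φ ⟨r, hr⟩, ⟨r, hr⟩, rfl⟩ : ↥φ.range)) _ _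
          fun f => ?_
        show S.act ⟨r, hS r (hMP r hr)⟩ _ =
          ((φ ⟨r, hr⟩ * (f : (AddMonoid.End X)ˣ) : (AddMonoid.End X)ˣ) : AddMonoid.End X) _
        rw [Units.val_mul, hφ]
        rfl
    · -- `M1` fixes the inverted part
      have hfix : ∀ (m : G) (hm : m ∈ M1) y, S.act ⟨m, hS m (hMP m hm)⟩ (j y) = j y := by
        intro m hm y
        obtain ⟨a, ha, rfl⟩ := U.pr_surj y
        exact ((hF a).1 (hFQ.ge ha)).2 m hm
      obtain ⟨D, hD⟩ : ∃ D : Subgroup G, ∀ x, x ∈ D ↔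
          ∃ hx : x ∈ M1, ∀ v, ∃ y, j y = S.act ⟨x, hS x (hMP x hx)⟩ v - v :=
        ⟨{ carrier := {x | ∃ hx : x ∈ M1, ∀ v, ∃ y, j y = S.act ⟨x, hS x (hMP x hx)⟩ v - v}
           one_mem' := ⟨one_mem _, fun v => ⟨0, by
             rw [map_zero]
             exact (sub_eq_zero.2 (congrArg (fun f : AddMonoid.End X => f v) (map_one S.act))).symm⟩⟩
           mul_mem' := fun {x z} ⟨hx, hxv⟩ ⟨hz, hzv⟩ => ⟨mul_mem hx hz, fun v => by
             obtain ⟨y₁, hy₁⟩ := hzv v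
             obtain ⟨y₂, hy₂⟩ := hxv v
             refine ⟨y₁ + y₂, ?_⟩
             rw [map_add, ← hfix x hx y₁, hy₁, hy₂, map_sub]
             show _ = S.act (⟨x, hS x (hMP x hx)⟩ * ⟨z, hS z (hMP z hz)⟩) v - v
             rw [map_mul]
             show _ = S.act ⟨x, hS x (hMP x hx)⟩ (S.act ⟨z, hS z (hMP z hz)⟩ v) - v
             abel⟩
           inv_mem' := fun {x} ⟨hx, hxv⟩ => ⟨inv_mem hx, fun v => by
             obtain ⟨y, hy⟩ := hxv v
             refine ⟨-y, ?_⟩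
             rw [map_neg, ← hfix x⁻¹ (inv_mem hx) y, hy, map_sub, neg_sub]
             congr 1
             show (S.act (⟨x, hS x (hMP x hx)⟩⁻¹) * S.act ⟨x, hS x (hMP x hx)⟩) v = v
             rw [← map_mul, inv_mul_cancel, map_one]
             rfl⟩ }, fun _ => Iff.rfl⟩
      have hRD : R ≤ D := hRle D fun s hs => (hD _).2 ⟨hRM (by
        rw [hR]; exact commutator_mem_commutator (hRM hs) (mem_zpowers e)), fun v => by
        obtain ⟨s', hs'⟩ : ∃ s' : ↥(secN (cP 3 E) Φ), s' = ⟨s, hS s (hMP s (hRM hs))⟩ := ⟨_, rfl⟩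
        obtain ⟨w, hw⟩ : ∃ w, w = S.act s'⁻¹ (S.act e' v) := ⟨_, rfl⟩
        obtain ⟨y₁, hy₁⟩ := hjrange (S.act e' w - w) (by rw [map_sub, hee', neg_sub])
        obtain ⟨y₂, hy₂⟩ := hjrange (S.act e' v - v) (by rw [map_sub, hee', neg_sub])
        refine ⟨y₁ + y₂, ?_⟩
        rw [map_add, ← hfix s (hRM hs) y₁, hy₁, hy₂, ← hs', map_sub]
        have h1 : S.act s' w = S.act e' v := by
          rw [hw]
          show (S.act s' * S.act s'⁻¹) _ = _
          rw [← map_mul, mul_inv_cancel, map_one]; rfl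
        rw [h1, show (⟨⁅s, e⁆, _⟩ : ↥(secN (cP 3 E) Φ)) = s' * e' * s'⁻¹ * e'⁻¹ from Subtype.ext (by
          rw [hs']
          show ⁅s, e⁆ = s * (e' : G) * s⁻¹ * (e' : G)⁻¹
          rw [hev, commutatorElement_def])]
        have h2 : S.act e'⁻¹ v = S.act e' v := by
          rw [show e'⁻¹ = e' from Subtype.ext (by rw [Subgroup.coe_inv, hev]; exact h.inv_e)]
        rw [map_mul, map_mul, map_mul]
        show _ = S.act s' (S.act e' (S.act s'⁻¹ (S.act e'⁻¹ v))) - v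
        rw [h2, ← hw]
        abel⟩
      intro r hr ho
      obtain ⟨hrM, hrv⟩ := (hD r).1 (hRD hr)
      obtain ⟨r', hr'⟩ : ∃ r' : ↥(secN (cP 3 E) Φ), r' = ⟨r, hS r (hMP r hrM)⟩ := ⟨_, rfl⟩
      have h3r : S.act r' ^ 3 = 1 := AddMonoidHom.ext fun v => by
        obtain ⟨y, hy⟩ := hrv v
        have h1 := hfix r hrM y
        rw [← hr'] at hy h1
        rw [hy, map_sub] at h1
        show S.act r' (S.act r' (S.act r' v)) = v
        have h2 := congrArg (S.act r') h1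
        simp only [map_sub] at h2
        have h4 := hX3 (S.act r' v - v)
        rw [succ_nsmul, two_nsmul] at h4
        linear_combination (norm := abel) h2 + h1 + h1 + h4
      have hr1 : S.act r' = 1 := by
        refine orderOf_eq_one_iff.1 (Nat.eq_one_of_dvd_coprimes ho ?_ (orderOf_dvd_of_pow_eq_one h3r))
        refine (orderOf_map_dvd S.act r').trans (dvd_of_eq ?_)
        rw [← Subgroup.orderOf_coe, hr']
      have hst : r ∈ chainStab (cP 3 E) Φ := ⟨hΦN r (hMP r hrM), hMP r hrM, fun q hq => by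
        have := (S.triv_iff r').2 hr1 q hq
        rwa [hr'] at this⟩
      have hcop : (Nat.card ↥(zpowers r)).Coprime (Nat.card ↥(frattini ↥(cP 3 E))) := by
        obtain ⟨k, hk⟩ := IsPGroup.iff_card.1 ((cP_pgroup (E := E)).to_subgroup (frattini ↥(cP 3 E)))
        rw [Nat.card_zpowers, hk]
        exact Nat.Coprime.pow_right k ho
      exact CfsgLib.Coprime.le_centralizer_of_trivial_on_frattini_quotient (zpowers_le.2 (hMP r hrM)) hcop
        (fun a ha q hq => by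
          have := (zpowers_le.2 hst ha).2.2 q hq
          rw [commutatorElement_def] at this
          rwa [hΦ] at this) (mem_zpowers r)
  -- some element of `P` moves `Q / Z`
  push Not at hgood
  obtain ⟨x₀, hx₀, hne⟩ := hgood
  obtain ⟨D, hDd⟩ : ∃ D, D = ⁅cP 3 E, cP 3 E⁆ := ⟨_, rfl⟩
  have hDP : D ≤ cP 3 E := hDd ▸ commutator_le.2 fun a ha b hb =>
    mul_mem (mul_mem (mul_mem ha hb) (inv_mem ha)) (inv_mem hb)
  have hDN : ∀ x, x ∈ normalizer (cP 3 E : Set G) → x ∈ normalizer (D : Set G) := fun x hx =>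
    hDd ▸ CfsgLib.BaumannBlock.mem_normalizer_commutator hx hx
  have hcD : ∀ x ∈ cP 3 E, ∀ y ∈ cP 3 E, ⁅x, y⁆ ∈ D := fun x hx y hy => hDd ▸ commutator_mem_commutator hx hy
  have hDQ : ∀ d ∈ D, ∀ a ∈ bQ 3 E, d * a = a * d := by
    have hle : D ≤ centralizer (bQ 3 E : Set G) := by
      rw [hDd, commutator_le]
      intro x hx y hy
      refine mem_centralizer_iff.2 fun a ha => (commutatorElement_eq_one_iff_mul_comm.1 ?_).symm
      have hd : ⁅x, y⁆ ∈ cP 3 E := hDP (hcD x hx y hy)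
      have h1 := h.comm_mul_left hd (mul_mem hy hx) ha
      rw [show ⁅x, y⁆ * (y * x) = x * y by rw [commutatorElement_def]; group, h.comm_mul_left hx hy ha,
        h.comm_mul_left hy hx ha, bW_comm_bQ (h.comm_bW hx ha) (bW_le_bQ E (h.comm_bW hy ha))] at h1
      exact mul_eq_left.1 h1.symm
    exact fun d hd a ha => (mem_centralizer_iff.1 (hle hd) a ha).symm
  have hWD : bW 3 E ≤ D := by
    intro w hw
    obtain ⟨a, ha, haw⟩ := h.pair_surj hx₀ hne hw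
    have hz : ⁅x₀, a⁆ * w⁻¹ ∈ D := hDd ▸ commutator_mono h.bQ_le_cP h.bQ_le_cP (h.derived.ge haw)
    rw [show w = (⁅x₀, a⁆ * w⁻¹)⁻¹ * ⁅x₀, a⁆ by group]
    exact mul_mem (inv_mem hz) (hcD x₀ hx₀ a (h.bQ_le_cP ha))
  have hWP : ∀ x ∈ cP 3 E, ∀ w ∈ bW 3 E, x * w = w * x := fun x hx w hw => h.cP_comm_bW hx hw
  have hWQ : bW 3 E ≤ bQ 3 E := bW_le_bQ E
  obtain ⟨K0, hK0⟩ : ∃ K0, K0 = D ⊓ K := ⟨_, rfl⟩
  have hK0mem : ∀ x, x ∈ K0 ↔ x ∈ D ∧ x ∈ K := fun x => by rw [hK0, mem_inf]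
  have hZK0 : bZ 3 E ≤ K0 := fun z hz => (hK0mem z).2 ⟨hWD hz.1, hZK hz⟩
  have hK0Z : ∀ u ∈ bW 3 E, u ∈ K0 → u ∈ bZ 3 E := fun u hu hu0 => hKW u (hWQ hu) ((hK0mem u).1 hu0).2
  have hK0n : ∀ x ∈ cP 3 E, ∀ k ∈ K0, x * k * x⁻¹ ∈ K0 := by
    intro x hx k hk
    obtain ⟨q, hq, y, hy, rfl⟩ := hdec x hx
    obtain ⟨hkD, hkK⟩ := (hK0mem k).1 hk
    have hyk : y * k * y⁻¹ ∈ D := (mem_normalizer_iff.1 (hDN y (le_normalizer ((hKmem y).1 hy).1)) k).1 hkD
    rw [show q * y * k * (q * y)⁻¹ = q * (y * k * y⁻¹) * q⁻¹ by group, ← hDQ _ hyk q hq, mul_inv_cancel_right]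
    exact (hK0mem _).2 ⟨hyk, mul_mem (mul_mem hy hkK) (inv_mem hy)⟩
  have hDdec : ∀ d ∈ D, ∃ v ∈ bV 3 E, ∃ k ∈ K0, d = v * k := by
    obtain ⟨W', hW'⟩ : ∃ W', W' = bW 3 E ⊔ K := ⟨_, rfl⟩
    have hqK : ∀ q ∈ bQ 3 E, ∀ k ∈ K, q * k * q⁻¹ ∈ W' := fun q hq k hk => by
      rw [show q * k * q⁻¹ = ⁅k, q⁆⁻¹ * k by simp only [commutatorElement_def]; group]
      exact hW'.ge (mul_mem (mem_sup_left (inv_mem (h.comm_bW ((hKmem k).1 hk).1 hq))) (mem_sup_right hk))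
    have hDW : D ≤ W' := by
      rw [hDd, commutator_le]
      intro x hx x' hx'
      obtain ⟨q, hq, y, hy, rfl⟩ := hdec x hx
      obtain ⟨q', hq', y', hy', rfl⟩ := hdec x' hx'
      have hyP := ((hKmem y).1 hy).1
      have hy'P := ((hKmem y').1 hy').1
      have hw1 := h.comm_bW hyP hq'
      have hw2 := h.comm_bW hy'P hq
      have hk : ⁅y, y'⁆ ∈ K := mul_mem (mul_mem (mul_mem hy hy') (inv_mem hy)) (inv_mem hy')
      rw [show ⁅q * y, q' * y'⁆ = (q * ⁅y, q'⁆ * q⁻¹) * ((q * q') * ⁅y, y'⁆ * (q * q')⁻¹) *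
          (⁅q, q'⁆ * (q' * ⁅y', q⁆⁻¹ * q'⁻¹)) by simp only [commutatorElement_def]; group,
        bW_comm_bQ hw1 hq, mul_inv_cancel_right, bW_comm_bQ (inv_mem hw2) hq', mul_inv_cancel_right]
      exact mul_mem (mul_mem (hW'.ge (mem_sup_left hw1)) (hqK _ (mul_mem hq hq') _ hk))
        (hW'.ge (mem_sup_left (mul_mem (h.derived.le (commutator_mem_commutator hq hq')).1 (inv_mem hw2))))
    intro d hd
    obtain ⟨w, hw, k, hk, rfl⟩ := CfsgLib.Coprime.mem_sup_exists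
      (show K ≤ normalizer (bW 3 E : Set G) from fun k hk => bW_norm (hPc ((hKmem k).1 hk).1)) (hW'.le (hDW hd))
    have hk0 : k ∈ K0 := (hK0mem k).2 ⟨by simpa using mul_mem (inv_mem (hWD hw)) hd, hk⟩
    obtain ⟨v, hv, z, hz, rfl⟩ := CfsgLib.Coprime.mem_sup_exists
      (show bZ 3 E ≤ normalizer (bV 3 E : Set G) from fun z hz => bV_norm (le_normalizer (bQ_le E
        (bW_le_bQ E (mem_inf.1 hz).1)))) ((CfsgLib.BaumannBlock.V_sup_Z h.facts h.ne_bot).ge hw)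
    exact ⟨v, hv, z * k, mul_mem (hZK0 hz) hk0, mul_assoc _ _ _⟩
  have hDP0 : ∀ d ∈ D, ∀ x ∈ cP 3 E, ⁅d, x⁆ ∈ K0 := by
    intro d hd x hx
    obtain ⟨v, hv, k, hk, rfl⟩ := hDdec d hd
    obtain ⟨q, hq, y, hy, rfl⟩ := hdec x hx
    obtain ⟨hkD, hkK⟩ := (hK0mem k).1 hk
    have hyP := ((hKmem y).1 hy).1
    have hvW := bV_le_bW h.facts hv
    have hky : ⁅k, y⁆ ∈ D := hcD k (hDP hkD) y hyP
    rw [show ⁅v * k, q * y⁆ = v * (k * (q * y) * k⁻¹) * v⁻¹ * (q * y)⁻¹ by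
        simp only [commutatorElement_def]; group,
      ← hWP _ (mul_mem (mul_mem (hDP hkD) (mul_mem (h.bQ_le_cP hq) hyP)) (inv_mem (hDP hkD))) v hvW,
      mul_inv_cancel_right, show k * (q * y) * k⁻¹ * (q * y)⁻¹ = (k * q) * (y * k⁻¹ * y⁻¹) * q⁻¹ by group,
      hDQ k hkD q hq, show q * k * (y * k⁻¹ * y⁻¹) * q⁻¹ = q * ⁅k, y⁆ * q⁻¹ by
        rw [commutatorElement_def]; group, ← hDQ _ hky q hq, mul_inv_cancel_right]
    exact (hK0mem _).2 ⟨hky, mul_mem (mul_mem (mul_mem hkK hy) (inv_mem hkK)) (inv_mem hy)⟩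
  obtain ⟨T1, hT1⟩ : ∃ T1 : Subgroup G, ∀ x, x ∈ T1 ↔ x ∈ cP 3 E ∧ ∀ y ∈ cP 3 E, ⁅x, y⁆ ∈ K0 :=
    ⟨{ carrier := {x | x ∈ cP 3 E ∧ ∀ y ∈ cP 3 E, ⁅x, y⁆ ∈ K0}
       one_mem' := ⟨one_mem _, fun y _ => by simp⟩
       mul_mem' := fun {a b} ha hb => ⟨mul_mem ha.1 hb.1, fun y hy => by
         rw [show ⁅a * b, y⁆ = a * ⁅b, y⁆ * a⁻¹ * ⁅a, y⁆ by simp only [commutatorElement_def]; group]
         exact mul_mem (hK0n a ha.1 _ (hb.2 y hy)) (ha.2 y hy)⟩
       inv_mem' := fun {a} ha => ⟨inv_mem ha.1, fun y hy => by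
         rw [show ⁅a⁻¹, y⁆ = a⁻¹ * ⁅a, y⁆⁻¹ * a⁻¹⁻¹ by simp only [commutatorElement_def]; group]
         exact hK0n _ (inv_mem ha.1) _ (inv_mem (ha.2 y hy))⟩ }, fun _ => Iff.rfl⟩
  have hT1P : T1 ≤ cP 3 E := fun x hx => ((hT1 x).1 hx).1
  have hDT : D ≤ T1 := fun d hd => (hT1 d).2 ⟨hDP hd, hDP0 d hd⟩
  have hQT : ∀ a ∈ bQ 3 E, a ∈ T1 → a ∈ bW 3 E := fun a ha hat => by
    refine h.pair_inj hx₀ hne ha (hK0Z _ (h.comm_bW hx₀ ha) ?_)
    rw [← commutatorElement_inv a x₀]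
    exact inv_mem (((hT1 a).1 hat).2 x₀ hx₀)
  obtain ⟨U, hU⟩ : ∃ U, U = bQ 3 E ⊔ T1 := ⟨_, rfl⟩
  have hUP : U ≤ cP 3 E := hU ▸ sup_le h.bQ_le_cP hT1P
  -- the criterion for membership in `U`
  have hfull : ∀ x ∈ cP 3 E, x ∈ U ↔ ¬ ∀ k ∈ D, ∃ y ∈ cP 3 E, ⁅x, y⁆ * k⁻¹ ∈ K0 := by
    intro x hx
    constructor
    · intro hxU hall
      obtain ⟨a, ha, t, ht, rfl⟩ := CfsgLib.Coprime.mem_sup_exists
        (show T1 ≤ normalizer (bQ 3 E : Set G) from fun t ht => bQ_norm (hPc (hT1P ht))) (hU.le hxU)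
      obtain ⟨w, hw, hwc⟩ := h.pair_not_all hx₀ hne ha
      obtain ⟨y, hy, hyk⟩ := hall w⁻¹ (inv_mem (hWD hw))
      rw [inv_inv] at hyk
      obtain ⟨q, hq, c, hc, rfl⟩ := hdec y hy
      have hcP := ((hKmem c).1 hc).1
      refine hwc c hcP ?_
      have hca : ⁅c, a⁆ ∈ bW 3 E := h.comm_bW hcP ha
      have h1 : ⁅a * t, q * c⁆ * w = (a * ⁅t, q * c⁆ * a⁻¹) * ⁅a, q⁆ * (⁅c, a⁆⁻¹ * w) := by
        rw [show ⁅a * t, q * c⁆ = (a * ⁅t, q * c⁆ * a⁻¹) * ⁅a, q⁆ * (q * ⁅c, a⁆⁻¹ * q⁻¹) by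
          simp only [commutatorElement_def]; group, bW_comm_bQ (inv_mem hca) hq, mul_inv_cancel_right,
          mul_assoc]
      have h2 : ⁅c, a⁆⁻¹ * w ∈ K0 := by
        have h3 : (a * ⁅t, q * c⁆ * a⁻¹) * ⁅a, q⁆ ∈ K0 :=
          mul_mem (hK0n a (h.bQ_le_cP ha) _ (((hT1 t).1 ht).2 _ hy))
            (hZK0 (h.derived.le (commutator_mem_commutator ha hq)))
        have := mul_mem (inv_mem h3) (h1 ▸ hyk)
        rwa [inv_mul_cancel_left] at this
      have h4 := hK0Z _ (mul_mem (inv_mem hca) hw) h2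
      have h5 := inv_mem h4
      rwa [_root_.mul_inv_rev, inv_inv, ← bW_comm_bQ (inv_mem hw) (hWQ hca)] at h5
    · intro hnall
      by_contra hxU
      refine hnall fun k hk => ?_
      obtain ⟨q, hq, c, hc, rfl⟩ := hdec x hx
      have hcP := ((hKmem c).1 hc).1
      obtain ⟨y, hy, hcy⟩ : ∃ y ∈ cP 3 E, ⁅c, y⁆ ∉ K0 := by
        by_contra! hcon
        exact hxU (hU.ge (mul_mem (mem_sup_left hq) (mem_sup_right ((hT1 c).2 ⟨hcP, hcon⟩))))
      obtain ⟨q', hq', c', hc', rfl⟩ := hdec y hy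
      have hc'P := ((hKmem c').1 hc').1
      have hne' : ∃ a ∈ bQ 3 E, ⁅c, a⁆ ∉ bZ 3 E := ⟨q', hq', fun hz => hcy (by
        rw [show ⁅c, q' * c'⁆ = ⁅c, q'⁆ * (q' * ⁅c, c'⁆ * q'⁻¹) by simp only [commutatorElement_def]; group,
          ← hDQ _ (hcD c hcP c' hc'P) q' hq', mul_inv_cancel_right]
        exact mul_mem (hZK0 hz) ((hK0mem _).2 ⟨hcD c hcP c' hc'P,
          mul_mem (mul_mem (mul_mem hc hc') (inv_mem hc)) (inv_mem hc')⟩))⟩
      obtain ⟨v, hv, k0, hk0, rfl⟩ := hDdec k hk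
      have hvW := bV_le_bW h.facts hv
      obtain ⟨a, ha, haw⟩ := h.pair_surj hcP hne' hvW
      refine ⟨a, h.bQ_le_cP ha, ?_⟩
      have hz : ⁅q, a⁆ ∈ bZ 3 E := h.derived.le (commutator_mem_commutator hq ha)
      rw [show ⁅q * c, a⁆ * (v * k0)⁻¹ = q * ⁅c, a⁆ * q⁻¹ * (⁅q, a⁆ * k0⁻¹ * v⁻¹) by
          simp only [commutatorElement_def]; group,
        bW_comm_bQ (h.comm_bW hcP ha) hq, mul_inv_cancel_right,
        hWP (⁅q, a⁆ * k0⁻¹) (mul_mem (hDP (hWD hz.1)) (inv_mem (hDP ((hK0mem k0).1 hk0).1))) v⁻¹ (inv_mem hvW),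
        ← mul_assoc]
      exact mul_mem (hZK0 haw) (mul_mem (hZK0 hz) (inv_mem hk0))
  -- invariance
  have hinvK : ∀ s : G, s ∈ normalizer (cP 3 E : Set G) → s ∈ normalizer (K0 : Set G) →
      s ∈ normalizer (T1 : Set G) ∧ s ∈ normalizer (U : Set G) := by
    intro s hsP hsK
    have hconj : ∀ {x y : G}, ⁅s * x * s⁻¹, s * y * s⁻¹⁆ = s * ⁅x, y⁆ * s⁻¹ := fun {x y} => by
      simp only [commutatorElement_def]; group
    constructor
    · refine CfsgLib.Fusion.conjBy_eq_iff.1 (CfsgLib.Fusion.conjBy_eq_of_le ?_)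
      rintro _ ⟨x, hx, rfl⟩
      obtain ⟨hxP, hxc⟩ := (hT1 x).1 hx
      refine (hT1 _).2 ⟨(mem_normalizer_iff.1 hsP x).1 hxP, fun y hy => ?_⟩
      show ⁅s * x * s⁻¹, y⁆ ∈ K0
      rw [show y = s * (s⁻¹ * y * s) * s⁻¹ by group, hconj]
      exact (mem_normalizer_iff.1 hsK _).1 (hxc _ ((mem_normalizer_iff''.1 hsP y).1 hy))
    · refine CfsgLib.Fusion.conjBy_eq_iff.1 (CfsgLib.Fusion.conjBy_eq_of_le ?_)
      rintro _ ⟨x, hx, rfl⟩
      have hxP := hUP hx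
      refine (hfull _ ((mem_normalizer_iff.1 hsP x).1 hxP)).2 fun hall => (hfull x hxP).1 hx fun k hk => ?_
      obtain ⟨y, hy, hyk⟩ := hall (s * k * s⁻¹) ((mem_normalizer_iff.1 (hDN s hsP) k).1 hk)
      refine ⟨s⁻¹ * y * s, (mem_normalizer_iff''.1 hsP y).1 hy, ?_⟩
      refine (mem_normalizer_iff.1 hsK _).2 ?_
      have hyk : ⁅s * x * s⁻¹, y⁆ * (s * k * s⁻¹)⁻¹ ∈ K0 := hyk
      rwa [show y = s * (s⁻¹ * y * s) * s⁻¹ by group, hconj,
        show s * ⁅x, s⁻¹ * y * s⁆ * s⁻¹ * (s * k * s⁻¹)⁻¹ = s * (⁅x, s⁻¹ * y * s⁆ * k⁻¹) * s⁻¹ by group] at hyk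
  have heP := cP_norm h.e_norm
  have heK : e ∈ normalizer (K0 : Set G) := by
    refine CfsgLib.Fusion.conjBy_eq_iff.1 (CfsgLib.Fusion.conjBy_eq_of_le ?_)
    rintro _ ⟨k, hk, rfl⟩
    show e * k * e⁻¹ ∈ K0
    rw [← ((hKmem k).1 ((hK0mem k).1 hk).2).2, mul_inv_cancel_right]
    exact hk
  obtain ⟨heT, heU⟩ := hinvK e heP heK
  have hVP : bV 3 E ≤ cP 3 E := fun v hv => h.bQ_le_cP (hWQ (bV_le_bW h.facts hv))
  -- coprime elements of `R` centralise the derived group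
  have hRD : R ≤ chainStab D (bV 3 E) := by
    refine hRle _ fun s hs => comm_mem_chainStab_one (hDN s (hMP s (hRM hs)))
      (centralizer_le_normalizer (bV 3 E : Set G) (hMC (hRM hs))) ⟨bV_norm h.e_norm, hDN e heP, fun d hd => ?_⟩
    obtain ⟨v, hv, k, hk, rfl⟩ := hDdec d hd
    have hke := ((hKmem k).1 ((hK0mem k).1 hk).2).2
    rw [show ⁅e, v * k⁆ = e * v * e⁻¹ * (e * k * e⁻¹) * k⁻¹ * v⁻¹ by
      simp only [commutatorElement_def]; group, ← hke, mul_inv_cancel_right, mul_inv_cancel_right]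
    exact mul_mem ((mem_normalizer_iff.1 (bV_norm h.e_norm) v).1 hv) (inv_mem hv)
  have hcentD : ∀ r ∈ R, (orderOf r).Coprime 3 → r ∈ centralizer (D : Set G) := fun r hr ho =>
    mem_centralizer_iff.2 fun d hd =>
      (fix_of_chain (cP_pgroup.to_le hVP) ho (hMC (hRM hr)) (hRD hr).2.2 hd).symm
  have hRK : ∀ x ∈ R, x ∈ normalizer (K0 : Set G) := by
    intro x hx
    obtain ⟨a, ha⟩ := exists_coprime_power 3 x
    obtain ⟨c, hc⟩ : ∃ c, c = orderOf (x ^ 3 ^ a) := ⟨_, rfl⟩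
    rw [← hc] at ha
    have hxc : x ^ c ∈ cP 3 E := h3 _ (pow_mem (hRM hx) c) a (by
      rw [← pow_mul, mul_comm, pow_mul, hc, pow_orderOf_eq_one]; exact one_mem _)
    have h1 : x ^ 3 ^ a ∈ normalizer (K0 : Set G) := centralizer_le_normalizer (K0 : Set G)
      (centralizer_le (fun k hk => ((hK0mem k).1 hk).1) (hcentD _ (pow_mem hx _) (hc ▸ ha)))
    have h2 : x ^ c ∈ normalizer (K0 : Set G) := mem_normalizer_iff.2 fun k =>
      ⟨hK0n _ hxc k, fun hk => by simpa [mul_assoc] using hK0n _ (inv_mem hxc) _ hk⟩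
    have hb := Nat.gcd_eq_gcd_ab (3 ^ a) c
    rw [(Nat.Coprime.pow_left a ha.symm).gcd_eq_one] at hb
    have : x = (x ^ 3 ^ a) ^ Nat.gcdA (3 ^ a) c * (x ^ c) ^ Nat.gcdB (3 ^ a) c := by
      rw [← zpow_natCast x (3 ^ a), ← zpow_natCast x c, ← zpow_mul, ← zpow_mul, ← zpow_add, ← hb, Nat.cast_one,
        zpow_one]
    rw [this]
    exact mul_mem (zpow_mem h1 _) (zpow_mem h2 _)
  -- the three layers
  have hR1 : R ≤ chainStab T1 D := hRle _ fun s hs => comm_mem_chainStab_one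
    (hinvK s (hMP s (hRM hs)) (hRK s hs)).1 (hDN s (hMP s (hRM hs))) ⟨hDN e heP, heT, fun t ht => by
      refine hWD (hQT _ ?_ ?_)
      · rw [← commutatorElement_inv t e]
        exact inv_mem (h.cP_comm (hT1P ht) h.mem)
      · rw [commutatorElement_def]
        exact mul_mem ((mem_normalizer_iff.1 heT t).1 ht) (inv_mem ht)⟩
  have hUsec : IsAbSec U T1 := ⟨hU ▸ le_sup_right,
    (commutator_mono hUP hUP).trans (hDd ▸ hDT)⟩
  have hR2 : R ≤ chainStab U T1 := hRle _ fun s hs => comm_mem_chainStab_neg hUsec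
    ⟨(hinvK s (hMP s (hRM hs)) (hRK s hs)).2, (hinvK s (hMP s (hRM hs)) (hRK s hs)).1⟩ ⟨heU, heT⟩ fun x hx => by
      obtain ⟨a, ha, t, ht, rfl⟩ := CfsgLib.Coprime.mem_sup_exists
        (show T1 ≤ normalizer (bQ 3 E : Set G) from fun t ht => bQ_norm (hPc (hT1P ht))) (hU.le hx)
      have haP := h.bQ_le_cP ha
      have hant : ∀ t ∈ T1, a⁻¹ * t * a ∈ T1 := fun t ht => by
        rw [show a⁻¹ * t * a = ⁅a⁻¹, t⁆ * t by simp only [commutatorElement_def]; group]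
        exact mul_mem (hDT (hcD _ (inv_mem haP) t (hT1P ht))) ht
      rw [show e * (a * t) * e⁻¹ * (a * t) = (e * a * e⁻¹ * a) * (a⁻¹ * (e * t * e⁻¹) * a) * t by group]
      exact mul_mem (mul_mem (hDT (hWD (h.invQ ha))) (hant _ ((mem_normalizer_iff.1 heT t).1 ht))) ht
  have hR3 : R ≤ chainStab (cP 3 E) U := hRle _ fun s hs => comm_mem_chainStab_one (hMP s (hRM hs))
    (hinvK s (hMP s (hRM hs)) (hRK s hs)).2 ⟨heU, heP, fun x hx => hU.ge (mem_sup_left (by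
      rw [← commutatorElement_inv x e]
      exact inv_mem (h.cP_comm hx h.mem)))⟩
  intro r hr ho
  have c1 : r ∈ centralizer (T1 : Set G) := mem_centralizer_iff.2 fun t ht =>
    (fix_of_chain (cP_pgroup.to_le hDP) ho (hcentD r hr ho) (hR1 hr).2.2 ht).symm
  have c2 : r ∈ centralizer (U : Set G) := mem_centralizer_iff.2 fun t ht =>
    (fix_of_chain (cP_pgroup.to_le hT1P) ho c1 (hR2 hr).2.2 ht).symm
  exact mem_centralizer_iff.2 fun t ht =>
    (fix_of_chain (cP_pgroup.to_le hUP) ho c2 (hR3 hr).2.2 ht).symm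

end Inv

end CfsgLib.BlockCent
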