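import Cfsg.Agent.Lib.Char.BlockCent.Basic
import Cfsg.Agent.Lib.Coprime.PGroupFrattini

/-!
# An exceptional block inside the core: the two natural modules and the central involution
-/

set_option autoImplicit false
set_option linter.unusedSectionVars false
set_option linter.style.haveILetI false
set_option linter.unusedVariables false
set_option maxHeartbeats 1000000

open Subgroup Matrix
open scoped commutatorElement MatrixGroups

namespace CfsgLib.BlockCent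

open CfsgLib.SubBlock
open CfsgLib.BaumannBlock (bW bZ BlockFacts)

universe u
variable {G : Type u} [Group G] [Finite G]

attribute [local instance] CfsgLib.Coprime.pCore_normal'

local instance fact_three : Fact (Nat.Prime 3) := ⟨Nat.prime_three⟩

/-- An element of odd order inverted by `e` is a commutator of an inverted power of itself with `e`. -/
theorem exists_sqrt {x e : G} (hodd : (orderOf x).Coprime 2) (h : e * x * e⁻¹ = x⁻¹) :
    ∃ r ∈ zpowers x, e * r * e⁻¹ = r⁻¹ ∧ x = ⁅r, e⁆ := by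
  obtain ⟨m, hm⟩ := exists_pow_eq_self_of_coprime (x := x) (n := 2) (Nat.coprime_comm.1 hodd)
  have hr : e * x ^ m * e⁻¹ = (x ^ m)⁻¹ := by rw [← conj_pow, h, inv_pow]
  refine ⟨x ^ m, pow_mem (mem_zpowers x) m, hr, ?_⟩
  have h1 : e * (x ^ m)⁻¹ * e⁻¹ = x ^ m :=
    inv_injective (by rw [_root_.mul_inv_rev, _root_.mul_inv_rev, inv_inv, inv_inv, ← mul_assoc, hr])
  rw [commutatorElement_def, show x ^ m * e * (x ^ m)⁻¹ * e⁻¹ = x ^ m * (e * (x ^ m)⁻¹ * e⁻¹) by group, h1, ← pow_two,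
    ← pow_mul, mul_comm, pow_mul, hm]

/-- Decomposition along an involution. -/
theorem decomp_invol {R : Subgroup G} {x e : G} (he : e * e = 1) (hodd : (orderOf ⁅x, e⁆).Coprime 2)
    (hx : ⁅x, e⁆ ∈ R) : ∃ r ∈ R, e * r * e⁻¹ = r⁻¹ ∧ (r⁻¹ * x) * e = e * (r⁻¹ * x) := by
  have hei : e⁻¹ = e := inv_eq_of_mul_eq_one_right he
  obtain ⟨r, hr, hre, hxr⟩ := exists_sqrt hodd (x := ⁅x, e⁆) (e := e) (by
    simp only [commutatorElement_def]
    calc e * (x * e * x⁻¹ * e⁻¹) * e⁻¹ = e * x * e * x⁻¹ * (e⁻¹ * e⁻¹) := by group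
      _ = e * x * e * x⁻¹ := by rw [hei, he, mul_one]
      _ = _ := by rw [_root_.mul_inv_rev, _root_.mul_inv_rev, _root_.mul_inv_rev, inv_inv, inv_inv, hei]; group)
  refine ⟨r, zpowers_le.2 hx hr, hre, ?_⟩
  have h1 : x * e * x⁻¹ = r * e * r⁻¹ := by
    have := congrArg (· * e) hxr
    simpa [commutatorElement_def, mul_assoc] using this
  calc r⁻¹ * x * e = r⁻¹ * (x * e * x⁻¹) * x := by group
    _ = e * (r⁻¹ * x) := by rw [h1]; group

/-- The natural representation carried by a section. -/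
theorem exists_natRep {F : Type} [Field F] [Fintype F] {R₀ : Subgroup SL(2, F)} {E A A₀ : Subgroup G}
    (hact : Cfsg.ActsAsSL2OnSection F R₀ E A A₀) (h : IsAbSec A A₀) :
    ∃ (ρ : ↥E →* SL(2, F)) (R : SecRep A A₀ (Fin 2 → F)), ρ.range = R₀ ∧
      ∀ (x : ↥(secN A A₀)) (hx : (x : G) ∈ E) (v : Fin 2 → F),
        R.act x v = ((ρ ⟨x, hx⟩ : SL(2, F)) : Matrix (Fin 2) (Fin 2) F).mulVec v := by
  classical
  obtain ⟨-, -, ρ, ψ, hρ, hψ, hker, hact⟩ := hact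
  obtain ⟨M, iM, ⟨R⟩⟩ := exists_secRep h
  have hlift : ∀ m : M, ∃ a : ↥A, R.pr a = m := fun m => by
    obtain ⟨a, ha, h⟩ := R.pr_surj m
    exact ⟨⟨a, ha⟩, h⟩
  choose lift hl using hlift
  let g : ↥A → (Fin 2 → F) := fun a => Multiplicative.toAdd (ψ a)
  have hg : ∀ a b : ↥A, R.pr a = R.pr b → g a = g b := fun a b h => by
    have h1 : ψ (a * b⁻¹) = 1 := (hker _).2 ((R.pr_eq_iff a.2 b.2).1 h)
    rw [map_mul, map_inv, mul_inv_eq_one] at h1
    exact congrArg Multiplicative.toAdd h1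
  let ι₀ : M →+ (Fin 2 → F) := AddMonoidHom.mk' (fun m => g (lift m)) fun m m' => by
    rw [← show g (lift m * lift m') = g (lift m) + g (lift m') by simp only [g, map_mul, toAdd_mul]]
    exact hg _ _ (by rw [Subgroup.coe_mul, R.pr_mul _ (lift m).2 _ (lift m').2, hl, hl, hl])
  have hbij : Function.Bijective ι₀ := by
    refine ⟨(injective_iff_map_eq_zero _).2 fun m hm => ?_, fun v => ?_⟩
    · rw [← hl m, R.pr_eq_zero _ (lift m).2]
      exact (hker _).1 (Multiplicative.toAdd.injective hm)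
    · obtain ⟨a, ha⟩ := hψ (Multiplicative.ofAdd v)
      refine ⟨R.pr a, (hg _ a (hl _)).trans ?_⟩
      simp only [g, ha, toAdd_ofAdd]
  refine ⟨ρ, R.transfer (AddEquiv.ofBijective ι₀ hbij), hρ, fun x hx v => ?_⟩
  obtain ⟨m, rfl⟩ := hbij.2 v
  obtain ⟨w, hw, hwv⟩ := hact ⟨x, hx⟩ (lift m)
  show AddEquiv.ofBijective ι₀ hbij (R.act x ((AddEquiv.ofBijective ι₀ hbij).symm (ι₀ m))) = _
  rw [show (AddEquiv.ofBijective ι₀ hbij).symm (ι₀ m) = m from (AddEquiv.ofBijective ι₀ hbij).symm_apply_apply m]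
  show g (lift (R.act x m)) = Matrix.mulVec _ (g (lift m))
  rw [← hwv]
  refine hg _ w ?_
  rw [hl, hw]
  show _ = R.pr ((x : G) * (lift m : G) * (x : G)⁻¹)
  rw [R.pr_act x _ (lift m).2, hl]

theorem natRep_triv_iff {F : Type} [Field F] [Fintype F] {E A A₀ : Subgroup G} {ρ : ↥E →* SL(2, F)}
    {R : SecRep A A₀ (Fin 2 → F)}
    (hc : ∀ (x : ↥(secN A A₀)) (hx : (x : G) ∈ E) (v : Fin 2 → F),
      R.act x v = ((ρ ⟨x, hx⟩ : SL(2, F)) : Matrix (Fin 2) (Fin 2) F).mulVec v)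
    {e : ↥E} (he : (e : G) ∈ secN A A₀) : ρ e = 1 ↔ Triv A A₀ (e : G) := by
  refine Iff.trans ?_ (R.triv_iff ⟨e, he⟩).symm
  constructor
  · intro h
    refine AddMonoidHom.ext fun v => (hc ⟨e, he⟩ e.2 v).trans ?_
    rw [show (⟨(e : G), e.2⟩ : ↥E) = e from rfl, h, Matrix.SpecialLinearGroup.coe_one, Matrix.one_mulVec]
    rfl
  · intro h
    refine Subtype.ext (Matrix.mulVec_injective (funext fun v => ?_))
    show ((ρ e : SL(2, F)) : Matrix (Fin 2) (Fin 2) F).mulVec v = (1 : Matrix (Fin 2) (Fin 2) F).mulVec v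
    rw [Matrix.one_mulVec, ← hc ⟨e, he⟩ e.2 v, h]
    rfl

/-- An exceptional block whose `O_3` lies in the core. -/
structure Exc (T : Sylow 3 G) (E : Subgroup G) : Prop where
  hG : centralizer (Cfsg.pCore 3 G : Set G) ≤ Cfsg.pCore 3 G
  hE : Cfsg.IsBaumannBlock 3 (T : Subgroup G) E
  ne : bQ 3 E ≠ bW 3 E
  le : bQ 3 E ≤ Cfsg.pCore 3 G

variable {T : Sylow 3 G} {E : Subgroup G}

namespace Exc

theorem facts (h : Exc T E) : BlockFacts 3 E := CfsgLib.BaumannBlock.blockFacts h.hE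

theorem ne_bot (h : Exc T E) : E ≠ ⊥ := CfsgLib.BaumannBlock.ne_bot_of_block h.hE

theorem derived (h : Exc T E) : ⁅bQ 3 E, bQ 3 E⁆ = bZ 3 E := (exc_data h.hE h.ne).2.1

theorem secW (h : Exc T E) : IsIrrSec E (bW 3 E) (bZ 3 E) where
  le := inf_le_left
  comm := commutator_le.2 fun a ha b hb => by
    rw [show ⁅a, b⁆ = 1 from commutatorElement_eq_one_iff_mul_comm.2 (bW_comm_bQ hb (bW_le_bQ E ha))]
    exact one_mem _
  nE := fun x hx => ⟨bW_norm (le_normalizer hx), bZ_norm (le_normalizer hx)⟩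
  irr := h.facts.irr

theorem secQ (h : Exc T E) : IsIrrSec E (bQ 3 E) (bW 3 E) where
  le := bW_le_bQ E
  comm := h.derived.le.trans inf_le_left
  nE := fun x hx => ⟨bQ_norm (le_normalizer hx), bW_norm (le_normalizer hx)⟩
  irr := (exc_data h.hE h.ne).2.2.2.1

/-- Both sections are natural modules over one field. -/
theorem nat_data (h : Exc T E) : ∃ (F : Type) (i₁ : Field F) (i₂ : Fintype F) (n : ℕ), n ≠ 0 ∧
    Fintype.card F = 3 ^ n ∧ Nonempty (↥E ⧸ Cfsg.pCore 3 ↥E ≃* ↥(commutator SL(2, F))) ∧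
    Cfsg.ActsAsSL2OnSection F (commutator SL(2, F)) E (bW 3 E) (bZ 3 E) ∧
    Cfsg.ActsAsSL2OnSection F (commutator SL(2, F)) E (bQ 3 E) (bW 3 E) := by
  rcases h.hE.2.2.2.2 with ⟨F, i₁, i₂, n, hF, hiso, hW, h0 | ⟨-, hQ, -⟩⟩ | ⟨h2, -⟩
  · exact absurd h0 h.ne
  · refine ⟨F, i₁, i₂, n, fun hn => ?_, hF, hiso, hW, hQ⟩
    rw [hn, pow_zero] at hF
    exact (Fintype.one_lt_card (α := F)).ne' hF
  · omega

/-- Elements trivial on the lower section lie in `O_3(E)`. -/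
theorem kerW (h : Exc T E) {x : G} (hx : x ∈ E) (ht : Triv (bW 3 E) (bZ 3 E) x) : x ∈ bQ 3 E := by
  obtain ⟨K, hK⟩ : ∃ K, K = E ⊓ chainStab (bW 3 E) (bZ 3 E) := ⟨_, rfl⟩
  have hxK : x ∈ K := hK.ge ⟨hx, bZ_norm (le_normalizer hx), bW_norm (le_normalizer hx), ht⟩
  refine CfsgLib.JComp.le_pCoreOf (hK ▸ inf_le_left) (isPGroup_of_coprime fun y hy ho => ?_) ?_ hxK
  · obtain ⟨hyE, -, -, hyt⟩ := hK.le hy
    have hW : y ∈ centralizer (bW 3 E : Set G) := mem_centralizer_iff.2 fun w hw =>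
      (fix_of_chain ((CfsgLib.BaumannBlock.isPGroup_bW 3 E).to_le inf_le_left) ho
        (mem_centralizer_iff.2 fun z hz => (mem_centralizer_iff.1 (mem_inf.1 hz).2 y hyE).symm) hyt hw).symm
    exact eq_one_of_pgroup (CfsgLib.JComp.isPGroup_pCoreOf 3 E) (h.facts.ker ⟨hyE, hW⟩) ho
  · intro e he
    refine CfsgLib.Fusion.conjBy_eq_iff.1 (CfsgLib.Fusion.conjBy_eq_of_le ?_)
    rintro _ ⟨y, hy, rfl⟩
    obtain ⟨hyE, -, -, hyt⟩ := hK.le hy
    have he' : e * y * e⁻¹ ∈ E := mul_mem (mul_mem he hyE) (inv_mem he)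
    exact hK.ge ⟨he', bZ_norm (le_normalizer he'), bW_norm (le_normalizer he'),
      triv_conj ⟨bW_norm (le_normalizer he), bZ_norm (le_normalizer he)⟩ hyt⟩

/-- Elements trivial on the upper section lie in `O_3(E)`. -/
theorem kerQ (h : Exc T E) {x : G} (hx : x ∈ E) (ht : Triv (bQ 3 E) (bW 3 E) x) : x ∈ bQ 3 E := by
  obtain ⟨F, i₁, i₂, n, hn, hF, ⟨φ⟩, -, hQ⟩ := h.nat_data
  obtain ⟨ρ, R, hρ, hc⟩ := exists_natRep hQ h.secQ.toIsAbSec
  have hle : Cfsg.pCore 3 ↥E ≤ ρ.ker := fun y hy => by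
    have hyQ : (y : G) ∈ bQ 3 E := ⟨y, hy, rfl⟩
    exact (natRep_triv_iff hc (h.secQ.nE y.2)).2 fun a ha => h.secQ.comm (commutator_mem_commutator hyQ ha)
  have hcard : Nat.card ρ.range * Nat.card ρ.ker = Nat.card ↥E := by
    rw [← Nat.card_congr (QuotientGroup.quotientKerEquivRange ρ).toEquiv]
    exact (card_eq_card_quotient_mul_card_subgroup _).symm
  have heq : Cfsg.pCore 3 ↥E = ρ.ker := by
    refine eq_of_le_of_card_ge hle ?_
    rw [hρ, ← Nat.card_congr φ.toEquiv, card_eq_card_quotient_mul_card_subgroup (Cfsg.pCore 3 ↥E)] at hcard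
    exact (Nat.eq_of_mul_eq_mul_left Nat.card_pos hcard).le
  exact ⟨⟨x, hx⟩, heq.ge ((natRep_triv_iff hc (e := ⟨x, hx⟩) (h.secQ.nE hx)).2 ht), rfl⟩

/-- `C_E([W, E]) = O_3(E)`. -/
theorem inf_cC (h : Exc T E) {x : G} (hx : x ∈ E) (hc : x ∈ cC 3 E) : x ∈ bQ 3 E :=
  CfsgLib.BaumannBlock.inf_centralizer_V_le h.facts h.ne_bot ⟨hx, hc⟩

theorem bQ_le_cC (h : Exc T E) : bQ 3 E ≤ cC 3 E := h.le.trans (core_le_cC h.hG h.hE)

/-- `O_3(E) / Z` has exponent three. -/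
theorem pow_three (h : Exc T E) {a : G} (ha : a ∈ bQ 3 E) : a ^ 3 ∈ bZ 3 E := by
  rcases h.hE.2.2.2.2 with ⟨F, i₁, i₂, n, -, -, -, h0 | ⟨-, -, -, hfr, -⟩⟩ | ⟨h2, -⟩
  · exact absurd h0 h.ne
  · exact hfr.le ⟨⟨a, ha⟩ ^ 3, CfsgLib.Coprime.pow_mem_frattini (CfsgLib.JComp.isPGroup_pCoreOf 3 E) _, rfl⟩
  · omega

end Exc

/-- The data with the central involution. -/
structure Inv (T : Sylow 3 G) (E : Subgroup G) (e : G) : Prop extends Exc T E where
  mem : e ∈ E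
  sq : e * e = 1
  ne1 : e ≠ 1
  cent : ∀ g ∈ E, ⁅g, e⁆ ∈ bQ 3 E
  invW : ∀ w ∈ bW 3 E, e * w * e⁻¹ * w ∈ bZ 3 E

/-- The central involution exists. -/
theorem Exc.exists_inv (h : Exc T E) : ∃ e, Inv T E e := by
  obtain ⟨F, i₁, i₂, n, hn, hF, -, hW, -⟩ := h.nat_data
  obtain ⟨ρ, R, hρ, hc⟩ := exists_natRep hW h.secW.toIsAbSec
  haveI : CharP F 3 := by
    obtain ⟨q, hq⟩ := CharP.exists F
    obtain ⟨k, hqp, hk⟩ := FiniteField.card F q
    rw [hF] at hk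
    rwa [(Nat.prime_dvd_prime_iff_eq Nat.prime_three hqp).1
      (Nat.prime_three.dvd_of_dvd_pow (hk ▸ dvd_pow_self 3 hn : 3 ∣ q ^ (k : ℕ)))]
  have h3 : 3 ≤ Fintype.card F := hF ▸ Nat.le_self_pow hn 3
  have h20 : (2 : F) ≠ 0 := fun h => by
    have := (CharP.cast_eq_zero_iff F 3 2).1 (by exact_mod_cast h)
    omega
  have hne : (-1 : SL(2, F)) ≠ 1 := fun h => by
    have h1 := congrArg (fun g : SL(2, F) => g.1 0 0) h
    simp at h1
    exact h20 (by linear_combination -h1)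
  have hneg : (-1 : SL(2, F)) ∈ commutator SL(2, F) := by
    rcases h3.lt_or_eq with h4 | h4
    · rw [CfsgLib.Lie.SLUniv.sl2_commutator h4]; exact mem_top _
    · obtain ⟨g, hg, hg2⟩ := exists_sq_ne_one (F := F) h4.symm
      rw [← ((eight_class h4.symm hg).1.resolve_left hg2)]
      exact pow_mem hg 2
  obtain ⟨e₁, he₁⟩ := hρ.ge hneg
  obtain ⟨a, ha⟩ := exists_coprime_power 3 (e₁ : G)
  obtain ⟨e₀, he₀⟩ : ∃ e₀, e₀ = e₁ ^ 3 ^ a := ⟨_, rfl⟩
  have ho : (orderOf (e₀ : G)).Coprime 3 := by rw [he₀, Subgroup.coe_pow]; exact ha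
  have hρe : ρ e₀ = -1 := by rw [he₀, map_pow, he₁, Odd.neg_one_pow (Odd.pow (by decide))]
  have hN : ∀ x : ↥E, (x : G) ∈ secN (bW 3 E) (bZ 3 E) := fun x => h.secW.nE x.2
  refine ⟨e₀, { toExc := h, mem := e₀.2, sq := ?_, ne1 := ?_, cent := ?_, invW := ?_ }⟩
  · have h1 : ρ (e₀ * e₀) = 1 := by rw [map_mul, hρe, neg_mul_neg, one_mul]
    have h2 := h.kerW (e₀ * e₀).2 ((natRep_triv_iff hc (hN _)).1 h1)
    refine eq_one_of_pgroup (CfsgLib.JComp.isPGroup_pCoreOf 3 E) h2 ?_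
    rw [← pow_two]
    exact Nat.Coprime.coprime_dvd_left (orderOf_pow_dvd 2) ho
  · intro h1
    exact hne (hρe.symm.trans (by rw [show e₀ = 1 from Subtype.ext h1, map_one]))
  · intro g hg
    have h1 : ρ ⁅(⟨g, hg⟩ : ↥E), e₀⁆ = 1 := by
      rw [map_commutatorElement, hρe, commutatorElement_eq_one_iff_mul_comm, mul_neg, neg_mul, mul_one, one_mul]
    have := (natRep_triv_iff hc (hN _)).1 h1
    exact h.kerW (⁅(⟨g, hg⟩ : ↥E), e₀⁆).2 this
  · intro w hw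
    have hw' : (e₀ : G) * w * (e₀ : G)⁻¹ ∈ bW 3 E := conj_mem_of_secN (hN e₀) hw
    refine (R.pr_eq_zero _ (mul_mem hw' hw)).1 ?_
    rw [R.pr_mul _ hw' _ hw, R.pr_act ⟨e₀, hN e₀⟩ w hw, hc ⟨e₀, hN e₀⟩ e₀.2, hρe,
      Matrix.SpecialLinearGroup.coe_neg, Matrix.SpecialLinearGroup.coe_one, Matrix.neg_mulVec, Matrix.one_mulVec,
      neg_add_cancel]

namespace Inv

variable {e : G}

theorem inv_e (h : Inv T E e) : e⁻¹ = e := inv_eq_of_mul_eq_one_right h.sq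

theorem orderOf_e (h : Inv T E e) : orderOf e = 2 :=
  orderOf_eq_prime (by rw [pow_two, h.sq]) h.ne1

theorem e_norm (h : Inv T E e) : e ∈ normalizer (E : Set G) := le_normalizer h.mem

theorem odd_of_mem (h : Inv T E e) {R : Subgroup G} (hR : IsPGroup 3 ↥R) {x : G} (hx : x ∈ R) :
    (orderOf x).Coprime 2 := by
  obtain ⟨n, hn⟩ := hR ⟨x, hx⟩
  exact (Nat.Coprime.pow_left n (by norm_num : Nat.Coprime 3 2)).coprime_dvd_left
    (orderOf_dvd_of_pow_eq_one (congrArg Subtype.val hn))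

/-- The involution inverts `[W, E]`. -/
theorem invV (h : Inv T E e) {v : G} (hv : v ∈ bV 3 E) : e * v * e⁻¹ = v⁻¹ := by
  have hWc : ∀ a ∈ bW 3 E, ∀ b ∈ bW 3 E, a * b = b * a := fun a ha b hb => bW_comm_bQ hb (bW_le_bQ E ha)
  have hV : bV 3 E ≤ bW 3 E := bV_le_bW h.facts
  let S : Subgroup G :=
    { carrier := {v | v ∈ bW 3 E ∧ e * v * e⁻¹ = v⁻¹}
      one_mem' := ⟨one_mem _, by simp⟩
      mul_mem' := fun {a b} ha hb => ⟨mul_mem ha.1 hb.1, by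
        rw [show e * (a * b) * e⁻¹ = (e * a * e⁻¹) * (e * b * e⁻¹) by group, ha.2, hb.2, _root_.mul_inv_rev]
        exact hWc _ (inv_mem ha.1) _ (inv_mem hb.1)⟩
      inv_mem' := fun {a} ha => ⟨inv_mem ha.1, by
        rw [inv_inv, show e * a⁻¹ * e⁻¹ = (e * a * e⁻¹)⁻¹ by group, ha.2, inv_inv]⟩ }
  suffices hle : bV 3 E ≤ S from (hle hv).2
  refine commutator_le.2 fun w hw g hg => ⟨hV (commutator_mem_commutator hw hg), ?_⟩
  have hNg : g ∈ normalizer (bW 3 E : Set G) := h.facts.normW hg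
  have hg' : g * w⁻¹ * g⁻¹ ∈ bW 3 E := (mem_normalizer_iff.1 hNg _).1 (inv_mem hw)
  obtain ⟨q, hq, hgq⟩ : ∃ q ∈ bQ 3 E, e * g * e⁻¹ = q * g := ⟨⁅g, e⁆⁻¹, inv_mem (h.cent g hg), by
    simp only [commutatorElement_def]; group⟩
  obtain ⟨z, hz, hwz⟩ : ∃ z ∈ bZ 3 E, e * w * e⁻¹ = z * w⁻¹ := ⟨e * w * e⁻¹ * w, h.invW w hw, by group⟩
  have hzg : ∀ u, u ∈ bW 3 E → q * u = u * q := fun u hu => bW_comm_bQ hu hq
  have hgz : g * z = z * g := mem_centralizer_iff.1 (mem_inf.1 hz).2 g hg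
  calc e * ⁅w, g⁆ * e⁻¹ = ⁅e * w * e⁻¹, e * g * e⁻¹⁆ := by simp only [commutatorElement_def]; group
    _ = z * w⁻¹ * (q * (g * w * z⁻¹ * g⁻¹) * q⁻¹) := by
        rw [hwz, hgq]; simp only [commutatorElement_def]; group
    _ = z * w⁻¹ * (g * w * z⁻¹ * g⁻¹) := by
        rw [hzg (g * w * z⁻¹ * g⁻¹) ((mem_normalizer_iff.1 hNg _).1 (mul_mem hw (inv_mem hz.1)) |> fun h => by
          simpa [mul_assoc] using h), mul_inv_cancel_right]
    _ = z * w⁻¹ * (g * w * g⁻¹) * z⁻¹ := by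
        rw [show g * w * z⁻¹ * g⁻¹ = g * w * (g * z)⁻¹ by group, hgz]; group
    _ = w⁻¹ * (g * w * g⁻¹) := by
        have hu : w⁻¹ * (g * w * g⁻¹) ∈ bW 3 E := mul_mem (inv_mem hw) ((mem_normalizer_iff.1 hNg _).1 hw)
        rw [mul_assoc z, hWc z hz.1 _ hu, mul_inv_cancel_right]
    _ = ⁅w, g⁆⁻¹ := by
        rw [hWc _ (inv_mem hw) _ ((mem_normalizer_iff.1 hNg _).1 hw)]
        simp only [commutatorElement_def]; group

/-- The module splits. -/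
theorem split (h : Inv T E e) : bV 3 E ⊓ bZ 3 E = ⊥ := by
  refine (eq_bot_iff_forall _).2 fun x hx => ?_
  have h1 := h.invV (mem_inf.1 hx).1
  rw [mul_inv_eq_iff_eq_mul.2 (mem_centralizer_iff.1 (mem_inf.1 (mem_inf.1 hx).2).2 e h.mem)] at h1
  refine orderOf_eq_one_iff.1 (Nat.eq_one_of_dvd_coprimes
    (h.odd_of_mem (CfsgLib.BaumannBlock.isPGroup_bW 3 E) (mem_inf.1 (mem_inf.1 hx).2).1) dvd_rfl
    (orderOf_dvd_of_pow_eq_one ?_))
  rw [pow_two]
  nth_rw 2 [h1]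
  exact mul_inv_cancel x

/-- The involution inverts the upper section. -/
theorem invQ (h : Inv T E e) {a : G} (ha : a ∈ bQ 3 E) : e * a * e⁻¹ * a ∈ bW 3 E := by
  have hN : e ∈ secN (bQ 3 E) (bW 3 E) := h.secQ.nE h.mem
  have hcm : ∀ g ∈ E, Triv (bQ 3 E) (bW 3 E) ⁅e, g⁆ := fun g hg b hb => h.secQ.comm (commutator_mem_commutator
    (by rw [← commutatorElement_inv]; exact inv_mem (h.cent g hg)) hb)
  rcases h.secQ.triv_or_free hN hcm with ht | hf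
  · exfalso
    refine h.ne1 (eq_one_of_pgroup (CfsgLib.JComp.isPGroup_pCoreOf 3 E) (h.kerQ h.mem ht) ?_)
    rw [h.orderOf_e]; norm_num
  · have ha' : e * a * e⁻¹ ∈ bQ 3 E := conj_mem_of_secN hN ha
    refine hf _ (mul_mem ha' ha) ?_
    rw [commutatorElement_def, show e * (e * a * e⁻¹ * a) * e⁻¹ * (e * a * e⁻¹ * a)⁻¹ =
      (e * e) * a * (e⁻¹ * e⁻¹) * (e * a * e⁻¹) * (a⁻¹ * e * a⁻¹ * e⁻¹) by group, h.sq,
      show e⁻¹ * e⁻¹ = 1 by rw [h.inv_e, h.sq], one_mul, mul_one,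
      show a * (e * a * e⁻¹) * (a⁻¹ * e * a⁻¹ * e⁻¹) = ⁅a, e * a * e⁻¹⁆ by
        simp only [commutatorElement_def]; group]
    exact h.secQ.comm (commutator_mem_commutator ha ha')

/-- `C_Q(e) = Z`. -/
theorem fixed_mem_bZ (h : Inv T E e) {x : G} (hx : x ∈ bQ 3 E) (he : e * x = x * e) : x ∈ bZ 3 E := by
  have hxW : x ∈ bW 3 E := by
    have h1 := h.invQ hx
    rw [he, mul_inv_cancel_right, ← pow_two] at h1
    obtain ⟨m, hm⟩ := exists_pow_eq_self_of_coprime (x := x) (n := 2)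
      (Nat.coprime_comm.1 (h.odd_of_mem (CfsgLib.JComp.isPGroup_pCoreOf 3 E) hx))
    exact hm ▸ pow_mem h1 m
  obtain ⟨v, hv, z, hz, rfl⟩ := CfsgLib.Coprime.mem_sup_exists
    (show bZ 3 E ≤ normalizer (bV 3 E : Set G) from fun z hz => bV_norm (le_normalizer (bQ_le E
      (bW_le_bQ E (mem_inf.1 hz).1)))) ((CfsgLib.BaumannBlock.V_sup_Z h.facts h.ne_bot).ge hxW)
  have hz' : e * z = z * e := mem_centralizer_iff.1 (mem_inf.1 hz).2 e h.mem
  have h2 : e * v * e⁻¹ = v := by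
    rw [mul_inv_eq_iff_eq_mul]
    have : e * v * z = v * e * z := by
      rw [mul_assoc e, he, mul_assoc v e, hz', mul_assoc]
    exact mul_right_cancel this
  have h3 : v = 1 := by
    refine orderOf_eq_one_iff.1 (Nat.eq_one_of_dvd_coprimes
      (h.odd_of_mem (CfsgLib.BaumannBlock.isPGroup_bW 3 E) (bV_le_bW h.facts hv)) dvd_rfl
      (orderOf_dvd_of_pow_eq_one ?_))
    rw [pow_two]
    nth_rw 2 [h2.symm.trans (h.invV hv)]
    exact mul_inv_cancel v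
  rwa [h3, one_mul]

end Inv

end CfsgLib.BlockCent
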