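import Cfsg.Agent.Lib.Char.BlockCent.Local
import Cfsg.Agent.Lib.Invol.ZStar
import Cfsg.Agent.Lib.LocalStructure.FStar

/-!
# The central involution of the block is isolated in `E C([W, E])`
-/

set_option autoImplicit false
set_option linter.unusedSectionVars false
set_option linter.style.haveILetI false
set_option linter.unusedVariables false
set_option maxHeartbeats 1000000

open Subgroup
open scoped commutatorElement

namespace CfsgLib.BlockCent

open CfsgLib.SubBlock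
open CfsgLib.BaumannBlock (bW bZ BlockFacts)

universe u
variable {G : Type u} [Group G] [Finite G]

attribute [local instance] CfsgLib.Coprime.pCore_normal'
attribute [local instance] fact_three

/-- The odd core of `C([W, E])`. -/
def oddC (E : Subgroup G) : Subgroup G := (Cfsg.pPrimeCore 2 ↥(cC 3 E)).map (cC 3 E).subtype

variable {T : Sylow 3 G} {E : Subgroup G} {e : G}

theorem oddC_le : oddC E ≤ cC 3 E := map_subtype_le _

theorem oddC_odd : Odd (Nat.card ↥(oddC E)) := by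
  rw [oddC, card_map_of_injective (cC 3 E).subtype_injective, Nat.odd_iff]
  have := CfsgLib.Coprime.pPrimeCore_not_dvd (G := ↥(cC 3 E)) Nat.prime_two
  omega

theorem oddC_norm {x : G} (hx : x ∈ normalizer (cC 3 E : Set G)) : x ∈ normalizer (oddC E : Set G) := by
  haveI := CfsgLib.Coprime.pPrimeCore_characteristic (G := ↥(cC 3 E)) 2
  exact CfsgLib.LS.normalizer_le_normalizer_map_char _ hx

namespace Inv

/-- An element inverting `Q` modulo `W` and `[W, E]` generates `Q` by its commutators. -/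
theorem bQ_le_of_inv (h : Inv T E e) {f : G} {X : Subgroup G} (hQX : ∀ a ∈ bQ 3 E, ⁅a, f⁆ ∈ X)
    (hfQ : f ∈ normalizer (bQ 3 E : Set G))
    (hinv : ∀ a ∈ bQ 3 E, f * a * f⁻¹ * a ∈ bW 3 E) (hV : ∀ v ∈ bV 3 E, f * v * f⁻¹ = v⁻¹) :
    bQ 3 E ≤ X := by
  have hVX : bV 3 E ≤ X := by
    intro v hv
    have hv' := hQX v (bW_le_bQ E (bV_le_bW h.facts hv))
    have h1 : ⁅v, f⁆ = v * v := by
      rw [commutatorElement_def, show v * f * v⁻¹ * f⁻¹ = v * (f * v * f⁻¹)⁻¹ by group, hV v hv, inv_inv]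
    rw [h1, ← pow_two] at hv'
    obtain ⟨m, hm⟩ := exists_pow_eq_self_of_coprime (x := v) (n := 2) (Nat.coprime_comm.1
      (h.odd_of_mem (CfsgLib.BaumannBlock.isPGroup_bW 3 E) (bV_le_bW h.facts hv)))
    exact hm ▸ pow_mem hv' m
  obtain ⟨Y, hY⟩ : ∃ Y, Y = bQ 3 E ⊓ X := ⟨_, rfl⟩
  have hWn : bQ 3 E ≤ normalizer (bW 3 E : Set G) := fun x hx => bW_norm (le_normalizer (bQ_le E hx))
  have hsup : bQ 3 E ≤ bW 3 E ⊔ Y := by
    intro a ha
    have hfa : f * a⁻¹ * f⁻¹ ∈ bQ 3 E := (mem_normalizer_iff.1 hfQ _).1 (inv_mem ha)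
    have hy : ⁅a, f⁆ ∈ Y := hY.ge ⟨by
      rw [commutatorElement_def, show a * f * a⁻¹ * f⁻¹ = a * (f * a⁻¹ * f⁻¹) by group]
      exact mul_mem ha hfa, hQX a ha⟩
    have h2 : a ^ 2 ∈ bW 3 E ⊔ Y := by
      rw [show a ^ 2 = ⁅a, f⁆ * (f * a * f⁻¹ * a) by rw [commutatorElement_def, pow_two]; group]
      exact mul_mem (mem_sup_right hy) (mem_sup_left (hinv a ha))
    obtain ⟨m, hm⟩ := exists_pow_eq_self_of_coprime (x := a) (n := 2) (Nat.coprime_comm.1
      (h.odd_of_mem (CfsgLib.JComp.isPGroup_pCoreOf 3 E) ha))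
    exact hm ▸ pow_mem h2 m
  have hYW : Y ≤ normalizer (bW 3 E : Set G) := fun y hy => hWn (hY.le hy).1
  have hZX : bZ 3 E ≤ X := by
    rw [← h.derived, commutator_le]
    intro a ha b hb
    obtain ⟨wa, hwa, a', ha', rfl⟩ := CfsgLib.Coprime.mem_sup_exists hYW (hsup ha)
    obtain ⟨wb, hwb, b', hb', rfl⟩ := CfsgLib.Coprime.mem_sup_exists hYW (hsup hb)
    rw [comm_congr (fun w hw q hq => bW_comm_bQ hw hq) (hY.le ha').1 (hY.le hb').1 hwa hwb (bW_le_bQ E),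
      commutatorElement_def]
    exact mul_mem (mul_mem (mul_mem (hY.le ha').2 (hY.le hb').2) (inv_mem (hY.le ha').2)) (inv_mem (hY.le hb').2)
  intro a ha
  obtain ⟨w, hw, y, hy, rfl⟩ := CfsgLib.Coprime.mem_sup_exists hYW (hsup ha)
  refine mul_mem ?_ (hY.le hy).2
  exact (CfsgLib.BaumannBlock.V_sup_Z h.facts h.ne_bot).ge.trans (sup_le hVX hZX) hw

/-- `[P, e] = Q`. -/
theorem comm_cP (h : Inv T E e) : ⁅cP 3 E, zpowers e⁆ = bQ 3 E := by
  refine le_antisymm (commutator_le.2 fun x hx g hg => h.cP_comm hx (zpowers_le.2 h.mem hg)) ?_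
  exact h.bQ_le_of_inv (fun a ha => commutator_mem_commutator (h.bQ_le_cP ha) (mem_zpowers e))
    (bQ_norm h.e_norm) (fun a ha => h.invQ ha) fun v hv => h.invV hv

/-- A conjugate of the involution under `C([W, E])` commuting with it is equal to it. -/
theorem conj_eq (h : Inv T E e) {c : G} (hc : c ∈ cC 3 E) (hcomm : e * (c * e * c⁻¹) = c * e * c⁻¹ * e) :
    c * e * c⁻¹ = e := by
  classical
  obtain ⟨f, hf⟩ : ∃ f, f = c * e * c⁻¹ := ⟨_, rfl⟩
  rw [← hf] at hcomm ⊢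
  have hff : f * f = 1 := by
    rw [hf, show c * e * c⁻¹ * (c * e * c⁻¹) = c * (e * e) * c⁻¹ by group, h.sq, mul_one, mul_inv_cancel]
  have hfP : f ∈ normalizer (cP 3 E : Set G) := hf ▸ mul_mem (mul_mem (cC_le_normalizer_cP hc) (cP_norm h.e_norm))
    (inv_mem (cC_le_normalizer_cP hc))
  have hfQ : f ∈ normalizer (bQ 3 E : Set G) := by
    rw [← h.comm_cP]
    refine CfsgLib.BaumannBlock.mem_normalizer_commutator hfP
      (centralizer_le_normalizer (zpowers e : Set G) (mem_centralizer_iff.2 fun y hy => ?_))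
    obtain ⟨i, rfl⟩ := mem_zpowers_iff.1 hy
    exact ((show Commute e f from hcomm).zpow_left i).eq
  obtain ⟨d, hd⟩ : ∃ d, d = e * f := ⟨_, rfl⟩
  have hdC : d ∈ cC 3 E := by
    rw [hd, hf, show e * (c * e * c⁻¹) = e * c * e * c⁻¹ by group]
    refine mul_mem ?_ (inv_mem hc)
    have := (mem_normalizer_iff.1 (cC_norm h.e_norm) c).1 hc
    rwa [h.inv_e] at this
  have hdL : d ∈ cL 3 E := ⟨hdC, hd ▸ mul_mem (bQ_norm h.e_norm) hfQ⟩
  have hdN := h.cL_le_norm hdL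
  have hdd : d * d = 1 := by
    rw [hd, show e * f * (e * f) = e * (f * e) * f by group, ← hcomm, show e * (e * f) * f = e * e * (f * f) by group,
      h.sq, hff, one_mul]
  have hcd : ∀ g ∈ E, ⁅d, g⁆ ∈ bQ 3 E := fun g hg => h.inf_cC (comm_mem_right hg hdN) (by
    rw [commutatorElement_def, show d * g * d⁻¹ * g⁻¹ = d * (g * d⁻¹ * g⁻¹) by group]
    exact mul_mem hdC ((mem_normalizer_iff.1 (cC_norm (le_normalizer hg)) _).1 (inv_mem hdC)))
  have hdV : ∀ v ∈ bV 3 E, d * v * d⁻¹ = v := fun v hv => by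
    rw [mul_inv_eq_iff_eq_mul]; exact (mem_centralizer_iff.1 hdC v hv).symm
  have hfd : f = e * d := by rw [hd, ← mul_assoc, h.sq, one_mul]
  have hfV : ∀ v ∈ bV 3 E, f * v * f⁻¹ = v⁻¹ := fun v hv => by
    rw [hfd, show e * d * v * (e * d)⁻¹ = e * (d * v * d⁻¹) * e⁻¹ by group, hdV v hv, h.invV hv]
  rcases h.secQ.triv_or_free (Exc.norm_QW hdN) (h.comm_triv hcd) with ht | hfree
  · -- the conjugate inverts the upper section
    have hfi : ∀ a ∈ bQ 3 E, f * a * f⁻¹ * a ∈ bW 3 E := fun a ha => by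
      rw [hfd, show e * d * a * (e * d)⁻¹ * a = e * ⁅d, a⁆ * e⁻¹ * (e * a * e⁻¹ * a) by
        simp only [commutatorElement_def]; group]
      exact mul_mem ((mem_normalizer_iff.1 (bW_norm h.e_norm) _).1 (ht a ha)) (h.invQ ha)
    have hle : bQ 3 E ≤ (bQ 3 E).map (MulAut.conj c).toMonoidHom := by
      refine h.bQ_le_of_inv (fun a ha => ?_) hfQ hfi hfV
      have hca : c⁻¹ * a * c ∈ cP 3 E := (mem_normalizer_iff''.1 (cC_le_normalizer_cP hc) a).1 (h.bQ_le_cP ha)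
      refine ⟨⁅c⁻¹ * a * c, e⁆, h.comm_cP.le (commutator_mem_commutator hca (mem_zpowers e)), ?_⟩
      show c * ⁅c⁻¹ * a * c, e⁆ * c⁻¹ = ⁅a, f⁆
      rw [hf]; simp only [commutatorElement_def]; group
    have heq : (bQ 3 E).map (MulAut.conj c).toMonoidHom = bQ 3 E :=
      (eq_of_le_of_card_ge hle (card_map_of_injective (MulAut.conj c).injective).le).symm
    have hcN := h.cL_le_norm (mem_inf.2 ⟨hc, CfsgLib.Fusion.conjBy_eq_iff.1 heq⟩ : c ∈ cL 3 E)
    have hfE : f ∈ E := hf ▸ (mem_normalizer_iff.1 hcN e).1 h.mem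
    have hdQ : d ∈ bQ 3 E := h.inf_cC (hd ▸ mul_mem h.mem hfE) hdC
    have hd1 : d = 1 := by
      refine orderOf_eq_one_iff.1 (Nat.eq_one_of_dvd_coprimes
        (h.odd_of_mem (CfsgLib.JComp.isPGroup_pCoreOf 3 E) hdQ) dvd_rfl (orderOf_dvd_of_pow_eq_one ?_))
      rw [pow_two, hdd]
    rw [hfd, hd1, mul_one]
  · -- the conjugate is trivial on the upper section
    exfalso
    have hdi : ∀ a ∈ bQ 3 E, d * a * d⁻¹ * a ∈ bW 3 E := fun a ha => by
      have hdN' := Exc.norm_QW (E := E) hdN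
      have ha' : d * a * d⁻¹ ∈ bQ 3 E := conj_mem_of_secN hdN' ha
      refine hfree _ (mul_mem ha' ha) ?_
      have hdi' : d⁻¹ = d := inv_eq_of_mul_eq_one_right hdd
      rw [commutatorElement_def, show d * (d * a * d⁻¹ * a) * d⁻¹ * (d * a * d⁻¹ * a)⁻¹ =
        (d * d) * a * (d⁻¹ * d⁻¹) * (d * a * d⁻¹) * (a⁻¹ * d * a⁻¹ * d⁻¹) by group, hdd,
        show d⁻¹ * d⁻¹ = 1 by rw [hdi', hdd], one_mul, mul_one,
        show a * (d * a * d⁻¹) * (a⁻¹ * d * a⁻¹ * d⁻¹) = ⁅a, d * a * d⁻¹⁆ by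
          simp only [commutatorElement_def]; group]
      exact h.secQ.comm (commutator_mem_commutator ha ha')
    have hft : ∀ a ∈ bQ 3 E, ⁅a, f⁆ ∈ bW 3 E := by
      intro a ha
      obtain ⟨u, hu⟩ : ∃ u, u = d * a * d⁻¹ := ⟨_, rfl⟩
      have huQ : u ∈ bQ 3 E := hu ▸ conj_mem_of_secN (Exc.norm_QW hdN) ha
      have h1 : e * u * e⁻¹ * u ∈ bW 3 E := h.invQ huQ
      have h2 : u * a ∈ bW 3 E := hu ▸ hdi a ha
      have h4 : e * u * e⁻¹ * a⁻¹ ∈ bW 3 E := by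
        rw [show e * u * e⁻¹ * a⁻¹ = (e * u * e⁻¹ * u) * (u⁻¹ * a⁻¹) by group,
          show u⁻¹ * a⁻¹ = (a * u)⁻¹ by group]
        refine mul_mem h1 (inv_mem ?_)
        rw [show a * u = a * (u * a) * a⁻¹ by group]
        exact (mem_normalizer_iff.1 (bW_norm (p := 3) (le_normalizer (bQ_le E ha))) _).1 h2
      rw [← commutatorElement_inv f a, commutatorElement_def, hfd,
        show e * d * a * (e * d)⁻¹ * a⁻¹ = e * (d * a * d⁻¹) * e⁻¹ * a⁻¹ by group, ← hu]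
      exact inv_mem h4
    have hWn : bQ 3 E ≤ normalizer (bW 3 E : Set G) := fun x hx => bW_norm (le_normalizer (bQ_le E hx))
    have hdec : ∀ a ∈ bQ 3 E, ∃ r ∈ bW 3 E, ∃ y, y ∈ bQ 3 E ∧ y * f = f * y ∧ a = r * y := fun a ha => by
      obtain ⟨r, hr, -, hry⟩ := decomp_invol hff
        (h.odd_of_mem (CfsgLib.BaumannBlock.isPGroup_bW 3 E) (hft a ha)) (hft a ha)
      exact ⟨r, hr, r⁻¹ * a, mul_mem (inv_mem (bW_le_bQ E hr)) ha, hry, by group⟩
    -- coprime elements of `C_E(e)` commute with the action of `E`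
    have key : ∀ g ∈ E, g * e = e * g → (orderOf g).Coprime 3 → ∀ x ∈ E, Triv (bQ 3 E) (bW 3 E) ⁅g, x⁆ := by
      intro g hg hge ho x hx
      obtain ⟨k, hk⟩ : ∃ k, k = c * g * c⁻¹ := ⟨_, rfl⟩
      have hkP : ∀ y ∈ bQ 3 E, y * f = f * y → k * y = y * k := by
        intro y hy hyf
        obtain ⟨y', hy'⟩ : ∃ y', y' = c⁻¹ * y * c := ⟨_, rfl⟩
        have hy'P : y' ∈ cP 3 E := hy' ▸ (mem_normalizer_iff''.1 (cC_le_normalizer_cP hc) y).1 (h.bQ_le_cP hy)
        have hy'e : y' * e = e * y' := by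
          rw [hy']
          calc c⁻¹ * y * c * e = c⁻¹ * (y * f) * c := by rw [hf]; group
            _ = e * (c⁻¹ * y * c) := by rw [hyf, hf]; group
        have h1 := h.cent_fixed hg hge ho hy'P hy'e
        rw [hk]
        calc c * g * c⁻¹ * y = c * (g * y') * c⁻¹ := by rw [hy']; group
          _ = y * (c * g * c⁻¹) := by rw [h1, hy']; group
      have hkV : ∀ v ∈ bV 3 E, k * v * k⁻¹ = g * v * g⁻¹ := by
        intro v hv
        have e1 : c⁻¹ * v * c = v := by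
          rw [mul_assoc, mem_centralizer_iff.1 hc v hv, ← mul_assoc, inv_mul_cancel, one_mul]
        have hgv : g * v * g⁻¹ ∈ bV 3 E := (mem_normalizer_iff.1 (bV_norm (le_normalizer hg)) v).1 hv
        rw [hk, show c * g * c⁻¹ * v * (c * g * c⁻¹)⁻¹ = c * (g * (c⁻¹ * v * c) * g⁻¹) * c⁻¹ by group, e1,
          mul_inv_eq_iff_eq_mul]
        exact (mem_centralizer_iff.1 hc _ hgv).symm
      have hkZ : ∀ z ∈ bZ 3 E, k * z = z * k := by
        have hle : bZ 3 E ≤ centralizer ({k} : Set G) := by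
          rw [← h.derived, commutator_le]
          intro a ha b hb
          obtain ⟨r, hr, y, hy, hyf, rfl⟩ := hdec a ha
          obtain ⟨r', hr', y', hy', hyf', rfl⟩ := hdec b hb
          rw [comm_congr (fun w hw q hq => bW_comm_bQ hw hq) hy hy' hr hr' (bW_le_bQ E)]
          refine mem_centralizer_singleton_iff.2 ?_
          have c1 : Commute y k := (hkP y hy hyf).symm
          have c2 : Commute y' k := (hkP y' hy' hyf').symm
          rw [commutatorElement_def]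
          exact ((((c1.mul_left c2).mul_left c1.inv_left).mul_left c2.inv_left)).eq
        exact fun z hz => (mem_centralizer_singleton_iff.1 (hle hz)).symm
      have hkW : ∀ w ∈ bW 3 E, k * w * k⁻¹ ∈ bW 3 E := by
        intro w hw
        obtain ⟨v, hv, z, hz, rfl⟩ := CfsgLib.Coprime.mem_sup_exists
          (show bZ 3 E ≤ normalizer (bV 3 E : Set G) from fun z hz => bV_norm (le_normalizer (bQ_le E
            (bW_le_bQ E (mem_inf.1 hz).1)))) ((CfsgLib.BaumannBlock.V_sup_Z h.facts h.ne_bot).ge hw)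
        rw [show k * (v * z) * k⁻¹ = (k * v * k⁻¹) * (k * z * k⁻¹) by group, hkV v hv, hkZ z hz, mul_inv_cancel_right]
        exact mul_mem ((mem_normalizer_iff.1 (bW_norm (le_normalizer hg)) v).1 (bV_le_bW h.facts hv)) hz.1
      have hkt : ∀ a ∈ bQ 3 E, ⁅k, a⁆ ∈ bW 3 E ∧ k * a * k⁻¹ ∈ bQ 3 E := by
        intro a ha
        obtain ⟨r, hr, y, hy, hyf, rfl⟩ := hdec a ha
        have e1 : k * (r * y) * k⁻¹ = k * r * k⁻¹ * y := by
          rw [show k * (r * y) * k⁻¹ = k * r * k⁻¹ * (k * y * k⁻¹) by group, hkP y hy hyf, mul_inv_cancel_right]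
        refine ⟨?_, by rw [e1]; exact mul_mem (bW_le_bQ E (hkW r hr)) hy⟩
        rw [commutatorElement_def, e1, show k * r * k⁻¹ * y * (r * y)⁻¹ = k * r * k⁻¹ * r⁻¹ by group]
        exact mul_mem (hkW r hr) (inv_mem hr)
      have hkQ : k ∈ normalizer (bQ 3 E : Set G) := by
        refine CfsgLib.Fusion.conjBy_eq_iff.1 (CfsgLib.Fusion.conjBy_eq_of_le ?_)
        rintro _ ⟨a, ha, rfl⟩
        exact (hkt a ha).2
      have hlL : k⁻¹ * g ∈ cL 3 E := mem_inf.2 ⟨by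
        rw [hk, show (c * g * c⁻¹)⁻¹ * g = c * (g⁻¹ * c⁻¹ * g) by group]
        exact mul_mem hc ((mem_normalizer_iff''.1 (cC_norm (le_normalizer hg)) _).1 (inv_mem hc)),
        mul_mem (inv_mem hkQ) (bQ_norm (le_normalizer hg))⟩
      have hlN := h.cL_le_norm hlL
      obtain ⟨M, iM, ⟨S⟩⟩ := exists_secRep h.secQ.toIsAbSec
      have hkN : k ∈ secN (bQ 3 E) (bW 3 E) := ⟨hkQ, bW_norm_of_bQ hkQ⟩
      obtain ⟨l', hl'⟩ : ∃ l' : ↥(secN (bQ 3 E) (bW 3 E)), l' = ⟨k⁻¹ * g, Exc.norm_QW hlN⟩ := ⟨_, rfl⟩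
      obtain ⟨g', hg'⟩ : ∃ g' : ↥(secN (bQ 3 E) (bW 3 E)), g' = ⟨g, Exc.norm_QW (le_normalizer hg)⟩ := ⟨_, rfl⟩
      obtain ⟨x', hx'⟩ : ∃ x' : ↥(secN (bQ 3 E) (bW 3 E)), x' = ⟨x, Exc.norm_QW (le_normalizer hx)⟩ := ⟨_, rfl⟩
      have hk1 : S.act ⟨k, hkN⟩ = 1 := (S.triv_iff ⟨k, hkN⟩).1 fun a ha => (hkt a ha).1
      have hlc : S.act l' ∈ commutant S E := h.secQ.act_mem_commutant S l' (by
        rw [hl']
        refine h.comm_triv fun y hy => h.inf_cC (comm_mem_right hy hlN) ?_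
        rw [commutatorElement_def, show k⁻¹ * g * y * (k⁻¹ * g)⁻¹ * y⁻¹ =
          k⁻¹ * g * (y * (k⁻¹ * g)⁻¹ * y⁻¹) by group]
        exact mul_mem hlL.1 ((mem_normalizer_iff.1 (cC_norm (le_normalizer hy)) _).1 (inv_mem hlL.1)))
      have hgl : S.act g' = S.act l' := by
        rw [show g' = ⟨k, hkN⟩ * l' from Subtype.ext (by
          rw [hg', hl']
          show g = k * (k⁻¹ * g)
          group), map_mul, hk1, one_mul]
      have hcm : S.act x' * S.act g' = S.act g' * S.act x' :=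
        hgl ▸ mem_commutant.1 hlc x' (hx' ▸ hx)
      have h1 : S.act ⁅g', x'⁆ = 1 := by
        rw [commutatorElement_def, map_mul, map_mul, map_mul, ← hcm, ← map_mul, ← map_mul, ← map_mul,
          mul_inv_cancel_right, mul_inv_cancel, map_one]
      have h2 := (S.triv_iff ⁅g', x'⁆).2 h1
      rw [hg', hx'] at h2
      exact h2
    obtain ⟨F, i₁, i₂, n, hn, hF, -, -, hQmod⟩ := h.nat_data
    obtain ⟨z, hz, hzn⟩ := sl_nonfix hQmod (hF ▸ Nat.le_self_pow hn 3)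
    refine hzn (triv_of_le_closure (K := ⁅E, E⁆) h.secQ.toIsAbSec (S := {g | ∃ a ∈ E, ∃ b ∈ E, ⁅a, b⁆ = g})
      (by rw [Subgroup.commutator_def]) ?_ ?_ z hz)
    · rintro _ ⟨a, ha, b, hb, rfl⟩
      exact Exc.norm_QW (le_normalizer (mul_mem (mul_mem (mul_mem ha hb) (inv_mem ha)) (inv_mem hb)))
    · rintro _ ⟨a, ha, b, hb, rfl⟩
      obtain ⟨M, iM, ⟨S⟩⟩ := exists_secRep h.secQ.toIsAbSec
      let X : Subgroup G :=
        { carrier := {g | g ∈ E ∧ ∀ x ∈ E, Triv (bQ 3 E) (bW 3 E) ⁅g, x⁆}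
          one_mem' := ⟨one_mem _, fun x _ a _ => by simp⟩
          mul_mem' := fun {g g'} hg hg' => ⟨mul_mem hg.1 hg'.1, fun x hx => by
            rw [show ⁅g * g', x⁆ = g * ⁅g', x⁆ * g⁻¹ * ⁅g, x⁆ by simp only [commutatorElement_def]; group]
            exact triv_mul h.secQ.toIsAbSec
              (h.secQ.nE (mul_mem (mul_mem hg.1 (mul_mem (mul_mem (mul_mem hg'.1 hx) (inv_mem hg'.1)) (inv_mem hx)))
                (inv_mem hg.1)))
              (h.secQ.nE (mul_mem (mul_mem (mul_mem hg.1 hx) (inv_mem hg.1)) (inv_mem hx)))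
              (triv_conj (h.secQ.nE hg.1) (hg'.2 x hx)) (hg.2 x hx)⟩
          inv_mem' := fun {g} hg => ⟨inv_mem hg.1, fun x hx => by
            have hgE := hg.1
            obtain ⟨g', hg'⟩ : ∃ g' : ↥(secN (bQ 3 E) (bW 3 E)), g' = ⟨g, h.secQ.nE hgE⟩ := ⟨_, rfl⟩
            obtain ⟨x', hx'⟩ : ∃ x' : ↥(secN (bQ 3 E) (bW 3 E)), x' = ⟨x, h.secQ.nE hx⟩ := ⟨_, rfl⟩
            have h1 : S.act ⁅g', x'⁆ = 1 := (S.triv_iff ⁅g', x'⁆).1 (by rw [hg', hx']; exact hg.2 x hx)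
            have h2 : S.act ⁅g'⁻¹, x'⁆ = 1 := by
              have h3 : S.act (⁅g', x'⁆⁻¹) = 1 := by
                calc S.act (⁅g', x'⁆⁻¹) = S.act (⁅g', x'⁆⁻¹) * S.act ⁅g', x'⁆ := by rw [h1, mul_one]
                  _ = 1 := by rw [← map_mul, inv_mul_cancel, map_one]
              rw [show ⁅g'⁻¹, x'⁆ = g'⁻¹ * ⁅g', x'⁆⁻¹ * g' by simp only [commutatorElement_def]; group, map_mul,
                map_mul, h3, mul_one, ← map_mul, inv_mul_cancel, map_one]
            have h4 := (S.triv_iff ⁅g'⁻¹, x'⁆).2 h2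
            rw [hg', hx'] at h4
            exact h4⟩ }
      suffices hX : E ≤ X from (hX ha).2 b hb
      conv_lhs => rw [closure_coprime_eq h.hE.1]
      refine (closure_le _).2 fun g ⟨hg, ho⟩ => ?_
      obtain ⟨g', hg', hge, ho', hgg⟩ := h.exists_rep hg ho
      have h1 : g' ∈ X := ⟨hg', key g' hg' hge ho'⟩
      have h2 : g * g'⁻¹ ∈ X := ⟨bQ_le E hgg, fun x hx q hq => h.secQ.comm (commutator_mem_commutator (by
        rw [← commutatorElement_inv x (g * g'⁻¹)]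
        exact inv_mem (comm_mem_right hgg (bQ_norm (le_normalizer hx)))) hq)⟩
      simpa using mul_mem h2 h1

/-- Commutators of the involution with `C([W, E])` lie in its odd core. -/
theorem comm_mem_oddC (h : Inv T E e) {c : G} (hc : c ∈ cC 3 E) : ⁅e, c⁆ ∈ oddC E := by
  classical
  obtain ⟨H, hH⟩ : ∃ H, H = cC 3 E ⊔ E := ⟨_, rfl⟩
  have hEC : E ≤ normalizer (cC 3 E : Set G) := fun x hx => cC_norm (le_normalizer hx)
  obtain ⟨z, hz⟩ : ∃ z : ↥H, z = ⟨e, hH ▸ mem_sup_right h.mem⟩ := ⟨_, rfl⟩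
  have hzv : (z : G) = e := by rw [hz]
  have hiso : Cfsg.IsIsolatedInvolution z := by
    refine ⟨by rw [← Subgroup.orderOf_coe, hzv, h.orderOf_e], fun g hg => ?_⟩
    obtain ⟨c₁, hc₁, x, hx, hgx⟩ := CfsgLib.Coprime.mem_sup_exists hEC (hH.le g.2)
    obtain ⟨r, hr, -, hry⟩ := h.decomp (h.cent x hx)
    have hxe : x * e * x⁻¹ = r * e * r⁻¹ := by
      calc x * e * x⁻¹ = r * ((r⁻¹ * x) * e) * (r⁻¹ * x)⁻¹ * r⁻¹ := by group
        _ = r * e * r⁻¹ := by rw [hry]; group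
    have hgv : ((g * z * g⁻¹ : ↥H) : G) = (c₁ * r) * e * (c₁ * r)⁻¹ := by
      rw [Subgroup.coe_mul, Subgroup.coe_mul, Subgroup.coe_inv, hzv, ← hgx,
        show c₁ * x * e * (c₁ * x)⁻¹ = c₁ * (x * e * x⁻¹) * c₁⁻¹ by group, hxe]
      group
    have hcm := congrArg Subtype.val hg.eq
    change (z : G) * ((g * z * g⁻¹ : ↥H) : G) = ((g * z * g⁻¹ : ↥H) : G) * (z : G) at hcm
    rw [hgv, hzv] at hcm
    refine Subtype.ext ?_
    rw [hgv, hzv]
    exact h.conj_eq (mul_mem hc₁ (h.bQ_le_cC hr)) hcm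
  have hzc := CfsgLib.Invol.zstar hiso ⟨c, hH ▸ mem_sup_left hc⟩
  haveI := CfsgLib.Coprime.pPrimeCore_characteristic (G := ↥H) 2
  obtain ⟨N, hN⟩ : ∃ N, N = (Cfsg.pPrimeCore 2 ↥H).map H.subtype ⊓ cC 3 E := ⟨_, rfl⟩
  have hNC : N ≤ cC 3 E := hN ▸ inf_le_right
  haveI : (N.subgroupOf (cC 3 E)).Normal := normal_subgroupOf_of_le_normalizer (by
    rw [hN]
    refine CfsgLib.Coprime.inf_le_normalizer ?_ le_normalizer
    exact ((hH ▸ le_sup_left : cC 3 E ≤ H).trans le_normalizer).trans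
      (CfsgLib.LS.normalizer_le_normalizer_map_char _))
  have hodd : ¬ 2 ∣ Nat.card ↥(N.subgroupOf (cC 3 E)) := by
    rw [Nat.card_congr (subgroupOfEquivOfLe hNC).toEquiv]
    intro hd
    refine CfsgLib.Coprime.pPrimeCore_not_dvd (G := ↥H) Nat.prime_two ?_
    rw [← card_map_of_injective H.subtype_injective]
    exact hd.trans (card_dvd_of_le (hN ▸ inf_le_left))
  have hle := CfsgLib.Coprime.le_pPrimeCore_of_not_dvd Nat.prime_two hodd
  have hmem : ⁅e, c⁆ ∈ N := by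
    refine hN.ge (mem_inf.2 ⟨mem_map.2 ⟨_, hzc, ?_⟩, ?_⟩)
    · show (z : G) * c * (z : G)⁻¹ * c⁻¹ = ⁅e, c⁆
      rw [hzv, commutatorElement_def]
    · rw [commutatorElement_def]
      exact mul_mem ((mem_normalizer_iff.1 (cC_norm h.e_norm) c).1 hc) (inv_mem hc)
  exact ⟨⟨⁅e, c⁆, hNC hmem⟩, hle (mem_subgroupOf.2 hmem), rfl⟩

end Inv

end CfsgLib.BlockCent
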