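import Cfsg.Agent.Lib.Char.BlockCent.Local

/-!
# Pairings between `Q / W` and `W / Z` given by `O_3(C([W, E]))`
-/

set_option autoImplicit false
set_option linter.unusedSectionVars false
set_option linter.style.haveILetI false
set_option linter.unusedVariables false
set_option maxHeartbeats 1000000

open Subgroup
open scoped commutatorElement

namespace CfsgLib.BlockCent

open CfsgLib.SubBlock
open CfsgLib.BaumannBlock (bW bZ BlockFacts)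

universe u
variable {G : Type u} [Group G] [Finite G]

attribute [local instance] CfsgLib.Coprime.pCore_normal'
attribute [local instance] fact_three

variable {T : Sylow 3 G} {E : Subgroup G} {e : G}

namespace Exc

theorem comm_bW (h : Exc T E) {x a : G} (hx : x ∈ cP 3 E) (ha : a ∈ bQ 3 E) : ⁅x, a⁆ ∈ bW 3 E := h.triv_cP hx a ha

/-- `P` centralises `W`. -/
theorem cP_comm_bW (h : Exc T E) {x w : G} (hx : x ∈ cP 3 E) (hw : w ∈ bW 3 E) : x * w = w * x := by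
  have hle : bW 3 E ≤ centralizer ({x} : Set G) := by
    rw [← CfsgLib.BaumannBlock.V_sup_Z h.facts h.ne_bot]
    refine sup_le (fun v hv => mem_centralizer_singleton_iff.2 ?_) fun z hz => mem_centralizer_singleton_iff.2 ?_
    · exact mem_centralizer_iff.1 (cP_le hx) v hv
    · exact (h.cent_bZ_of_triv (h.triv_cP hx) hz).symm
  exact (mem_centralizer_singleton_iff.1 (hle hw)).symm

theorem comm_mul_right (h : Exc T E) {x a b : G} (hx : x ∈ cP 3 E) (ha : a ∈ bQ 3 E) (hb : b ∈ bQ 3 E) :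
    ⁅x, a * b⁆ = ⁅x, a⁆ * ⁅x, b⁆ := by
  rw [show ⁅x, a * b⁆ = ⁅x, a⁆ * (a * ⁅x, b⁆ * a⁻¹) by simp only [commutatorElement_def]; group,
    bW_comm_bQ (h.comm_bW hx hb) ha, mul_inv_cancel_right]

theorem comm_mul_left (h : Exc T E) {x y a : G} (hx : x ∈ cP 3 E) (hy : y ∈ cP 3 E) (ha : a ∈ bQ 3 E) :
    ⁅x * y, a⁆ = ⁅y, a⁆ * ⁅x, a⁆ := by
  rw [show ⁅x * y, a⁆ = x * ⁅y, a⁆ * x⁻¹ * ⁅x, a⁆ by simp only [commutatorElement_def]; group,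
    h.cP_comm_bW hx (h.comm_bW hy ha), mul_inv_cancel_right]

/-- Commuting with `W`, an element of `P` maps `Q / W` to `W / Z`. -/
theorem comm_bW_bZ (h : Exc T E) {x w : G} (hx : x ∈ cP 3 E) (hw : w ∈ bW 3 E) : ⁅x, w⁆ ∈ bZ 3 E := by
  rw [commutatorElement_eq_one_iff_mul_comm.2 (h.cP_comm_bW hx hw)]; exact one_mem _

/-- The pairing commutes with the action of `E`. -/
theorem comm_conj (h : Exc T E) {x a g : G} (hx : x ∈ cP 3 E) (ha : a ∈ bQ 3 E) (hg : g ∈ E) :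
    g * ⁅x, a⁆ * g⁻¹ * ⁅x, g * a * g⁻¹⁆⁻¹ ∈ bZ 3 E := by
  obtain ⟨q, hq, hqx⟩ : ∃ q ∈ bQ 3 E, g * x * g⁻¹ = q * x := ⟨⁅x, g⁆⁻¹, inv_mem (h.cP_comm hx hg), by
    simp only [commutatorElement_def]; group⟩
  have ha' : g * a * g⁻¹ ∈ bQ 3 E := (mem_normalizer_iff.1 (bQ_norm (le_normalizer hg)) a).1 ha
  rw [show g * ⁅x, a⁆ * g⁻¹ = ⁅g * x * g⁻¹, g * a * g⁻¹⁆ by simp only [commutatorElement_def]; group, hqx,
    show ⁅q * x, g * a * g⁻¹⁆ = q * ⁅x, g * a * g⁻¹⁆ * q⁻¹ * ⁅q, g * a * g⁻¹⁆ by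
      simp only [commutatorElement_def]; group,
    bW_comm_bQ (h.comm_bW hx ha') hq, mul_inv_cancel_right]
  have hz : ⁅q, g * a * g⁻¹⁆ ∈ bZ 3 E := h.derived.le (commutator_mem_commutator hq ha')
  rw [← bW_comm_bQ hz.1 (bW_le_bQ E (h.comm_bW hx ha')) |>.symm, mul_inv_cancel_right]
  exact hz

/-- A non-trivial pairing is onto. -/
theorem pair_surj (h : Exc T E) {x : G} (hx : x ∈ cP 3 E) (hne : ∃ a ∈ bQ 3 E, ⁅x, a⁆ ∉ bZ 3 E) {w : G}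
    (hw : w ∈ bW 3 E) : ∃ a ∈ bQ 3 E, ⁅x, a⁆ * w⁻¹ ∈ bZ 3 E := by
  have hWc : ∀ a ∈ bW 3 E, ∀ b ∈ bW 3 E, a * b = b * a := fun a ha b hb => bW_comm_bQ hb (bW_le_bQ E ha)
  let I : Subgroup G :=
    { carrier := {w | w ∈ bW 3 E ∧ ∃ a ∈ bQ 3 E, ⁅x, a⁆ * w⁻¹ ∈ bZ 3 E}
      one_mem' := ⟨one_mem _, 1, one_mem _, by simp⟩
      mul_mem' := fun {w w'} ⟨hw, a, ha, hz⟩ ⟨hw', a', ha', hz'⟩ => ⟨mul_mem hw hw', a * a', mul_mem ha ha', by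
        rw [h.comm_mul_right hx ha ha', show ⁅x, a⁆ * ⁅x, a'⁆ * (w * w')⁻¹ = ⁅x, a⁆ * (⁅x, a'⁆ * w'⁻¹) * w⁻¹ by group,
          mul_assoc, hWc _ hz'.1 _ (inv_mem hw), ← mul_assoc]
        exact mul_mem hz hz'⟩
      inv_mem' := fun {w} ⟨hw, a, ha, hz⟩ => ⟨inv_mem hw, a⁻¹, inv_mem ha, by
        have h1 : ⁅x, a⁻¹⁆ = ⁅x, a⁆⁻¹ := eq_inv_of_mul_eq_one_left (by
          rw [← h.comm_mul_right hx (inv_mem ha) ha, inv_mul_cancel, commutatorElement_one_right])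
        rw [h1, inv_inv, show ⁅x, a⁆⁻¹ * w = (w⁻¹ * ⁅x, a⁆)⁻¹ by group, hWc _ (inv_mem hw) _ (h.comm_bW hx ha)]
        exact inv_mem hz⟩ }
  rcases h.facts.irr I (fun w hw => hw.1) (fun z hz => ⟨hz.1, 1, one_mem _, by simpa using inv_mem hz⟩) (fun g hg => by
    refine CfsgLib.Fusion.conjBy_eq_iff.1 (CfsgLib.Fusion.conjBy_eq_of_le ?_)
    rintro _ ⟨w, ⟨hw, a, ha, hz⟩, rfl⟩
    refine ⟨(mem_normalizer_iff.1 (h.facts.normW hg) w).1 hw, g * a * g⁻¹,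
      (mem_normalizer_iff.1 (bQ_norm (le_normalizer hg)) a).1 ha, ?_⟩
    show ⁅x, g * a * g⁻¹⁆ * (g * w * g⁻¹)⁻¹ ∈ bZ 3 E
    rw [show ⁅x, g * a * g⁻¹⁆ * (g * w * g⁻¹)⁻¹ =
      (g * ⁅x, a⁆ * g⁻¹ * ⁅x, g * a * g⁻¹⁆⁻¹)⁻¹ * (g * (⁅x, a⁆ * w⁻¹) * g⁻¹) by group]
    exact mul_mem (inv_mem (h.comm_conj hx ha hg))
      ((mem_normalizer_iff.1 (bZ_norm (le_normalizer hg)) _).1 hz)) with hI | hI
  · obtain ⟨a, ha, hna⟩ := hne
    exact absurd (hI.le (show ⁅x, a⁆ ∈ I from ⟨h.comm_bW hx ha, a, ha, by rw [mul_inv_cancel]; exact one_mem _⟩)) hna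
  · exact (hI.ge hw).2

/-- A non-trivial pairing is injective. -/
theorem pair_inj (h : Exc T E) {x : G} (hx : x ∈ cP 3 E) (hne : ∃ a ∈ bQ 3 E, ⁅x, a⁆ ∉ bZ 3 E) {a : G}
    (ha : a ∈ bQ 3 E) (hxa : ⁅x, a⁆ ∈ bZ 3 E) : a ∈ bW 3 E := by
  let K : Subgroup G :=
    { carrier := {a | a ∈ bQ 3 E ∧ ⁅x, a⁆ ∈ bZ 3 E}
      one_mem' := ⟨one_mem _, by simp⟩
      mul_mem' := fun {a b} ha hb => ⟨mul_mem ha.1 hb.1, by rw [h.comm_mul_right hx ha.1 hb.1]; exact mul_mem ha.2 hb.2⟩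
      inv_mem' := fun {a} ha => ⟨inv_mem ha.1, by
        rw [show ⁅x, a⁻¹⁆ = ⁅x, a⁆⁻¹ from eq_inv_of_mul_eq_one_left (by
          rw [← h.comm_mul_right hx (inv_mem ha.1) ha.1, inv_mul_cancel, commutatorElement_one_right])]
        exact inv_mem ha.2⟩ }
  rcases h.secQ.irr K (fun a ha => ha.1) (fun w hw => ⟨bW_le_bQ E hw, h.comm_bW_bZ hx hw⟩) (fun g hg => by
    refine CfsgLib.Fusion.conjBy_eq_iff.1 (CfsgLib.Fusion.conjBy_eq_of_le ?_)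
    rintro _ ⟨a, ⟨ha, hz⟩, rfl⟩
    refine ⟨(mem_normalizer_iff.1 (bQ_norm (le_normalizer hg)) a).1 ha, ?_⟩
    show ⁅x, g * a * g⁻¹⁆ ∈ bZ 3 E
    rw [show ⁅x, g * a * g⁻¹⁆ = (g * ⁅x, a⁆ * g⁻¹ * ⁅x, g * a * g⁻¹⁆⁻¹)⁻¹ * (g * ⁅x, a⁆ * g⁻¹) by group]
    exact mul_mem (inv_mem (h.comm_conj hx ha hg))
      ((mem_normalizer_iff.1 (bZ_norm (le_normalizer hg)) _).1 hz)) with hK | hK
  · exact hK.le (show a ∈ K from ⟨ha, hxa⟩)
  · obtain ⟨b, hb, hnb⟩ := hne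
    exact absurd (hK.ge hb).2 hnb

/-- For a fixed element of `Q`, the pairings do not reach all of `W / Z`. -/
theorem pair_not_all (h : Exc T E) {x₀ : G} (hx₀ : x₀ ∈ cP 3 E) (hne : ∃ a ∈ bQ 3 E, ⁅x₀, a⁆ ∉ bZ 3 E) {a : G}
    (ha : a ∈ bQ 3 E) : ∃ w ∈ bW 3 E, ∀ c ∈ cP 3 E, ⁅c, a⁆ * w⁻¹ ∉ bZ 3 E := by
  classical
  by_contra! hall
  obtain ⟨M, iM, ⟨S⟩⟩ := exists_secRep h.secQ.toIsAbSec
  obtain ⟨N, iN, ⟨S'⟩⟩ := exists_secRep h.secW.toIsAbSec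
  haveI := S.finite
  have hphi : ∀ c ∈ cP 3 E, ∃ f : M →+ N, ∀ b ∈ bQ 3 E, f (S.pr b) = S'.pr ⁅c, b⁆ := by
    intro c hc
    choose l hl hlm using S.pr_surj
    have hwd : ∀ b ∈ bQ 3 E, S'.pr ⁅c, l (S.pr b)⁆ = S'.pr ⁅c, b⁆ := fun b hb => by
      obtain ⟨w, hw, hwb⟩ : ∃ w ∈ bW 3 E, l (S.pr b) = w * b :=
        ⟨l (S.pr b) * b⁻¹, (S.pr_eq_iff (hl _) hb).1 (hlm _), by group⟩
      rw [hwb, h.comm_mul_right hc (bW_le_bQ E hw) hb, S'.pr_mul _ (h.comm_bW hc (bW_le_bQ E hw)) _ (h.comm_bW hc hb),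
        (S'.pr_eq_zero _ (h.comm_bW hc (bW_le_bQ E hw))).2 (h.comm_bW_bZ hc hw), zero_add]
    refine ⟨AddMonoidHom.mk' (fun m => S'.pr ⁅c, l m⁆) fun m m' => ?_, hwd⟩
    have h1 := hwd _ (mul_mem (hl m) (hl m'))
    rw [S.pr_mul _ (hl m) _ (hl m'), hlm, hlm, h.comm_mul_right hc (hl m) (hl m'),
      S'.pr_mul _ (h.comm_bW hc (hl m)) _ (h.comm_bW hc (hl m'))] at h1
    exact h1
  choose f hf using hphi
  have hf0 : Function.Bijective (f x₀ hx₀) := by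
    refine ⟨(injective_iff_map_eq_zero _).2 fun m hm => ?_, fun v => ?_⟩
    · obtain ⟨b, hb, rfl⟩ := S.pr_surj m
      rw [hf x₀ hx₀ b hb, S'.pr_eq_zero _ (h.comm_bW hx₀ hb)] at hm
      exact (S.pr_eq_zero b hb).2 (h.pair_inj hx₀ hne hb hm)
    · obtain ⟨w, hw, rfl⟩ := S'.pr_surj v
      obtain ⟨b, hb, hbw⟩ := h.pair_surj hx₀ hne hw
      exact ⟨S.pr b, (hf x₀ hx₀ b hb).trans ((S'.pr_eq_iff (h.comm_bW hx₀ hb) hw).2 hbw)⟩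
  let ι : M ≃+ N := AddEquiv.ofBijective (f x₀ hx₀) hf0
  have hfE : ∀ (c : G) (hc : c ∈ cP 3 E) (g : G) (hg : g ∈ E) (m : M),
      f c hc (S.act ⟨g, h.secQ.nE hg⟩ m) = S'.act ⟨g, h.secW.nE hg⟩ (f c hc m) := by
    intro c hc g hg m
    obtain ⟨b, hb, rfl⟩ := S.pr_surj m
    have hb' : g * b * g⁻¹ ∈ bQ 3 E := conj_mem_of_secN (h.secQ.nE hg) hb
    rw [← S.pr_act ⟨g, h.secQ.nE hg⟩ b hb, hf c hc _ hb', hf c hc b hb,
      ← S'.pr_act ⟨g, h.secW.nE hg⟩ _ (h.comm_bW hc hb)]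
    exact ((S'.pr_eq_iff (conj_mem_of_secN (h.secW.nE hg) (h.comm_bW hc hb)) (h.comm_bW hc hb')).2
      (h.comm_conj hc hb hg)).symm
  -- the commutant is transitive
  obtain ⟨m₀, hm₀⟩ : ∃ m₀, m₀ = S.pr a := ⟨_, rfl⟩
  have htrans : ∀ m, ∃ u ∈ commutant S E, u m₀ = m := by
    intro m
    obtain ⟨w, hw, hwm⟩ := S'.pr_surj (f x₀ hx₀ m)
    obtain ⟨c, hc, hcw⟩ := hall w hw
    refine ⟨ι.symm.toAddMonoidHom.comp (f c hc), mem_commutant.2 fun g hg => AddMonoidHom.ext fun m' => ?_, ?_⟩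
    · show S.act g (ι.symm (f c hc m')) = ι.symm (f c hc (S.act g m'))
      apply ι.injective
      rw [ι.apply_symm_apply]
      show f x₀ hx₀ _ = _
      rw [hfE x₀ hx₀ g hg, hfE c hc g hg]
      congr 1
      exact ι.apply_symm_apply _
    · show ι.symm (f c hc m₀) = m
      rw [AddEquiv.symm_apply_eq, hm₀, hf c hc a ha]
      exact ((S'.pr_eq_iff (h.comm_bW hc ha) hw).2 hcw).trans hwm
  have hact : ∀ (g : ↥(secN (bQ 3 E) (bW 3 E))), (g : G) ∈ E → S.act g ∈ commutant S E := by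
    intro g hg
    obtain ⟨u, hu, hum⟩ := htrans (S.act g m₀)
    suffices hgu : S.act g = u by rw [hgu]; exact hu
    refine AddMonoidHom.ext fun m => ?_
    obtain ⟨v, hv, rfl⟩ := htrans m
    show (S.act g * v) m₀ = (u * v) m₀
    rw [mem_commutant.1 hv g hg, h.secQ.commutant_comm S hu hv]
    show v (S.act g m₀) = v (u m₀)
    rw [hum]
  obtain ⟨F, i₁, i₂, n, hn, hF, -, -, hQmod⟩ := h.nat_data
  obtain ⟨z, hz, hzn⟩ := sl_nonfix hQmod (hF ▸ Nat.le_self_pow hn 3)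
  refine hzn (triv_of_le_closure (K := ⁅E, E⁆) h.secQ.toIsAbSec (S := {g | ∃ a ∈ E, ∃ b ∈ E, ⁅a, b⁆ = g})
    (by rw [Subgroup.commutator_def]) ?_ ?_ z hz)
  · rintro _ ⟨p, hp, q, hq, rfl⟩
    exact h.secQ.nE (mul_mem (mul_mem (mul_mem hp hq) (inv_mem hp)) (inv_mem hq))
  · rintro _ ⟨p, hp, q, hq, rfl⟩
    obtain ⟨p', hp'⟩ : ∃ p' : ↥(secN (bQ 3 E) (bW 3 E)), p' = ⟨p, h.secQ.nE hp⟩ := ⟨_, rfl⟩
    obtain ⟨q', hq'⟩ : ∃ q' : ↥(secN (bQ 3 E) (bW 3 E)), q' = ⟨q, h.secQ.nE hq⟩ := ⟨_, rfl⟩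
    have hc := h.secQ.commutant_comm S (hact p' (hp' ▸ hp)) (hact q' (hq' ▸ hq))
    have h1 : S.act ⁅p', q'⁆ = 1 := by
      rw [commutatorElement_def, map_mul, map_mul, map_mul, hc, ← map_mul, ← map_mul, ← map_mul,
        mul_inv_cancel_right, mul_inv_cancel, map_one]
    have h2 := (S.triv_iff ⁅p', q'⁆).2 h1
    rw [hp', hq'] at h2
    exact h2

end Exc

end CfsgLib.BlockCent
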