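import Mathlib

/-!
# Automorphisms of small abelian groups of exponent three
-/

set_option autoImplicit false
set_option linter.unusedSectionVars false
set_option linter.style.haveILetI false

namespace CfsgLib.BlockCent

/-- The fixed points of an automorphism of `s`-power order are congruent to the whole group modulo `s`. -/
theorem card_fixed_modEq {M : Type*} [AddCommGroup M] [Finite M] {s a : ℕ} [Fact s.Prime] (T : AddMonoid.End M)
    (hT : T ^ s ^ a = 1) : Nat.card M ≡ Nat.card {m : M // T m = m} [MOD s] := by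
  classical
  have hpos : 1 ≤ s ^ a := Nat.one_le_pow _ _ (Fact.out : s.Prime).pos
  let σ : Equiv.Perm M :=
    { toFun := fun m => T m
      invFun := fun m => (T ^ (s ^ a - 1)) m
      left_inv := fun m => by
        show (T ^ (s ^ a - 1) * T) m = m
        rw [← pow_succ, Nat.sub_add_cancel hpos, hT]; rfl
      right_inv := fun m => by
        show (T * T ^ (s ^ a - 1)) m = m
        rw [← pow_succ', Nat.sub_add_cancel hpos, hT]; rfl }
  have hσ : σ ^ s ^ a = 1 := by
    have h : ∀ j : ℕ, ∀ m : M, (σ ^ j) m = (T ^ j) m := fun j => by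
      induction j with
      | zero => intro m; rfl
      | succ j ih => intro m; rw [pow_succ', pow_succ', Equiv.Perm.mul_apply]; exact congrArg T (ih m)
    ext m
    rw [h, hT]; rfl
  have hP : IsPGroup s ↥(Subgroup.zpowers σ) := fun x => by
    obtain ⟨j, hj⟩ := Subgroup.mem_zpowers_iff.1 x.2
    refine ⟨a, Subtype.ext ?_⟩
    rw [SubgroupClass.coe_pow, ← hj, ← zpow_natCast (σ ^ j), ← zpow_mul, mul_comm, zpow_mul, zpow_natCast, hσ,
      one_zpow]
    rfl
  have h := hP.card_modEq_card_fixedPoints M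
  suffices he : MulAction.fixedPoints ↥(Subgroup.zpowers σ) M = {m : M | T m = m} by
    rw [he] at h
    exact h
  ext m
  constructor
  · intro hm
    exact hm ⟨σ, Subgroup.mem_zpowers σ⟩
  · intro hm g
    obtain ⟨g, hg⟩ := g
    obtain ⟨j, rfl⟩ := Subgroup.mem_zpowers_iff.1 hg
    exact Function.IsFixedPt.perm_zpow (e := σ) (x := m) hm j

/-- An automorphism of primitive prime order power acts without invariant subgroups. -/
theorem invariant_eq_top {M : Type*} [AddCommGroup M] [Finite M] {s a d : ℕ} [Fact s.Prime]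
    (hM : Nat.card M = 3 ^ d) (T : AddMonoid.End M) (hT : T ^ s ^ a = 1) (hT1 : T ≠ 1) (hs : s ∣ 3 ^ d - 1)
    (hprim : ∀ i, 1 ≤ i → i < d → ¬ s ∣ 3 ^ i - 1) (S : AddSubgroup M) (hS : ∀ m ∈ S, T m ∈ S) (hne : S ≠ ⊥) :
    S = ⊤ := by
  classical
  have hs3 : s ≠ 3 := fun h => by
    subst h
    have hd : d ≠ 0 := fun hd => by
      subst hd
      rw [pow_zero] at hM
      haveI := (Nat.card_eq_one_iff_unique.1 hM).1
      exact hT1 (AddMonoidHom.ext fun m => Subsingleton.elim _ _)
    have h1 : (3 : ℕ) ∣ 3 ^ d := dvd_pow_self 3 hd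
    have h2 : 1 ≤ 3 ^ d := Nat.one_le_pow _ _ (by norm_num)
    omega
  have hcop : ∀ j, Nat.Coprime s (3 ^ j) := fun j =>
    Nat.Coprime.pow_right j ((Nat.coprime_primes Fact.out Nat.prime_three).2 hs3)
  have key : ∀ i j, i ≤ d → j ≤ i → 3 ^ i ≡ 3 ^ j [MOD s] → i = j ∨ (j = 0 ∧ i = d) := by
    intro i j hid hji h
    have h1 := (Nat.modEq_iff_dvd' (Nat.pow_le_pow_right (by norm_num) hji)).1 h.symm
    rw [show 3 ^ i - 3 ^ j = 3 ^ j * (3 ^ (i - j) - 1) by
      rw [Nat.mul_sub, mul_one, ← pow_add, Nat.add_sub_cancel' hji]] at h1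
    have h2 := (hcop j).dvd_of_dvd_mul_left h1
    by_contra hne'
    push Not at hne'
    exact hprim (i - j) (by omega) (by omega) h2
  let K : AddSubgroup M :=
    { carrier := {m | T m = m}
      zero_mem' := map_zero T
      add_mem' := fun {x y} (hx : T x = x) (hy : T y = y) => by show T (x + y) = x + y; rw [map_add, hx, hy]
      neg_mem' := fun {x} (hx : T x = x) => by show T (-x) = -x; rw [map_neg, hx] }
  obtain ⟨j, hj, hjK⟩ := (Nat.dvd_prime_pow Nat.prime_three).1
    (hM ▸ AddSubgroup.card_addSubgroup_dvd_card K : Nat.card K ∣ 3 ^ d)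
  have hK : Nat.card K = 1 := by
    have h := card_fixed_modEq T hT
    rw [hM, show Nat.card {m : M // T m = m} = 3 ^ j from hjK] at h
    rcases key d j le_rfl hj h with h' | ⟨h', -⟩
    · refine absurd (AddMonoidHom.ext fun m => ?_) hT1
      have hKt : K = ⊤ := AddSubgroup.eq_top_of_card_eq K (by rw [hjK, hM, h'])
      exact (hKt.symm ▸ AddSubgroup.mem_top m : m ∈ K)
    · rw [hjK, h', pow_zero]
  obtain ⟨i, hi, hiS⟩ := (Nat.dvd_prime_pow Nat.prime_three).1
    (hM ▸ AddSubgroup.card_addSubgroup_dvd_card S : Nat.card S ∣ 3 ^ d)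
  let T' : AddMonoid.End ↥S := AddMonoidHom.mk' (fun m => ⟨T m, hS m m.2⟩) fun m m' => Subtype.ext (map_add T _ _)
  have hT' : ∀ (k : ℕ) (m : ↥S), ((T' ^ k) m : M) = (T ^ k) m := fun k => by
    induction k with
    | zero => intro m; rfl
    | succ k ih => intro m; rw [pow_succ', pow_succ']; exact congrArg T (ih m)
  have h2 := card_fixed_modEq T' (a := a) (AddMonoidHom.ext fun m => Subtype.ext ((hT' _ m).trans (by rw [hT]; rfl)))
  haveI := (Nat.card_eq_one_iff_unique.1 hK).1
  have h3 : Nat.card {m : ↥S // T' m = m} = 1 := by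
    refine Nat.card_eq_one_iff_unique.2 ⟨⟨fun x y => Subtype.ext (Subtype.ext ?_)⟩, ⟨⟨0, map_zero T'⟩⟩⟩
    exact congrArg (fun z : ↥K => (z : M)) (Subsingleton.elim (⟨(x.1 : M), congrArg Subtype.val x.2⟩ : ↥K)
      ⟨(y.1 : M), congrArg Subtype.val y.2⟩)
  rw [hiS, h3] at h2
  rcases key i 0 hi (Nat.zero_le i) h2 with h' | ⟨-, h'⟩
  · exact absurd (AddSubgroup.eq_bot_of_card_eq S (by rw [hiS, h', pow_zero])) hne
  · exact AddSubgroup.eq_top_of_card_eq S (by rw [hiS, hM, h'])

/-- Squares of automorphisms of a group of order three are trivial. -/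
theorem sq_fix_of_card_three {M : Type*} [AddCommGroup M] [Finite M] (h : Nat.card M = 3) (f : M →+ M)
    (hf : Function.Injective f) (m : M) : f (f m) = m := by
  rcases eq_or_ne m 0 with rfl | hm
  · rw [map_zero, map_zero]
  haveI : Fact (Nat.Prime 3) := ⟨Nat.prime_three⟩
  obtain ⟨k, hk⟩ := mem_zmultiples_of_prime_card h (g := m) hm (g' := f m)
  have hk3 : (k : ℤ) % 3 = 1 ∨ (k : ℤ) % 3 = 2 := by
    have : k % 3 ≠ 0 := fun h0 => by
      obtain ⟨t, rfl⟩ := Int.dvd_of_emod_eq_zero h0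
      refine hm (hf ?_)
      rw [map_zero, ← hk]
      show (3 * t) • m = 0
      rw [mul_comm, mul_zsmul, show (3 : ℤ) • m = 0 by
        rw [show (3 : ℤ) = (Nat.card M : ℤ) by rw [h]; rfl, natCast_zsmul]; exact card_nsmul_eq_zero', zsmul_zero]
    omega
  have h3 : (3 : ℤ) • m = 0 := by
    rw [show (3 : ℤ) = (Nat.card M : ℤ) by rw [h]; rfl, natCast_zsmul]; exact card_nsmul_eq_zero'
  rw [← hk]
  show f (k • m) = m
  rw [map_zsmul, ← hk]
  show k • k • m = m
  obtain ⟨t, ht⟩ : ∃ t : ℤ, k * k = 1 + t * 3 := by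
    rcases hk3 with e | e
    · obtain ⟨u, rfl⟩ : ∃ u, k = 3 * u + 1 := ⟨k / 3, by omega⟩
      exact ⟨3 * u * u + 2 * u, by ring⟩
    · obtain ⟨u, rfl⟩ : ∃ u, k = 3 * u + 2 := ⟨k / 3, by omega⟩
      exact ⟨3 * u * u + 4 * u + 1, by ring⟩
  rw [← mul_zsmul, ht, add_zsmul, one_zsmul, mul_zsmul, h3, zsmul_zero, add_zero]

/-- An automorphism of order a power of two of a group of order nine fixing a line has trivial square. -/
theorem sq_eq_one_of_line {M : Type*} [AddCommGroup M] [Finite M] (hM : Nat.card M = 9) (h3 : ∀ m : M, 3 • m = 0)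
    (T : AddMonoid.End M) {a : ℕ} (hT : T ^ 2 ^ a = 1) (S : AddSubgroup M) (hS : ∀ m ∈ S, T m ∈ S)
    (hbot : S ≠ ⊥) (htop : S ≠ ⊤) : T * T = 1 := by
  classical
  have hinj : Function.Injective T := by
    refine Function.LeftInverse.injective (g := fun m => (T ^ (2 ^ a - 1)) m) fun m => ?_
    show (T ^ (2 ^ a - 1) * T) m = m
    rw [← pow_succ, Nat.sub_add_cancel (Nat.one_le_pow _ _ (by norm_num)), hT]; rfl
  obtain ⟨i, hi, hiS⟩ := (Nat.dvd_prime_pow Nat.prime_three).1
    (show Nat.card S ∣ 3 ^ 2 by have := AddSubgroup.card_addSubgroup_dvd_card S; rwa [hM] at this)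
  have hS3 : Nat.card S = 3 := by
    interval_cases i
    · exact absurd (AddSubgroup.eq_bot_of_card_eq S (by rw [hiS]; rfl)) hbot
    · rw [hiS]; rfl
    · exact absurd (AddSubgroup.eq_top_of_card_eq S (by rw [hiS, hM]; rfl)) htop
  have hQ3 : Nat.card (M ⧸ S) = 3 := by
    have := AddSubgroup.card_eq_card_quotient_mul_card_addSubgroup S
    rw [hM, hS3] at this
    omega
  let f : ↥S →+ ↥S := AddMonoidHom.mk' (fun m => ⟨T m, hS m m.2⟩) fun m m' => Subtype.ext (map_add T _ _)
  have hfi : Function.Injective f := fun x y h => Subtype.ext (hinj (congrArg Subtype.val h))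
  have h1 : ∀ m ∈ S, T (T m) = m := fun m hm => congrArg Subtype.val (sq_fix_of_card_three hS3 f hfi ⟨m, hm⟩)
  let g : (M ⧸ S) →+ (M ⧸ S) := QuotientAddGroup.map S S T hS
  have hgs : Function.Surjective g := fun x => by
    obtain ⟨x, rfl⟩ := QuotientAddGroup.mk_surjective x
    obtain ⟨y, rfl⟩ := Finite.surjective_of_injective hinj x
    exact ⟨y, rfl⟩
  have h2 : ∀ m, T (T m) - m ∈ S := fun m => by
    have := sq_fix_of_card_three hQ3 g (Finite.injective_iff_surjective.2 hgs) (m : M ⧸ S)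
    exact (QuotientAddGroup.eq_iff_sub_mem).1 this
  have hCC : ∀ m, T (T (T (T (T (T m))))) = m := fun m => by
    have e1 := h2 m
    have e2 := h1 _ e1
    rw [map_sub, map_sub] at e2
    have e3 := congrArg T (congrArg T e2)
    simp only [map_sub] at e3
    have e4 := h3 (T (T m) - m)
    rw [succ_nsmul, two_nsmul] at e4
    linear_combination (norm := abel) e3 + e2 + e2 + e4
  have h6 : T ^ 6 = 1 := AddMonoidHom.ext fun m => hCC m
  have hd : orderOf T ∣ 2 :=
    (Nat.dvd_gcd (orderOf_dvd_of_pow_eq_one hT) (orderOf_dvd_of_pow_eq_one h6)).trans (by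
      rcases a.eq_zero_or_pos with h0 | h0
      · subst h0; norm_num
      · obtain ⟨b, rfl⟩ : ∃ b, a = b + 1 := ⟨a - 1, by omega⟩
        rw [pow_succ, show (6 : ℕ) = 3 * 2 by rfl, Nat.gcd_mul_right,
          (Nat.Coprime.pow_left b (by norm_num : Nat.Coprime 2 3)).gcd_eq_one, one_mul])
  rw [← pow_two]
  exact orderOf_dvd_iff_pow_eq_one.1 hd

end CfsgLib.BlockCent
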