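import Cfsg.Agent.Lib.Char.BlockCent.Mod
import Cfsg.Agent.Lib.Char.BlockCent.Orbit
import Cfsg.Agent.Lib.Char.Zsigmondy.Main
import Cfsg.Agent.Lib.Classical.SL2Sylow

/-!
# The part of `C([W, E])` normalising `O_3(E)` normalises `E`
-/

set_option autoImplicit false
set_option linter.unusedSectionVars false
set_option linter.style.haveILetI false
set_option linter.unusedVariables false
set_option maxHeartbeats 1000000

open Subgroup Matrix
open scoped commutatorElement MatrixGroups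

namespace CfsgLib.BlockCent

open CfsgLib.SubBlock
open CfsgLib.BaumannBlock (bW bZ BlockFacts)

universe u
variable {G : Type u} [Group G] [Finite G]

attribute [local instance] CfsgLib.Coprime.pCore_normal'
attribute [local instance] fact_three

/-- `C([W, E]) ∩ N(O_p(E))`. -/
def cL (p : ℕ) (E : Subgroup G) : Subgroup G := cC p E ⊓ normalizer (bQ p E : Set G)

/-- A normal subgroup of a quasisimple group is central or everything. -/
theorem quasisimple_normal {X : Type*} [Group X] (hX : Cfsg.IsQuasisimple X) (N : Subgroup X) [N.Normal]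
    {x : X} (hx : x ∈ N) (hxc : x ∉ Subgroup.center X) : N = ⊤ := by
  haveI := hX.2
  rcases (inferInstance : (N.map (QuotientGroup.mk' (Subgroup.center X))).Normal).eq_bot_or_eq_top with h | h
  · exfalso
    rw [Subgroup.map_eq_bot_iff, QuotientGroup.ker_mk'] at h
    exact hxc (h hx)
  · have hsup : N ⊔ Subgroup.center X = ⊤ := by
      have h1 := congrArg (Subgroup.comap (QuotientGroup.mk' (Subgroup.center X))) h
      rwa [Subgroup.comap_map_eq, QuotientGroup.ker_mk', Subgroup.comap_top] at h1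
    rw [eq_top_iff, ← hX.1.commutator_eq_top, commutator_def, commutator_le]
    intro a _ b _
    have hcn : Subgroup.center X ≤ normalizer (N : Set X) := by
      rw [normalizer_eq_top_iff.2 inferInstance]; exact le_top
    obtain ⟨n, hn, z, hz, rfl⟩ := CfsgLib.Coprime.mem_sup_exists hcn (hsup.ge (mem_top a))
    obtain ⟨m, hm, y, hy, rfl⟩ := CfsgLib.Coprime.mem_sup_exists hcn (hsup.ge (mem_top b))
    have cz : ∀ g, g * z = z * g := Subgroup.mem_center_iff.1 hz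
    have cy : ∀ g, g * y = y * g := Subgroup.mem_center_iff.1 hy
    rw [show ⁅n * z, m * y⁆ = ⁅n, m⁆ by
      simp only [commutatorElement_def]
      calc n * z * (m * y) * (n * z)⁻¹ * (m * y)⁻¹ = n * (z * (m * y) * z⁻¹) * n⁻¹ * (y⁻¹ * m⁻¹) := by group
        _ = n * (m * y) * n⁻¹ * (y⁻¹ * m⁻¹) := by rw [← cz, mul_inv_cancel_right]
        _ = n * m * (y * n⁻¹ * y⁻¹) * m⁻¹ := by group
        _ = n * m * n⁻¹ * m⁻¹ := by rw [← cy, mul_inv_cancel_right]]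
    rw [commutatorElement_def]
    exact mul_mem (mul_mem (mul_mem hn hm) (inv_mem hn)) (inv_mem hm)

variable {T : Sylow 3 G} {E : Subgroup G} {e : G}

theorem bW_norm_of_bQ {x : G} (hx : x ∈ normalizer (bQ 3 E : Set G)) : x ∈ normalizer (bW 3 E : Set G) := by
  refine CfsgLib.Fusion.conjBy_eq_iff.1 ?_
  have h := CfsgLib.Fusion.conjBy_eq_iff.2 hx
  unfold CfsgLib.Fusion.conjBy at h ⊢
  rw [CfsgLib.BaumannBlock.bW, Cfsg.omegaOneCenter, CfsgLib.LS.map_omegaOne_center (MulAut.conj x).injective, h]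

namespace Exc

theorem bZ_norm_of_bQ (h : Exc T E) {x : G} (hx : x ∈ normalizer (bQ 3 E : Set G)) :
    x ∈ normalizer (bZ 3 E : Set G) := by
  have h1 := CfsgLib.BaumannBlock.mem_normalizer_commutator hx hx
  rwa [h.derived] at h1

end Exc

namespace Inv

/-- Elements of `C([W, E]) ∩ N(Q)` act trivially on `W / Z`. -/
theorem cL_triv_W (h : Inv T E e) {x : G} (hx : x ∈ cL 3 E) : Triv (bW 3 E) (bZ 3 E) x := by
  intro w hw
  have hzn : bZ 3 E ≤ normalizer (bV 3 E : Set G) := fun z hz => bV_norm (le_normalizer (bQ_le E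
    (bW_le_bQ E (mem_inf.1 hz).1)))
  obtain ⟨v, hv, z, hz, rfl⟩ := CfsgLib.Coprime.mem_sup_exists hzn
    ((CfsgLib.BaumannBlock.V_sup_Z h.facts h.ne_bot).ge hw)
  have hxv : x * v = v * x := (mem_centralizer_iff.1 hx.1 v hv).symm
  have hu : ⁅x, z⁆ ∈ bZ 3 E := by
    rw [commutatorElement_def]
    exact mul_mem ((mem_normalizer_iff.1 (h.bZ_norm_of_bQ hx.2) z).1 hz) (inv_mem hz)
  rw [show ⁅x, v * z⁆ = ⁅x, v⁆ * (v * ⁅x, z⁆ * v⁻¹) by simp only [commutatorElement_def]; group,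
    commutatorElement_eq_one_iff_mul_comm.2 hxv, one_mul,
    bW_comm_bQ hu.1 (bW_le_bQ E (bV_le_bW h.facts hv)), mul_inv_cancel_right]
  exact hu

/-- The centraliser of `[W, E]` in `N(Q)` normalises `E`. -/
theorem cL_le_norm (h : Inv T E e) : cL 3 E ≤ normalizer (E : Set G) := by
  classical
  obtain ⟨b, hb⟩ := h.exists_isQuad
  obtain ⟨L, hL⟩ : ∃ L, L = cL 3 E := ⟨_, rfl⟩
  rw [← hL]
  have hLN : ∀ x ∈ normalizer (E : Set G), x ∈ normalizer (L : Set G) := fun x hx => by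
    rw [hL, cL]
    exact CfsgLib.Coprime.inf_le_normalizer (A := zpowers x) (zpowers_le.2 (cC_norm hx))
      (zpowers_le.2 (le_normalizer (G := G) (H := normalizer (bQ 3 E : Set G)) (bQ_norm hx))) (mem_zpowers x)
  obtain ⟨R, hR⟩ : ∃ R, R = ⁅E, L⁆ := ⟨_, rfl⟩
  have hRL : R ≤ L := by
    rw [hR, commutator_comm]
    exact CfsgLib.BaumannBlock.commutator_le_of_normalizes fun x hx => hLN x (le_normalizer hx)
  have hRN : ∀ x ∈ normalizer (E : Set G), x ∈ normalizer (R : Set G) := fun x hx =>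
    hR ▸ CfsgLib.BaumannBlock.mem_normalizer_commutator hx (hLN x hx)
  have hLR : L ≤ normalizer (R : Set G) := by
    rw [hR, commutator_comm]; exact normalizer_commutator_ge_left L E
  have hLC : ∀ x ∈ L, x ∈ cC 3 E ∧ x ∈ normalizer (bQ 3 E : Set G) := fun x hx => mem_inf.1 (hL.le hx)
  have hRQW : ∀ x ∈ R, x ∈ secN (bQ 3 E) (bW 3 E) := fun x hx =>
    ⟨(hLC x (hRL hx)).2, bW_norm_of_bQ (hLC x (hRL hx)).2⟩
  have hRQZ : ∀ x ∈ R, x ∈ secN (bQ 3 E) (bZ 3 E) := fun x hx =>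
    ⟨(hLC x (hRL hx)).2, h.bZ_norm_of_bQ (hLC x (hRL hx)).2⟩
  -- `R` is trivial on `P / Q`
  have hstP : ∀ r ∈ R, r ∈ chainStab (cP 3 E) (bQ 3 E) := by
    have h1 : ∀ x ∈ E, x ∈ chainStab (cP 3 E) (bQ 3 E) := fun x hx =>
      ⟨bQ_norm (le_normalizer hx), cP_norm (le_normalizer hx), fun q hq => by
        rw [← commutatorElement_inv q x]; exact inv_mem (h.cP_comm hq hx)⟩
    rw [hR]
    refine commutator_le.2 fun g hg l hl => ?_
    obtain ⟨hlC, hlQ⟩ := hLC l hl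
    have hlP : l ∈ normalizer (cP 3 E : Set G) := cC_le_normalizer_cP hlC
    rw [commutatorElement_def, show g * l * g⁻¹ * l⁻¹ = g * (l * g⁻¹ * l⁻¹) by group]
    refine mul_mem (h1 g hg) ⟨mul_mem (mul_mem hlQ (h1 _ (inv_mem hg)).1) (inv_mem hlQ),
      mul_mem (mul_mem hlP (h1 _ (inv_mem hg)).2.1) (inv_mem hlP), fun q hq => ?_⟩
    rw [show ⁅l * g⁻¹ * l⁻¹, q⁆ = l * ⁅g⁻¹, l⁻¹ * q * l⁆ * l⁻¹ by simp only [commutatorElement_def]; group]
    exact (mem_normalizer_iff.1 hlQ _).1 ((h1 _ (inv_mem hg)).2.2 _ ((mem_normalizer_iff''.1 hlP q).1 hq))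
  obtain ⟨R0, hR0⟩ : ∃ R0, R0 = R ⊓ chainStab (bQ 3 E) (bW 3 E) := ⟨_, rfl⟩
  have hR0R : R0 ≤ R := hR0 ▸ inf_le_left
  have hR0t : ∀ n ∈ R0, Triv (bQ 3 E) (bW 3 E) n := fun n hn a ha => (hR0.le hn).2.2.2 a ha
  have hR0mem : ∀ r ∈ R, Triv (bQ 3 E) (bW 3 E) r → r ∈ R0 := fun r hr ht =>
    hR0.ge ⟨hr, (hRQW r hr).2, (hRQW r hr).1, ht⟩
  have hR0conj : ∀ x, x ∈ normalizer (R : Set G) → x ∈ secN (bQ 3 E) (bW 3 E) → ∀ n ∈ R0, x * n * x⁻¹ ∈ R0 :=
    fun x hx hxs n hn => hR0mem _ ((mem_normalizer_iff.1 hx n).1 (hR0R hn)) (triv_conj hxs (hR0t n hn))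
  -- `R0` is a `3`-group
  have hR0p : IsPGroup 3 ↥R0 := by
    refine isPGroup_of_coprime fun r hr ho => ?_
    have hrL := hRL (hR0R hr)
    have hW : r ∈ centralizer (bW 3 E : Set G) := by
      have hle : bW 3 E ≤ centralizer ({r} : Set G) := by
        rw [← CfsgLib.BaumannBlock.V_sup_Z h.facts h.ne_bot]
        refine sup_le (fun v hv => mem_centralizer_singleton_iff.2 ?_) fun z hz => mem_centralizer_singleton_iff.2 ?_
        · exact mem_centralizer_iff.1 (hLC r hrL).1 v hv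
        · exact (h.cent_bZ_of_triv (hR0t r hr) hz).symm
      exact mem_centralizer_iff.2 fun w hw => mem_centralizer_singleton_iff.1 (hle hw)
    have hQ : r ∈ centralizer (bQ 3 E : Set G) := mem_centralizer_iff.2 fun q hq =>
      (fix_of_chain (CfsgLib.BaumannBlock.isPGroup_bW 3 E) ho hW (hR0t r hr) hq).symm
    refine eq_one_of_cent_core h.hG ho fun q hq => ?_
    exact fix_of_chain (CfsgLib.JComp.isPGroup_pCoreOf 3 E) ho hQ (hstP r (hR0R hr)).2.2 (h.core_le_cP hq)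
  have hR0N : R0 ≤ normalizer (E : Set G) := by
    refine norm_of_invariant h.hE hR0p fun x hx => ?_
    refine mem_normalizer_iff.2 fun n => ⟨hR0conj x (hRN x hx) (Exc.norm_QW hx) n, fun hn => ?_⟩
    have := hR0conj x⁻¹ (inv_mem (hRN x hx)) (inv_mem (Exc.norm_QW hx)) _ hn
    simpa [mul_assoc] using this
  by_cases hall : R ≤ R0
  · exact fun l hl => mem_normalizer_of_comm h.hE.1 hR0p hR0N fun g hg =>
      hall (hR.ge (commutator_mem_commutator hg hl))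
  exfalso
  -- `R0` commutes with `R` modulo `Q`
  have hcomm0 : ∀ n ∈ R0, ∀ r ∈ R, ⁅n, r⁆ ∈ bQ 3 E := by
    intro n hn
    let S : Subgroup G :=
      { carrier := {r | r ∈ normalizer (bQ 3 E : Set G) ∧ ⁅n, r⁆ ∈ bQ 3 E}
        one_mem' := ⟨one_mem _, by simp⟩
        mul_mem' := fun {x y} hx hy => ⟨mul_mem hx.1 hy.1, by
          rw [show ⁅n, x * y⁆ = ⁅n, x⁆ * (x * ⁅n, y⁆ * x⁻¹) by simp only [commutatorElement_def]; group]
          exact mul_mem hx.2 ((mem_normalizer_iff.1 hx.1 _).1 hy.2)⟩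
        inv_mem' := fun {x} hx => ⟨inv_mem hx.1, by
          rw [show ⁅n, x⁻¹⁆ = x⁻¹ * ⁅n, x⁆⁻¹ * x by simp only [commutatorElement_def]; group]
          exact (mem_normalizer_iff''.1 hx.1 _).1 (inv_mem hx.2)⟩ }
    have hSE : ∀ m ∈ R0, ∀ g ∈ E, ⁅m, g⁆ ∈ bQ 3 E := fun m hm g hg => by
      refine h.inf_cC (comm_mem_right hg (hR0N hm)) ?_
      have hmC := (hLC m (hRL (hR0R hm))).1
      rw [commutatorElement_def, show m * g * m⁻¹ * g⁻¹ = m * (g * m⁻¹ * g⁻¹) by group]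
      exact mul_mem hmC ((mem_normalizer_iff.1 (cC_norm (le_normalizer hg)) _).1 (inv_mem hmC))
    have hle : R ≤ S := by
      rw [hR]
      refine commutator_le.2 fun g hg l hl => ?_
      rw [commutatorElement_def, show g * l * g⁻¹ * l⁻¹ = g * (l * g⁻¹ * l⁻¹) by group]
      have hlQ := (hLC l hl).2
      refine mul_mem (⟨bQ_norm (le_normalizer hg), hSE n hn g hg⟩ : g ∈ S)
        ⟨mul_mem (mul_mem hlQ (bQ_norm (le_normalizer (inv_mem hg)))) (inv_mem hlQ), ?_⟩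
      have hn' : l⁻¹ * n * l ∈ R0 := by
        have := hR0conj l⁻¹ (inv_mem (hLR hl)) (inv_mem ⟨hlQ, bW_norm_of_bQ hlQ⟩) n hn
        simpa using this
      rw [show ⁅n, l * g⁻¹ * l⁻¹⁆ = l * ⁅l⁻¹ * n * l, g⁻¹⁆ * l⁻¹ by simp only [commutatorElement_def]; group]
      exact (mem_normalizer_iff.1 hlQ _).1 (hSE _ hn' _ (inv_mem hg))
    exact fun r hr => (hle hr).2
  obtain ⟨M, iM, ⟨S⟩⟩ := exists_secRep h.secQZ
  haveI := S.finite
  have h3M : ∀ m : M, 3 • m = 0 := fun m => by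
    obtain ⟨u, hu, rfl⟩ := S.pr_surj m
    rw [succ_nsmul, two_nsmul, ← S.pr_mul u hu u hu, ← S.pr_mul _ (mul_mem hu hu) u hu,
      S.pr_eq_zero _ (mul_mem (mul_mem hu hu) hu), show u * u * u = u ^ 3 by rw [pow_succ, pow_two]]
    exact h.pow_three hu
  have hRfixW : ∀ (r : G) (hr : r ∈ R), ∀ w ∈ bW 3 E, S.act ⟨r, hRQZ r hr⟩ (S.pr w) = S.pr w := fun r hr w hw => by
    rw [← sub_eq_zero, ← S.pr_comm ⟨r, hRQZ r hr⟩ (bW_le_bQ E hw)]
    exact (S.pr_eq_zero _ (SecRep.comm_mem ⟨r, hRQZ r hr⟩ (bW_le_bQ E hw))).2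
      (h.cL_triv_W (hL.le (hRL hr)) w hw)
  -- `R0` is trivial on `Q / Z`
  have hR0Z : ∀ n ∈ R0, Triv (bQ 3 E) (bZ 3 E) n := by
    intro n hn
    have hnN := hR0N hn
    obtain ⟨n', hn'⟩ : ∃ n' : ↥(secN (bQ 3 E) (bZ 3 E)), n' = ⟨n, hRQZ n (hR0R hn)⟩ := ⟨_, rfl⟩
    obtain ⟨K, hK⟩ : ∃ K : Subgroup G, ∀ a, a ∈ K ↔ a ∈ bQ 3 E ∧ S.act n' (S.pr a) = S.pr a :=
      ⟨{ carrier := {a | a ∈ bQ 3 E ∧ S.act n' (S.pr a) = S.pr a}
         one_mem' := ⟨one_mem _, by rw [S.pr_one, map_zero]⟩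
         mul_mem' := fun {z w} hz hw => ⟨mul_mem hz.1 hw.1, by rw [S.pr_mul _ hz.1 _ hw.1, map_add, hz.2, hw.2]⟩
         inv_mem' := fun {z} hz => ⟨inv_mem hz.1, by rw [S.pr_inv hz.1, map_neg, hz.2]⟩ }, fun _ => Iff.rfl⟩
    have hnx : ∀ (x : ↥(secN (bQ 3 E) (bZ 3 E))), ⁅n, (x : G)⁆ ∈ bQ 3 E → S.act n' * S.act x = S.act x * S.act n' := by
      intro x hx
      have h1 : S.act ⁅n', x⁆ = 1 := (S.triv_iff ⁅n', x⁆).1 fun a ha => h.derived.le (commutator_mem_commutator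
        (show ((⁅n', x⁆ : ↥(secN (bQ 3 E) (bZ 3 E))) : G) ∈ bQ 3 E by rw [hn']; exact hx) ha)
      rw [← map_mul, show n' * x = ⁅n', x⁆ * (x * n') by rw [commutatorElement_def]; group, map_mul, h1, one_mul,
        map_mul]
    have hWK : bW 3 E ≤ K := fun w hw => (hK w).2 ⟨bW_le_bQ E hw, by rw [hn']; exact hRfixW n (hR0R hn) w hw⟩
    rcases h.secQ.irr K (fun a ha => ((hK a).1 ha).1) hWK (fun g hg => by
      refine CfsgLib.Fusion.conjBy_eq_iff.1 (CfsgLib.Fusion.conjBy_eq_of_le ?_)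
      rintro _ ⟨a, ha, rfl⟩
      obtain ⟨haQ, hfa⟩ := (hK a).1 ha
      have hgs := Exc.norm_QZ (E := E) (le_normalizer hg)
      refine (hK _).2 ⟨conj_mem_of_secN hgs haQ, ?_⟩
      show S.act n' (S.pr (g * a * g⁻¹)) = S.pr (g * a * g⁻¹)
      rw [S.pr_act ⟨g, hgs⟩ a haQ]
      have hc := hnx ⟨g, hgs⟩ (by
        refine h.inf_cC (comm_mem_right hg hnN) ?_
        have hmC := (hLC n (hRL (hR0R hn))).1
        rw [commutatorElement_def, show n * g * n⁻¹ * g⁻¹ = n * (g * n⁻¹ * g⁻¹) by group]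
        exact mul_mem hmC ((mem_normalizer_iff.1 (cC_norm (le_normalizer hg)) _).1 (inv_mem hmC)))
      have := congrArg (fun f : AddMonoid.End M => f (S.pr a)) hc
      exact this.trans (congrArg _ hfa)) with hKW | hKQ
    · exfalso
      refine hall fun r hr => hR0mem r hr fun a ha => hKW.le ((hK _).2 ?_)
      have hra : ⁅r, a⁆ ∈ bQ 3 E := SecRep.comm_mem ⟨r, hRQW r hr⟩ ha
      refine ⟨hra, ?_⟩
      have hw : ∃ w ∈ bW 3 E, S.act n' (S.pr a) = S.pr w + S.pr a := ⟨⁅n, a⁆, hR0t n hn a ha, by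
        have := S.pr_comm n' ha
        rw [show (n' : G) = n by rw [hn']] at this
        rw [this, sub_add_cancel]⟩
      obtain ⟨w, hw, hwa⟩ := hw
      have hc := congrArg (fun f : AddMonoid.End M => f (S.pr a)) (hnx ⟨r, hRQZ r hr⟩ (hcomm0 n hn r hr))
      rw [show S.pr ⁅r, a⁆ = S.act ⟨r, hRQZ r hr⟩ (S.pr a) - S.pr a from S.pr_comm ⟨r, hRQZ r hr⟩ ha, map_sub,
        show S.act n' (S.act ⟨r, hRQZ r hr⟩ (S.pr a)) = S.act ⟨r, hRQZ r hr⟩ (S.act n' (S.pr a)) from hc, hwa,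
        map_add, hRfixW r hr w hw]
      abel
    · intro a ha
      have h1 := ((hK a).1 (hKQ.ge ha)).2
      have h2 := (S.pr_eq_zero _ (SecRep.comm_mem n' ha)).1 (by rw [S.pr_comm n' ha, h1, sub_self])
      rwa [show (n' : G) = n by rw [hn']] at h2
  -- `R0` fixes the section; an element inverting the upper section is impossible
  have hR0act : ∀ (n : G) (hn : n ∈ R0), S.act ⟨n, hRQZ n (hR0R hn)⟩ = 1 := fun n hn =>
    (S.triv_iff ⟨n, hRQZ n (hR0R hn)⟩).1 (hR0Z n hn)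
  have hbR := hRN b (hb.norm h.toExc)
  have caseI : ∀ r ∈ R, (∀ a ∈ bQ 3 E, r * a * r⁻¹ * a ∈ bW 3 E) → False := by
    intro r hr hinv
    obtain ⟨r', hr'⟩ : ∃ r' : ↥(secN (bQ 3 E) (bZ 3 E)), r' = ⟨r, hRQZ r hr⟩ := ⟨_, rfl⟩
    obtain ⟨b', hb'⟩ : ∃ b' : ↥(secN (bQ 3 E) (bZ 3 E)), b' = ⟨b, Exc.norm_QZ (hb.norm h.toExc)⟩ := ⟨_, rfl⟩
    have hrW : ∀ x ∈ bQ 3 E, r * x * r⁻¹ ∈ bQ 3 E := fun x hx => conj_mem_of_secN (hRQW r hr) hx
    have hcm : ⁅b, r⁆ ∈ R0 := by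
      refine hR0mem _ ?_ fun a ha => ?_
      · rw [commutatorElement_def]
        exact mul_mem ((mem_normalizer_iff.1 hbR r).1 hr) (inv_mem hr)
      · obtain ⟨bq, hbq⟩ : ∃ bq : ↥(secN (bQ 3 E) (bW 3 E)), bq = ⟨b, Exc.norm_QW (hb.norm h.toExc)⟩ := ⟨_, rfl⟩
        obtain ⟨rq, hrq⟩ : ∃ rq : ↥(secN (bQ 3 E) (bW 3 E)), rq = ⟨r, hRQW r hr⟩ := ⟨_, rfl⟩
        obtain ⟨M', iM', ⟨S'⟩⟩ := exists_secRep h.secQ.toIsAbSec
        have hneg : S'.act rq = -1 := AddMonoidHom.ext fun m => by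
          obtain ⟨u, hu, rfl⟩ := S'.pr_surj m
          show S'.act rq (S'.pr u) = -S'.pr u
          rw [← S'.pr_act rq u hu, eq_neg_iff_add_eq_zero, show (rq : G) = r by rw [hrq],
            ← S'.pr_mul _ (hrW u hu) _ hu]
          exact (S'.pr_eq_zero _ (mul_mem (hrW u hu) hu)).2 (hinv u hu)
        have h1 : S'.act ⁅bq, rq⁆ = 1 := by
          have hi : S'.act bq * S'.act bq⁻¹ = 1 := by rw [← map_mul, mul_inv_cancel, map_one]
          have hri : S'.act rq * S'.act rq⁻¹ = 1 := by rw [← map_mul, mul_inv_cancel, map_one]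
          rw [commutatorElement_def, map_mul, map_mul, map_mul, hneg, mul_neg, mul_one, neg_mul, hi, neg_mul,
            one_mul]
          rwa [hneg, neg_mul, one_mul] at hri
        have h2 := (S'.triv_iff ⁅bq, rq⁆).2 h1 a ha
        rw [hbq, hrq] at h2
        exact h2
    have hbr : S.act b' * S.act r' = S.act r' * S.act b' := by
      have h1 := hR0act _ hcm
      have h2 : (⟨⁅b, r⁆, hRQZ _ (hR0R hcm)⟩ : ↥(secN (bQ 3 E) (bZ 3 E))) = ⁅b', r'⁆ :=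
        Subtype.ext (by rw [hb', hr']; rfl)
      rw [h2] at h1
      rw [← map_mul, show b' * r' = ⁅b', r'⁆ * (r' * b') by rw [commutatorElement_def]; group, map_mul, h1, one_mul,
        map_mul]
    refine no_split h.toExc hb S (2 • (1 + S.act r')) ?_ (fun a ha => ?_) fun m => ?_
    · rw [← hb', two_nsmul, add_mul, mul_add, add_mul, mul_add, one_mul, mul_one, hbr]
    · show 2 • (S.pr a + S.act r' (S.pr a)) = S.pr a
      rw [hr', hRfixW r hr a ha]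
      have := h3M (S.pr a)
      rw [succ_nsmul, two_nsmul] at this
      linear_combination (norm := abel) this
    · obtain ⟨a, ha, rfl⟩ := S.pr_surj m
      have h1 := hrW a ha
      have h2 : a * (r * a * r⁻¹) ∈ bW 3 E := by
        have := (mem_normalizer_iff.1 (bW_norm (le_normalizer (bQ_le E ha))) _).1 (hinv a ha)
        rwa [show a * (r * a * r⁻¹ * a) * a⁻¹ = a * (r * a * r⁻¹) by group] at this
      refine ⟨a * (r * a * r⁻¹) * (a * (r * a * r⁻¹)), mul_mem h2 h2, ?_⟩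
      rw [S.pr_mul _ (mul_mem ha h1) _ (mul_mem ha h1), S.pr_mul _ ha _ h1,
        show r * a * r⁻¹ = (r' : G) * a * (r' : G)⁻¹ by rw [hr'], S.pr_act r' a ha]
      show 2 • (S.pr a + S.act r' (S.pr a)) = _
      rw [two_nsmul]
  -- a Sylow subgroup of `R` and lifts of elements of `E` normalising it
  obtain ⟨P3, hP3⟩ : ∃ P3, CfsgLib.Coprime.IsSylowIn 3 P3 R :=
    ⟨_, CfsgLib.Coprime.isSylowIn_map (default : Sylow 3 ↥R)⟩
  have hlift : ∀ σ ∈ E, ∀ s : ℕ, s.Prime → ∃ τ c r, τ ∈ normalizer (P3 : Set G) ∧ τ ∈ secN (bQ 3 E) (bW 3 E) ∧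
      ¬ s ∣ c ∧ r ∈ R ∧ τ = r * σ ^ c ∧ ∃ k, τ ^ s ^ k = 1 := by
    intro σ hσ s hs
    have hσR : σ ∈ normalizer (R : Set G) := hRN σ (le_normalizer hσ)
    obtain ⟨r, hr, hrc⟩ := (hP3.conjBy hσR).exists_conj hP3
    rw [CfsgLib.Coprime.conjBy_conjBy, CfsgLib.Coprime.conjBy_eq_self_iff] at hrc
    obtain ⟨k, c, hc, hkc⟩ := Nat.exists_eq_pow_mul_and_not_dvd (orderOf_pos (r * σ)).ne' s hs.ne_one
    have hpow : ∀ m : ℕ, ∃ r' ∈ R, (r * σ) ^ m = r' * σ ^ m := by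
      intro m
      induction m with
      | zero => exact ⟨1, one_mem _, by simp⟩
      | succ m ih =>
        obtain ⟨r', hr', he⟩ := ih
        refine ⟨r' * (σ ^ m * r * (σ ^ m)⁻¹), mul_mem hr' ((mem_normalizer_iff.1 (pow_mem hσR m) r).1 hr), ?_⟩
        rw [pow_succ, he, pow_succ]; group
    obtain ⟨r', hr', he⟩ := hpow c
    refine ⟨(r * σ) ^ c, c, r', pow_mem hrc c, pow_mem (mul_mem (hRQW r hr) (Exc.norm_QW (le_normalizer hσ))) c, hc,
      hr', he, k, ?_⟩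
    rw [← pow_mul, mul_comm, ← hkc, pow_orderOf_eq_one]
  obtain ⟨F, i₁, i₂, n, hn, hF, -, hW, hQ⟩ := h.nat_data
  obtain ⟨ρ, RW, hρ, hc⟩ := exists_natRep hW h.secW.toIsAbSec
  haveI : CharP F 3 := by
    obtain ⟨q, hq⟩ := CharP.exists F
    obtain ⟨k, hqp, hk⟩ := FiniteField.card F q
    rw [hF] at hk
    rwa [(Nat.prime_dvd_prime_iff_eq Nat.prime_three hqp).1
      (Nat.prime_three.dvd_of_dvd_pow (hk ▸ dvd_pow_self 3 hn : 3 ∣ q ^ (k : ℕ)))]
  have hρe : ρ ⟨e, h.mem⟩ = -1 := by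
    refine Subtype.ext (Matrix.mulVec_injective (funext fun v => ?_))
    obtain ⟨w, hw, rfl⟩ := RW.pr_surj v
    have hw' : e * w * e⁻¹ ∈ bW 3 E := conj_mem_of_secN (h.secW.nE h.mem) hw
    show ((ρ ⟨e, h.mem⟩ : SL(2, F)) : Matrix (Fin 2) (Fin 2) F).mulVec (RW.pr w) = _
    rw [← hc ⟨e, h.secW.nE h.mem⟩ h.mem, ← RW.pr_act ⟨e, h.secW.nE h.mem⟩ w hw, Matrix.SpecialLinearGroup.coe_neg,
      Matrix.SpecialLinearGroup.coe_one, Matrix.neg_mulVec, Matrix.one_mulVec, eq_neg_iff_add_eq_zero]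
    show RW.pr (e * w * e⁻¹) + RW.pr w = 0
    rw [← RW.pr_mul _ hw' _ hw]
    exact (RW.pr_eq_zero _ (mul_mem hw' hw)).2 (h.invW w hw)
  have hρQ : ∀ g (hg : g ∈ E), ρ ⟨g, hg⟩ = 1 → g ∈ bQ 3 E := fun g hg h1 =>
    h.kerW hg ((natRep_triv_iff hc (h.secW.nE hg)).1 h1)
  have hTmul : ∀ {x y : G}, x ∈ secN (bQ 3 E) (bW 3 E) → y ∈ secN (bQ 3 E) (bW 3 E) → Triv (bQ 3 E) (bW 3 E) x →
      Triv (bQ 3 E) (bW 3 E) y → Triv (bQ 3 E) (bW 3 E) (x * y) := fun hx hy tx ty =>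
    triv_mul h.secQ.toIsAbSec hx hy tx ty
  have hQtriv : ∀ q ∈ bQ 3 E, Triv (bQ 3 E) (bW 3 E) q := fun q hq a ha =>
    h.secQ.comm (commutator_mem_commutator hq ha)
  have hQsec : ∀ q ∈ bQ 3 E, q ∈ secN (bQ 3 E) (bW 3 E) := fun q hq => h.secQ.nE (bQ_le E hq)
  -- an element of `R` acting as `e` on the upper section is excluded
  have hnoe : ∀ r ∈ R, Triv (bQ 3 E) (bW 3 E) (r⁻¹ * e) → False := by
    intro r hr ht
    refine caseI r hr fun a ha => ?_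
    have hea : e * a * e⁻¹ ∈ bQ 3 E := conj_mem_of_secN (h.secQ.nE h.mem) ha
    have h1 : ⁅r⁻¹ * e, a⁆ ∈ bW 3 E := ht a ha
    have h2 : r * ⁅r⁻¹ * e, a⁆ * r⁻¹ ∈ bW 3 E := (mem_normalizer_iff.1 (hRQW r hr).2 _).1 h1
    have h3 := h.invQ ha
    rw [show r * a * r⁻¹ * a = (r * ⁅r⁻¹ * e, a⁆ * r⁻¹)⁻¹ * (e * a * e⁻¹ * a) by
      simp only [commutatorElement_def]; group]
    exact mul_mem (inv_mem h2) h3
  obtain ⟨M', iM', ⟨S'⟩⟩ := exists_secRep h.secQ.toIsAbSec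
  haveI := S'.finite
  have hM' : Nat.card M' = 3 ^ (2 * n) := by
    have h1 := S'.card (bW_le_bQ E)
    rw [sl_card hQ, hF, ← pow_mul, mul_comm n] at h1
    exact (Nat.eq_of_mul_eq_mul_right Nat.card_pos h1).symm
  -- the fixed points of the Sylow subgroup
  obtain ⟨Fx, hFx⟩ : ∃ Fx : AddSubgroup M', ∀ m, m ∈ Fx ↔ ∀ x (hx : x ∈ P3), S'.act ⟨x, hRQW x (hP3.1 hx)⟩ m = m :=
    ⟨{ carrier := {m | ∀ x (hx : x ∈ P3), S'.act ⟨x, hRQW x (hP3.1 hx)⟩ m = m}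
       zero_mem' := fun x hx => map_zero _
       add_mem' := fun {a b} ha hb x hx => by rw [map_add, ha x hx, hb x hx]
       neg_mem' := fun {a} ha x hx => by rw [map_neg, ha x hx] }, fun _ => Iff.rfl⟩
  have hFxne : Fx ≠ ⊥ := by
    letI : MulAction ↥P3 M' :=
      { smul := fun x m => S'.act ⟨(x : G), hRQW _ (hP3.1 x.2)⟩ m
        one_smul := fun m => DFunLike.congr_fun (map_one S'.act) m
        mul_smul := fun x y m => DFunLike.congr_fun
          (map_mul S'.act ⟨(x : G), hRQW _ (hP3.1 x.2)⟩ ⟨(y : G), hRQW _ (hP3.1 y.2)⟩) m }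
    obtain ⟨m, hm, hne⟩ := hP3.isPGroup.exists_fixed_point_of_prime_dvd_card_of_fixed_point M'
      (hM' ▸ dvd_pow_self 3 (by omega)) (a := 0) fun x => map_zero (S'.act ⟨(x : G), hRQW _ (hP3.1 x.2)⟩)
    intro hbot
    exact hne.symm (AddSubgroup.mem_bot.1 (hbot ▸ ((hFx m).2 fun x hx => hm ⟨x, hx⟩) : m ∈ (⊥ : AddSubgroup M')))
  have hFxinv : ∀ τ (hτ : τ ∈ secN (bQ 3 E) (bW 3 E)), τ ∈ normalizer (P3 : Set G) →
      ∀ m ∈ Fx, S'.act ⟨τ, hτ⟩ m ∈ Fx := by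
    intro τ hτ hτP m hm
    refine (hFx _).2 fun x hx => ?_
    have hx' : τ⁻¹ * x * τ ∈ P3 := (mem_normalizer_iff''.1 hτP x).1 hx
    show (S'.act ⟨x, hRQW x (hP3.1 hx)⟩ * S'.act ⟨τ, hτ⟩) m = _
    rw [← map_mul, show (⟨x, hRQW x (hP3.1 hx)⟩ * ⟨τ, hτ⟩ : ↥(secN (bQ 3 E) (bW 3 E))) =
      ⟨τ, hτ⟩ * ⟨τ⁻¹ * x * τ, hRQW _ (hP3.1 hx')⟩ from Subtype.ext (show x * τ = τ * (τ⁻¹ * x * τ) by group), map_mul]
    exact congrArg _ ((hFx m).1 hm _ hx')
  -- the Sylow subgroup acts trivially on the upper section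
  have hFxtop : Fx = ⊤ := by
    have h3q : 3 ≤ Fintype.card F := hF ▸ Nat.le_self_pow hn 3
    rcases h3q.lt_or_eq with h4 | h4
    · obtain ⟨s, hs, hsd, hsprim⟩ := CfsgLib.Char.Zsigmondy.exists_prim 3 (2 * n) (by norm_num) (by omega)
        (fun hc => by omega) fun hc => by
          have hn1 : n = 1 := by omega
          rw [hn1, pow_one] at hF
          omega
      haveI : Fact s.Prime := ⟨hs⟩
      have hsd' : s ∣ Nat.card SL(2, F) := by
        rw [CfsgLib.Classical.card_sl2, hF]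
        refine dvd_mul_of_dvd_right ?_ _
        rwa [show (3 ^ n - 1) * (3 ^ n + 1) = 3 ^ (2 * n) - 1 by
          rw [mul_comm (3 ^ n - 1), ← Nat.sq_sub_sq, one_pow, ← pow_mul, mul_comm n]]
      obtain ⟨gs, hgs⟩ := exists_prime_orderOf_dvd_card' s hsd'
      have hsur : ∀ g : SL(2, F), ∃ x : ↥E, ρ x = g := fun g =>
        (hρ.trans (CfsgLib.Lie.SLUniv.sl2_commutator h4)).ge (mem_top g)
      obtain ⟨σ, hσ⟩ := hsur gs
      obtain ⟨τ, c, r, hτP, hτN, hsc, hr, hτe, k, hk⟩ := hlift σ σ.2 s hs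
      obtain ⟨T', hT'⟩ : ∃ T', T' = S'.act ⟨τ, hτN⟩ := ⟨_, rfl⟩
      by_cases hT1 : T' = 1
      · exfalso
        have htr : Triv (bQ 3 E) (bW 3 E) τ := (S'.triv_iff ⟨τ, hτN⟩).2 (hT' ▸ hT1)
        -- the elements of `E` acting as elements of `R`
        have hsE : ∀ x : ↥E, (x : G) ∈ secN (bQ 3 E) (bW 3 E) := fun x => h.secQ.nE x.2
        let NE : Subgroup ↥E :=
          { carrier := {g | ∃ r ∈ R, Triv (bQ 3 E) (bW 3 E) (r⁻¹ * (g : G))}
            one_mem' := ⟨1, one_mem _, fun a _ => by simp⟩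
            mul_mem' := fun {x y} ⟨r₁, hr₁, t₁⟩ ⟨r₂, hr₂, t₂⟩ => ⟨r₁ * r₂, mul_mem hr₁ hr₂, by
              rw [Subgroup.coe_mul, show (r₁ * r₂)⁻¹ * ((x : G) * y) =
                (r₂⁻¹ * (r₁⁻¹ * x) * r₂⁻¹⁻¹) * (r₂⁻¹ * y) by group]
              exact hTmul (mul_mem (mul_mem (inv_mem (hRQW _ hr₂)) (mul_mem (inv_mem (hRQW _ hr₁)) (hsE x)))
                (inv_mem (inv_mem (hRQW _ hr₂)))) (mul_mem (inv_mem (hRQW _ hr₂)) (hsE y))
                (triv_conj (inv_mem (hRQW _ hr₂)) t₁) t₂⟩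
            inv_mem' := fun {x} ⟨r₁, hr₁, t₁⟩ => ⟨(x : G)⁻¹ * r₁⁻¹ * x,
              (mem_normalizer_iff''.1 (hRN _ (le_normalizer x.2)) _).1 (inv_mem hr₁), by
              rw [Subgroup.coe_inv, show ((x : G)⁻¹ * r₁⁻¹ * x)⁻¹ * (x : G)⁻¹ = (r₁⁻¹ * x)⁻¹ by group]
              intro a ha
              have hy : r₁⁻¹ * (x : G) ∈ secN (bQ 3 E) (bW 3 E) := mul_mem (inv_mem (hRQW _ hr₁)) (hsE x)
              have h1 := (S'.triv_iff ⟨_, hy⟩).1 t₁
              have h2 : S'.act (⟨_, hy⟩⁻¹) = 1 := by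
                calc S'.act (⟨_, hy⟩⁻¹) = S'.act (⟨_, hy⟩⁻¹) * S'.act ⟨_, hy⟩ := by rw [h1, mul_one]
                  _ = 1 := by rw [← map_mul, inv_mul_cancel, map_one]
              exact (S'.triv_iff _).2 h2 a ha⟩ }
        haveI : NE.Normal := ⟨fun x ⟨r₁, hr₁, t₁⟩ g => ⟨(g : G) * r₁ * (g : G)⁻¹,
          (mem_normalizer_iff.1 (hRN _ (le_normalizer g.2)) _).1 hr₁, by
          rw [Subgroup.coe_mul, Subgroup.coe_mul, Subgroup.coe_inv, show ((g : G) * r₁ * (g : G)⁻¹)⁻¹ *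
            ((g : G) * x * (g : G)⁻¹) = (g : G) * (r₁⁻¹ * x) * (g : G)⁻¹ by group]
          exact triv_conj (hsE g) t₁⟩⟩
        haveI : (NE.map ρ).Normal := Subgroup.Normal.map inferInstance ρ fun g => hsur g
        have hmem : gs ^ c ∈ NE.map ρ := ⟨σ ^ c, ⟨r⁻¹, inv_mem hr, by
          rw [Subgroup.coe_pow, inv_inv, ← hτe]; exact htr⟩, by rw [map_pow, hσ]⟩
        have hnc : gs ^ c ∉ Subgroup.center SL(2, F) := by
          intro hcen
          obtain ⟨t, ht, ht'⟩ := Matrix.SpecialLinearGroup.mem_center_iff.1 hcen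
          rw [Fintype.card_fin] at ht
          have h2 : (gs ^ c) ^ 2 = 1 := Subtype.ext (by
            rw [Matrix.SpecialLinearGroup.coe_pow, ← ht', ← map_pow, ht, map_one]; rfl)
          have h3 : s ∣ c * 2 := hgs ▸ orderOf_dvd_of_pow_eq_one (by rw [pow_mul]; exact h2)
          rcases hs.dvd_mul.1 h3 with h | h
          · exact hsc h
          · have := (Nat.prime_dvd_prime_iff_eq hs Nat.prime_two).1 h
            exact hsprim 1 le_rfl (by omega) (by rw [this]; norm_num)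
        obtain ⟨x, ⟨r₁, hr₁, t₁⟩, hx⟩ := (quasisimple_normal (quasisimple_sl2 h4) _ hmem hnc).ge (mem_top (-1 : SL(2, F)))
        have hq : (x : G)⁻¹ * e ∈ bQ 3 E := hρQ _ (mul_mem (inv_mem x.2) h.mem) (by
          show ρ (x⁻¹ * ⟨e, h.mem⟩) = 1
          rw [map_mul, map_inv, hx, hρe, inv_mul_cancel])
        refine hnoe r₁ hr₁ ?_
        rw [show r₁⁻¹ * e = (r₁⁻¹ * (x : G)) * ((x : G)⁻¹ * e) by group]
        exact hTmul (mul_mem (inv_mem (hRQW _ hr₁)) (hsE x)) (hQsec _ hq) t₁ (hQtriv _ hq)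
      · have hTk : T' ^ s ^ k = 1 := by
          rw [hT', ← map_pow, show (⟨τ, hτN⟩ : ↥(secN (bQ 3 E) (bW 3 E))) ^ s ^ k = 1 from Subtype.ext hk, map_one]
        exact invariant_eq_top hM' T' hTk hT1 hsd hsprim Fx
          (fun m hm => hT' ▸ hFxinv τ hτN hτP m hm) hFxne
    · by_contra htop
      have hn1 : n = 1 := (Nat.pow_eq_self_iff (by norm_num : 1 < 3)).1 (hF.symm.trans h4.symm)
      obtain ⟨g, hg, hg2⟩ := exists_sq_ne_one (F := F) h4.symm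
      obtain ⟨σ, rfl⟩ := hρ.ge hg
      obtain ⟨τ, c, r, hτP, hτN, hsc, hr, hτe, k, hk⟩ := hlift σ σ.2 2 Nat.prime_two
      have hodd : ρ ((σ ^ c) ^ 2) = -1 := by
        rw [← pow_mul, mul_comm, pow_mul, map_pow, map_pow, (eight_class h4.symm hg).1.resolve_left hg2,
          Odd.neg_one_pow (Nat.not_even_iff_odd.1 fun h => hsc h.two_dvd)]
      obtain ⟨T', hT'⟩ : ∃ T', T' = S'.act ⟨τ, hτN⟩ := ⟨_, rfl⟩
      have hTk : T' ^ 2 ^ k = 1 := by
        rw [hT', ← map_pow, show (⟨τ, hτN⟩ : ↥(secN (bQ 3 E) (bW 3 E))) ^ 2 ^ k = 1 from Subtype.ext hk, map_one]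
      have hTT := sq_eq_one_of_line (by rw [hM', hn1]; norm_num) (fun m => by
        obtain ⟨u, hu, rfl⟩ := S'.pr_surj m
        rw [succ_nsmul, two_nsmul, ← S'.pr_mul u hu u hu, ← S'.pr_mul _ (mul_mem hu hu) u hu,
          S'.pr_eq_zero _ (mul_mem (mul_mem hu hu) hu), show u * u * u = u ^ 3 by rw [pow_succ, pow_two]]
        exact (h.pow_three hu).1) T' hTk Fx (fun m hm => hT' ▸ hFxinv τ hτN hτP m hm) hFxne htop
      have htr : Triv (bQ 3 E) (bW 3 E) (τ * τ) :=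
        (S'.triv_iff (⟨τ, hτN⟩ * ⟨τ, hτN⟩)).2 (by rw [map_mul, ← hT', hTT])
      obtain ⟨y, hy⟩ : ∃ y, y = (σ : G) ^ c := ⟨_, rfl⟩
      have hyE : y ∈ E := hy ▸ pow_mem σ.2 c
      have hq : (y * y)⁻¹ * e ∈ bQ 3 E := hρQ _ (mul_mem (inv_mem (mul_mem hyE hyE)) h.mem) (by
        rw [show (⟨(y * y)⁻¹ * e, mul_mem (inv_mem (mul_mem hyE hyE)) h.mem⟩ : ↥E) =
          ((σ ^ c) ^ 2)⁻¹ * ⟨e, h.mem⟩ from Subtype.ext (by simp [hy, pow_two]), map_mul, map_inv, hodd, hρe,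
          inv_mul_cancel])
      have hr₁ : r * (y * r * y⁻¹) ∈ R :=
        mul_mem hr ((mem_normalizer_iff.1 (hRN _ (le_normalizer hyE)) r).1 hr)
      refine hnoe _ (inv_mem hr₁) ?_
      rw [show (r * (y * r * y⁻¹))⁻¹⁻¹ * e = (r * y) * (r * y) * ((y * y)⁻¹ * e) by group]
      rw [← hy] at hτe
      rw [← hτe]
      exact hTmul (mul_mem hτN hτN) (hQsec _ hq) htr (hQtriv _ hq)
  have hP3R0 : ∀ x ∈ P3, x ∈ R0 := fun x hx => hR0mem x (hP3.1 hx)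
    ((S'.triv_iff ⟨x, hRQW x (hP3.1 hx)⟩).2 (AddMonoidHom.ext fun m =>
      (hFx m).1 (hFxtop.symm ▸ AddSubgroup.mem_top m) x hx))
  -- `R` acts on `Q / Z` as a group of order prime to three
  obtain ⟨φ, hφ⟩ : ∃ φ : ↥R →* (AddMonoid.End M)ˣ, ∀ r : ↥R, (φ r : AddMonoid.End M) = S.act ⟨r, hRQZ r r.2⟩ :=
    ⟨(S.act.comp (MonoidHom.mk' (fun r : ↥R => (⟨(r : G), hRQZ r r.2⟩ : ↥(secN (bQ 3 E) (bZ 3 E))))
      fun _ _ => rfl)).toHomUnits, fun r => rfl⟩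
  haveI : Finite (AddMonoid.End M) :=
    Finite.of_injective (fun f : AddMonoid.End M => (f : M → M)) DFunLike.coe_injective
  haveI : Finite (AddMonoid.End M)ˣ := Finite.of_injective _ Units.val_injective
  have hnd : ¬ 3 ∣ Nat.card φ.range := by
    intro hdvd
    obtain ⟨⟨y, r, rfl⟩, hy⟩ := exists_prime_orderOf_dvd_card' 3 hdvd
    rw [← Subgroup.orderOf_coe] at hy
    obtain ⟨a, c, hc', hac⟩ := Nat.exists_eq_pow_mul_and_not_dvd (orderOf_pos r).ne' 3 (by norm_num)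
    have hrp : (r ^ c) ^ 3 ^ a = 1 := by rw [← pow_mul, mul_comm, ← hac, pow_orderOf_eq_one]
    obtain ⟨P', hP'⟩ := (show IsPGroup 3 ↥(zpowers (r ^ c)) from fun x => by
      obtain ⟨j, hj⟩ := mem_zpowers_iff.1 x.2
      refine ⟨a, Subtype.ext ?_⟩
      rw [SubgroupClass.coe_pow, ← hj, ← zpow_natCast ((r ^ c) ^ j), ← _root_.zpow_mul, mul_comm, _root_.zpow_mul, zpow_natCast,
        hrp, _root_.one_zpow]
      rfl).exists_le_sylow
    obtain ⟨k, hk, hconj⟩ := hP3.exists_conj (CfsgLib.Coprime.isSylowIn_map P')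
    obtain ⟨x, hx, hxr⟩ := hconj.ge (mem_map_of_mem R.subtype (hP' (mem_zpowers (r ^ c))))
    have hmem : ((r ^ c : ↥R) : G) ∈ R0 := by
      rw [show ((r ^ c : ↥R) : G) = k * x * k⁻¹ from hxr.symm]
      exact hR0conj k (le_normalizer hk) (hRQW k hk) x (hP3R0 x hx)
    have h1 : φ r ^ c = 1 := by
      rw [← map_pow]
      exact Units.ext ((hφ _).trans (hR0act _ hmem))
    exact hc' (hy ▸ orderOf_dvd_of_pow_eq_one h1)
  haveI := Fintype.ofFinite ↥φ.range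
  obtain ⟨N, hN⟩ : ∃ N, N = Nat.card φ.range := ⟨_, rfl⟩
  have hNN : (N * N) % 3 = 1 := by
    have : N % 3 ≠ 0 := fun h0 => hnd (hN ▸ Nat.dvd_of_mod_eq_zero h0)
    rcases (show N % 3 = 1 ∨ N % 3 = 2 by omega) with h1 | h1 <;> simp [Nat.mul_mod, h1]
  obtain ⟨π, hπ⟩ : ∃ π : AddMonoid.End M, π = N • ∑ f : ↥φ.range, ((f : (AddMonoid.End M)ˣ) : AddMonoid.End M) :=
    ⟨_, rfl⟩
  have hπm : ∀ m, π m = N • ∑ f : ↥φ.range, ((f : (AddMonoid.End M)ˣ) : AddMonoid.End M) m := fun m => by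
    rw [hπ]
    show N • (∑ f : ↥φ.range, ((f : (AddMonoid.End M)ˣ) : AddMonoid.End M) : M →+ M) m = _
    congr 1
    exact AddMonoidHom.finsetSum_apply _ _ _
  have hπW : ∀ a ∈ bW 3 E, π (S.pr a) = S.pr a := by
    intro a ha
    rw [hπm]
    have h1 : ∀ f : ↥φ.range, ((f : (AddMonoid.End M)ˣ) : AddMonoid.End M) (S.pr a) = S.pr a := by
      rintro ⟨_, r, rfl⟩
      rw [hφ r]
      exact hRfixW r r.2 a ha
    rw [Fintype.sum_congr _ _ h1, Finset.sum_const, Finset.card_univ, ← Nat.card_eq_fintype_card, ← hN, ← mul_nsmul,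
      ← Nat.mod_add_div (N * N) 3, hNN, add_nsmul, one_nsmul, mul_nsmul, h3M, nsmul_zero, add_zero]
  -- the fixed points
  obtain ⟨K, hK⟩ : ∃ K : Subgroup G, ∀ a, a ∈ K ↔
      a ∈ bQ 3 E ∧ ∀ r (hr : r ∈ R), S.act ⟨r, hRQZ r hr⟩ (S.pr a) = S.pr a :=
    ⟨{ carrier := {a | a ∈ bQ 3 E ∧ ∀ r (hr : r ∈ R), S.act ⟨r, hRQZ r hr⟩ (S.pr a) = S.pr a}
       one_mem' := ⟨one_mem _, fun r hr => by rw [S.pr_one, map_zero]⟩
       mul_mem' := fun {z w} hz hw => ⟨mul_mem hz.1 hw.1, fun r hr => by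
         rw [S.pr_mul _ hz.1 _ hw.1, map_add, hz.2 r hr, hw.2 r hr]⟩
       inv_mem' := fun {z} hz => ⟨inv_mem hz.1, fun r hr => by rw [S.pr_inv hz.1, map_neg, hz.2 r hr]⟩ },
      fun _ => Iff.rfl⟩
  rcases h.secQ.irr K (fun a ha => ((hK a).1 ha).1)
    (fun w hw => (hK w).2 ⟨bW_le_bQ E hw, fun r hr => hRfixW r hr w hw⟩) (fun g hg => by
    refine CfsgLib.Fusion.conjBy_eq_iff.1 (CfsgLib.Fusion.conjBy_eq_of_le ?_)
    rintro _ ⟨a, ha, rfl⟩
    obtain ⟨haQ, hfa⟩ := (hK a).1 ha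
    have hgs := Exc.norm_QZ (E := E) (le_normalizer hg)
    refine (hK _).2 ⟨conj_mem_of_secN hgs haQ, fun r hr => ?_⟩
    show S.act ⟨r, hRQZ r hr⟩ (S.pr (g * a * g⁻¹)) = S.pr (g * a * g⁻¹)
    have hr' : g⁻¹ * r * g ∈ R := (mem_normalizer_iff''.1 (hRN _ (le_normalizer hg)) r).1 hr
    rw [S.pr_act ⟨g, hgs⟩ a haQ]
    show (S.act ⟨r, hRQZ r hr⟩ * S.act ⟨g, hgs⟩) (S.pr a) = _
    rw [← map_mul, show (⟨r, hRQZ r hr⟩ * ⟨g, hgs⟩ : ↥(secN (bQ 3 E) (bZ 3 E))) =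
      ⟨g, hgs⟩ * ⟨g⁻¹ * r * g, hRQZ _ hr'⟩ from Subtype.ext (show r * g = g * (g⁻¹ * r * g) by group), map_mul]
    exact congrArg _ (hfa _ hr')) with hKW | hKQ
  · refine no_split h.toExc hb S π ?_ hπW fun m => ?_
    · obtain ⟨b', hb'⟩ : ∃ b' : ↥(secN (bQ 3 E) (bZ 3 E)), b' = ⟨b, Exc.norm_QZ (hb.norm h.toExc)⟩ := ⟨_, rfl⟩
      rw [← hb']
      obtain ⟨u, hu⟩ : ∃ u : (AddMonoid.End M)ˣ, (u : AddMonoid.End M) = S.act b' :=
        ⟨S.act.toHomUnits b', rfl⟩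
      have hcj : ∀ f : ↥φ.range, u⁻¹ * (f : (AddMonoid.End M)ˣ) * u ∈ φ.range := by
        rintro ⟨_, r, rfl⟩
        have hr' : b⁻¹ * (r : G) * b ∈ R := (mem_normalizer_iff''.1 hbR r).1 r.2
        refine ⟨⟨_, hr'⟩, ?_⟩
        show φ ⟨b⁻¹ * (r : G) * b, hr'⟩ = u⁻¹ * φ r * u
        rw [mul_assoc u⁻¹, eq_inv_mul_iff_mul_eq]
        refine Units.ext ?_
        rw [Units.val_mul, Units.val_mul, hu, hφ, hφ, ← map_mul, ← map_mul]
        exact congrArg S.act (Subtype.ext (by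
          rw [hb']
          show b * (b⁻¹ * (r : G) * b) = r * b
          group))
      have hbij : Function.Bijective (fun f : ↥φ.range => (⟨_, hcj f⟩ : ↥φ.range)) :=
        Finite.injective_iff_bijective.1 fun f f' hff => Subtype.ext
          (mul_left_cancel (mul_right_cancel (congrArg Subtype.val hff)))
      rw [hπ, smul_mul_assoc, mul_smul_comm, Finset.sum_mul, Finset.mul_sum]
      congr 1
      refine Fintype.sum_bijective _ hbij _ _ fun f => ?_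
      show _ = S.act b' * ((u⁻¹ * (f : (AddMonoid.End M)ˣ) * u : (AddMonoid.End M)ˣ) : AddMonoid.End M)
      rw [← hu, ← Units.val_mul, ← Units.val_mul, mul_assoc u⁻¹, mul_inv_cancel_left]
    · obtain ⟨a, ha, hma⟩ := S.pr_surj (π m)
      refine ⟨a, hKW.le ((hK a).2 ⟨ha, fun r hr => ?_⟩), hma.symm⟩
      rw [hma, hπm, map_nsmul, map_sum]
      congr 1
      refine Fintype.sum_bijective _ (Group.mulLeft_bijective (⟨φ ⟨r, hr⟩, ⟨r, hr⟩, rfl⟩ : ↥φ.range)) _ _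
        fun f => ?_
      show S.act ⟨r, hRQZ r hr⟩ _ = ((φ ⟨r, hr⟩ * (f : (AddMonoid.End M)ˣ) : (AddMonoid.End M)ˣ) : AddMonoid.End M) m
      rw [Units.val_mul, hφ]
      rfl
  · refine hall fun r hr => hR0mem r hr fun a ha => ?_
    have h1 := ((hK a).1 (hKQ.ge ha)).2 r hr
    exact (inf_le_left : bZ 3 E ≤ bW 3 E) ((S.pr_eq_zero _ (SecRep.comm_mem ⟨r, hRQZ r hr⟩ ha)).1 (by
      rw [S.pr_comm ⟨r, hRQZ r hr⟩ ha, h1, sub_self]))

end Inv

end CfsgLib.BlockCent
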