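import Cfsg.Agent.Lib.Char.BlockCent.Core
import Cfsg.Agent.Lib.Char.BlockCent.Isolated
import Cfsg.Agent.Lib.FT.NoMinSimple
import Cfsg.Agent.Lib.PGroup.FpfSections
import Cfsg.Agent.Lib.PGroup.SmallElementsIndex

/-!
# A block is normalised by the centralizer of `[W, E]`
-/

set_option autoImplicit false
set_option linter.unusedSectionVars false
set_option linter.style.haveILetI false
set_option linter.unusedVariables false

open Subgroup
open scoped commutatorElement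

namespace CfsgLib.BlockCent

open CfsgLib.SubBlock
open CfsgLib.BaumannBlock (bW bZ BlockFacts)

universe u
variable {G : Type u} [Group G] [Finite G]

attribute [local instance] CfsgLib.Coprime.pCore_normal'
attribute [local instance] fact_three

variable {T : Sylow 3 G} {E : Subgroup G} {e : G}

namespace Inv

/-- The involution centralises the odd core modulo `O_3(C([W, E]))`. -/
theorem comm_oddC (h : Inv T E e) {c : G} (hc : c ∈ cC 3 E) : ⁅c, e⁆ ∈ cP 3 E := by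
  classical
  obtain ⟨N, hN⟩ : ∃ N, N = oddC E ⊔ cP 3 E := ⟨_, rfl⟩
  have hNC : N ≤ cC 3 E := hN ▸ sup_le oddC_le cP_le
  have hCN : cC 3 E ≤ normalizer (N : Set G) := hN ▸ CfsgLib.Coprime.sup_le_normalizer
    (fun x hx => oddC_norm (le_normalizer hx)) cC_le_normalizer_cP
  have hEN : normalizer (E : Set G) ≤ normalizer (N : Set G) := hN ▸ CfsgLib.Coprime.sup_le_normalizer
    (fun x hx => oddC_norm (cC_norm hx)) (fun x hx => cP_norm hx)
  have hodd : Odd (Nat.card ↥N) := by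
    rw [hN, sup_comm]
    refine Odd.of_dvd_nat ?_ (CfsgLib.Coprime.card_sup_dvd_of_le_normalizer
      (fun x hx => oddC_norm (le_normalizer (cP_le hx))))
    obtain ⟨k, hk⟩ := IsPGroup.iff_card.1 (cP_pgroup (E := E))
    exact hk ▸ ((by decide : Odd 3).pow).mul oddC_odd
  haveI : Group.IsSolvable ↥N := CfsgLib.FT.isSolvable_of_odd ↥N hodd
  have hcore : Cfsg.pCoreOf 3 N = cP 3 E := le_antisymm
    (CfsgLib.JComp.le_pCoreOf ((CfsgLib.JComp.pCoreOf_le 3 N).trans hNC) (CfsgLib.JComp.isPGroup_pCoreOf 3 N)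
      (hCN.trans (CfsgLib.JComp.normalizer_le_normalizer_pCoreOf N)))
    (CfsgLib.JComp.le_pCoreOf (hN ▸ le_sup_right) cP_pgroup (hNC.trans cC_le_normalizer_cP))
  have hker : ∀ x : ↥N, x ∈ Cfsg.pCore 3 ↥N ↔ (x : G) ∈ cP 3 E := fun x => by
    refine ⟨fun hx => hcore.le ⟨x, hx, rfl⟩, fun hx => ?_⟩
    obtain ⟨y, hy, hyx⟩ := hcore.ge hx
    rwa [← Subtype.ext (show (y : G) = x from hyx)]
  haveI := CfsgLib.Coprime.pCore_characteristic (G := ↥N) 3
  obtain ⟨f, hf⟩ : ∃ f : ↥N →* ↥N ⧸ Cfsg.pCore 3 ↥N, f = QuotientGroup.mk' _ := ⟨_, rfl⟩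
  have hfker : ∀ x : ↥N, f x = 1 ↔ (x : G) ∈ cP 3 E := fun x => by
    rw [← hker x, hf]; exact QuotientGroup.eq_one_iff x
  obtain ⟨M1, hM1⟩ : ∃ M1, M1 = ((Cfsg.fittingSubgroup (↥N ⧸ Cfsg.pCore 3 ↥N)).comap f).map N.subtype := ⟨_, rfl⟩
  have hMN : M1 ≤ N := hM1 ▸ map_subtype_le _
  have hMmem : ∀ x : ↥N, (x : G) ∈ M1 ↔ f x ∈ Cfsg.fittingSubgroup (↥N ⧸ Cfsg.pCore 3 ↥N) := fun x => by
    rw [hM1]
    exact mem_map_iff_mem N.subtype_injective
  have hPN : cP 3 E ≤ N := hN ▸ le_sup_right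
  have hPM : cP 3 E ≤ M1 := fun x hx => by
    rw [← show ((⟨x, hPN hx⟩ : ↥N) : G) = x from rfl, hMmem, (hfker _).2 hx]
    exact one_mem _
  haveI : ((Cfsg.fittingSubgroup (↥N ⧸ Cfsg.pCore 3 ↥N)).comap f).Characteristic :=
    hf ▸ CfsgLib.PGroup.characteristic_comap_mk CfsgLib.Coprime.fitting_characteristic
  have hMnorm : ∀ x ∈ normalizer (E : Set G), x ∈ normalizer (M1 : Set G) := fun x hx =>
    hM1 ▸ CfsgLib.LS.normalizer_le_normalizer_map_char _ (hEN hx)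
  have h3 : ∀ x ∈ M1, ∀ a : ℕ, x ^ 3 ^ a ∈ cP 3 E → x ∈ cP 3 E := by
    intro x hx a hxa
    obtain ⟨y, hy⟩ : ∃ y : ↥N, (y : G) = x := ⟨⟨x, hMN hx⟩, rfl⟩
    rw [← hy] at hx hxa ⊢
    have hpow : f y ^ 3 ^ a = 1 := by
      rw [← map_pow, hfker, Subgroup.coe_pow]; exact hxa
    have hnd := CfsgLib.PGroup.not_dvd_card_fitting (CfsgLib.Coprime.pCore_quotient_eq_bot (G := ↥N) 3)
    refine (hfker y).1 (orderOf_eq_one_iff.1 (Nat.eq_one_of_dvd_coprimes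
      (((Nat.prime_three.coprime_iff_not_dvd).2 hnd).pow_left a) (orderOf_dvd_of_pow_eq_one hpow)
      (Subgroup.orderOf_dvd_natCard _ ((hMmem y).1 hx))))
  have hMC : M1 ≤ cC 3 E := hMN.trans hNC
  have hMe : ∀ m ∈ M1, ∀ g ∈ zpowers e, ⁅m, g⁆ ∈ cP 3 E := fun m hm g hg =>
    h.core_comm hMC hPM hMnorm h3 (hodd.of_dvd_nat (card_dvd_of_le hMN)) (commutator_mem_commutator hm hg)
  have hNe : e ∈ normalizer (N : Set G) := hEN h.e_norm
  have hstep : ∀ n ∈ N, ⁅n, e⁆ ∈ M1 := by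
    intro n hn
    have hr : ⁅n, e⁆ ∈ N := by
      rw [commutatorElement_def, show n * e * n⁻¹ * e⁻¹ = n * (e * n⁻¹ * e⁻¹) by group]
      exact mul_mem hn ((mem_normalizer_iff.1 hNe _).1 (inv_mem hn))
    rw [← show ((⟨⁅n, e⁆, hr⟩ : ↥N) : G) = ⁅n, e⁆ from rfl, hMmem]
    refine CfsgLib.Coprime.centralizer_fitting_le (mem_centralizer_iff.2 fun z hz => ?_)
    obtain ⟨m, rfl⟩ : ∃ m, f m = z := hf ▸ QuotientGroup.mk'_surjective _ z
    have hm : (m : G) ∈ M1 := (hMmem m).2 hz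
    have hm' : n⁻¹ * (m : G) * n ∈ M1 := by
      have h1 : n⁻¹ * (m : G) * n ∈ N := mul_mem (mul_mem (inv_mem hn) m.2) hn
      haveI := (inferInstance : ((Cfsg.fittingSubgroup (↥N ⧸ Cfsg.pCore 3 ↥N)).comap f).Characteristic)
      refine hM1.ge ⟨⟨_, h1⟩, ?_, rfl⟩
      have := Subgroup.Normal.conj_mem' (inferInstance :
        ((Cfsg.fittingSubgroup (↥N ⧸ Cfsg.pCore 3 ↥N)).comap f).Normal) m (show f m ∈ _ from hz) ⟨n, hn⟩
      exact this
    have hcm : ∀ u ∈ M1, ⁅e, u⁆ ∈ cP 3 E := fun u hu => by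
      rw [← commutatorElement_inv u e]; exact inv_mem (hMe u hu e (mem_zpowers e))
    have hnP : n ∈ normalizer (cP 3 E : Set G) := cC_le_normalizer_cP (hNC hn)
    have key : ⁅n, e⁆ * (m : G) * ⁅n, e⁆⁻¹ * (m : G)⁻¹ ∈ cP 3 E := by
      rw [show ⁅n, e⁆ * (m : G) * ⁅n, e⁆⁻¹ * (m : G)⁻¹ =
        n * (e * (n⁻¹ * ⁅e⁻¹, (m : G)⁆ * n) * e⁻¹ * ⁅e, n⁻¹ * (m : G) * n⁆) * n⁻¹ by
          simp only [commutatorElement_def]; group, h.inv_e]
      refine (mem_normalizer_iff.1 hnP _).1 (mul_mem ?_ (hcm _ hm'))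
      have h2 := (mem_normalizer_iff.1 (cP_norm h.e_norm) _).1 ((mem_normalizer_iff''.1 hnP _).1 (hcm _ hm))
      rwa [h.inv_e] at h2
    have hk := (hfker (⟨⁅n, e⁆, hr⟩ * m * (⟨⁅n, e⁆, hr⟩ : ↥N)⁻¹ * m⁻¹)).2 key
    rw [map_mul, map_mul, map_mul, map_inv, map_inv, mul_inv_eq_one, mul_inv_eq_iff_eq_mul] at hk
    exact hk.symm
  have hx : ⁅c, e⁆ ∈ oddC E := by rw [← commutatorElement_inv e c]; exact inv_mem (h.comm_mem_oddC hc)
  have ho : (orderOf ⁅c, e⁆).Coprime 2 :=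
    Nat.Coprime.coprime_dvd_left (Subgroup.orderOf_dvd_natCard _ hx) (Nat.coprime_two_right.2 oddC_odd)
  have hxN : ⁅c, e⁆ ∈ N := hN ▸ mem_sup_left hx
  obtain ⟨r, hr, -, hxr⟩ := exists_sqrt ho (e := e) (by
    simp only [commutatorElement_def]
    calc e * (c * e * c⁻¹ * e⁻¹) * e⁻¹ = e * c * e * c⁻¹ * (e⁻¹ * e⁻¹) := by group
      _ = e * c * e * c⁻¹ := by rw [h.inv_e, h.sq, mul_one]
      _ = _ := by rw [_root_.mul_inv_rev, _root_.mul_inv_rev, _root_.mul_inv_rev, inv_inv, inv_inv, h.inv_e]; group)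
  have hxM : ⁅c, e⁆ ∈ M1 := hxr ▸ hstep r (zpowers_le.2 hxN hr)
  rw [hxr]
  exact hMe r (zpowers_le.2 hxM hr) e (mem_zpowers e)

/-- The exceptional case. -/
theorem cC_le_norm (h : Inv T E e) : cC 3 E ≤ normalizer (E : Set G) := by
  intro c hc
  have hx := h.comm_oddC hc
  obtain ⟨r, hr, -, hre⟩ := decomp_invol h.sq (h.odd_of_mem cP_pgroup hx) hx
  have hdC : r⁻¹ * c ∈ cC 3 E := mul_mem (inv_mem (cP_le hr)) hc
  have hdQ : r⁻¹ * c ∈ normalizer (bQ 3 E : Set G) := by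
    rw [← h.comm_cP]
    refine CfsgLib.BaumannBlock.mem_normalizer_commutator (cC_le_normalizer_cP hdC)
      (centralizer_le_normalizer (zpowers e : Set G) (mem_centralizer_iff.2 fun y hy => ?_))
    obtain ⟨i, rfl⟩ := mem_zpowers_iff.1 hy
    exact ((show Commute e (r⁻¹ * c) from hre.symm).zpow_left i).eq
  have hd := h.cL_le_norm (mem_inf.2 ⟨hdC, hdQ⟩ : r⁻¹ * c ∈ cL 3 E)
  simpa using mul_mem (h.cP_le_norm hr) hd

end Inv

/-- A block is normalised by the centralizer of `[W, E]`. -/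
theorem centralizer_le_normalizer_block {p : ℕ} [Fact p.Prime]
    (hG : centralizer (Cfsg.pCore p G : Set G) ≤ Cfsg.pCore p G) (T : Sylow p G) (E : Subgroup G)
    (hE : Cfsg.IsBaumannBlock p (T : Subgroup G) E) : cC p E ≤ normalizer (E : Set G) := by
  rcases core_cases hG hE with hs | ⟨hne, hle⟩
  · exact le_normalizer_of_small hG hE hs
  · obtain ⟨rfl, -⟩ := exc_data hE hne
    obtain ⟨e, he⟩ := (⟨hG, hE, hne, hle⟩ : Exc T E).exists_inv
    exact he.cC_le_norm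

end CfsgLib.BlockCent
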