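import Cfsg.Agent.Lib.Char.BlockCent.Quad

/-!
# The largest normal `3`-subgroup of `C([W, E])` and the section `Q / Z`
-/

set_option autoImplicit false
set_option linter.unusedSectionVars false
set_option linter.style.haveILetI false
set_option linter.unusedVariables false
set_option maxHeartbeats 1000000

open Subgroup
open scoped commutatorElement

namespace CfsgLib.BlockCent

open CfsgLib.SubBlock
open CfsgLib.BaumannBlock (bW bZ BlockFacts)

universe u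
variable {G : Type u} [Group G] [Finite G]

attribute [local instance] CfsgLib.Coprime.pCore_normal'
attribute [local instance] fact_three

/-- `O_p(C([W, E]))`. -/
def cP (p : ℕ) (E : Subgroup G) : Subgroup G := Cfsg.pCoreOf p (cC p E)

variable {T : Sylow 3 G} {E : Subgroup G} {e : G}

theorem cP_le : cP 3 E ≤ cC 3 E := CfsgLib.JComp.pCoreOf_le 3 _

theorem cP_pgroup : IsPGroup 3 ↥(cP 3 E) := CfsgLib.JComp.isPGroup_pCoreOf 3 _

theorem cC_le_normalizer_cP : cC 3 E ≤ normalizer (cP 3 E : Set G) := CfsgLib.JComp.le_normalizer_pCoreOf 3 _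

theorem cP_norm {x : G} (hx : x ∈ normalizer (E : Set G)) : x ∈ normalizer (cP 3 E : Set G) :=
  CfsgLib.JComp.normalizer_le_normalizer_pCoreOf _ (cC_norm hx)

namespace Exc

theorem core_le_cP (h : Exc T E) : Cfsg.pCore 3 G ≤ cP 3 E :=
  CfsgLib.JComp.le_pCoreOf (core_le_cC h.hG h.hE) (CfsgLib.Coprime.pCore_isPGroup 3) fun x _ => core_norm x

theorem cP_cent (h : Exc T E) : centralizer (cP 3 E : Set G) ≤ cP 3 E :=
  (centralizer_le fun _ hx => h.core_le_cP hx).trans (h.hG.trans h.core_le_cP)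

theorem bQ_le_cP (h : Exc T E) : bQ 3 E ≤ cP 3 E := h.le.trans h.core_le_cP

theorem cP_le_norm (h : Exc T E) : cP 3 E ≤ normalizer (E : Set G) :=
  norm_of_invariant h.hE cP_pgroup fun _ hx => cP_norm hx

/-- `P` centralises `E` modulo `O_3(E)`. -/
theorem cP_comm (h : Exc T E) {x g : G} (hx : x ∈ cP 3 E) (hg : g ∈ E) : ⁅x, g⁆ ∈ bQ 3 E := by
  refine CfsgLib.JComp.le_pCoreOf (R := E ⊓ cP 3 E) inf_le_left (cP_pgroup.to_le inf_le_right)
    (CfsgLib.Coprime.inf_le_normalizer le_normalizer fun y hy => cP_norm (le_normalizer hy))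
    (mem_inf.2 ⟨comm_mem_right hg (h.cP_le_norm hx), ?_⟩)
  exact comm_mem_left hx (cP_norm (le_normalizer hg))

theorem secQZ (h : Exc T E) : IsAbSec (bQ 3 E) (bZ 3 E) := ⟨inf_le_left.trans (bW_le_bQ E), h.derived.le⟩

theorem norm_QZ {x : G} (hx : x ∈ normalizer (E : Set G)) : x ∈ secN (bQ 3 E) (bZ 3 E) := ⟨bQ_norm hx, bZ_norm hx⟩

theorem norm_QW {x : G} (hx : x ∈ normalizer (E : Set G)) : x ∈ secN (bQ 3 E) (bW 3 E) := ⟨bQ_norm hx, bW_norm hx⟩

/-- Elements whose commutators with `E` lie in `Q` commute with the action of `E`. -/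
theorem comm_triv (h : Exc T E) {x : G} (hc : ∀ g ∈ E, ⁅x, g⁆ ∈ bQ 3 E) :
    ∀ g ∈ E, Triv (bQ 3 E) (bW 3 E) ⁅x, g⁆ := fun g hg a ha =>
  h.secQ.comm (commutator_mem_commutator (hc g hg) ha)

/-- A `3`-element commuting with `E` modulo `Q` is trivial on `Q / W`. -/
theorem triv_of_three (h : Exc T E) {x : G} (hx : x ∈ normalizer (E : Set G)) {k : ℕ} (hk : x ^ 3 ^ k = 1)
    (hc : ∀ g ∈ E, ⁅x, g⁆ ∈ bQ 3 E) : Triv (bQ 3 E) (bW 3 E) x := by
  obtain ⟨M, iM, ⟨R⟩⟩ := exists_secRep h.secQ.toIsAbSec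
  refine (R.triv_iff ⟨x, norm_QW hx⟩).2 ?_
  refine h.secQ.eq_one_of_pow_three R (fun m => ?_) k _ (h.secQ.act_mem_commutant R _ (h.comm_triv hc)) ?_
  · obtain ⟨u, hu, rfl⟩ := R.pr_surj m
    rw [succ_nsmul, two_nsmul, ← R.pr_mul u hu u hu, ← R.pr_mul _ (mul_mem hu hu) u hu,
      R.pr_eq_zero _ (mul_mem (mul_mem hu hu) hu), show u * u * u = u ^ 3 by rw [pow_succ, pow_two]]
    exact (h.pow_three hu).1
  · rw [← map_pow, show (⟨x, norm_QW hx⟩ : ↥(secN (bQ 3 E) (bW 3 E))) ^ 3 ^ k = 1 from Subtype.ext hk, map_one]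

theorem triv_cP (h : Exc T E) {x : G} (hx : x ∈ cP 3 E) : Triv (bQ 3 E) (bW 3 E) x := by
  obtain ⟨k, hk⟩ := cP_pgroup ⟨x, hx⟩
  exact h.triv_of_three (h.cP_le_norm hx) (congrArg Subtype.val hk) fun g hg => h.cP_comm hx hg

/-- Elements trivial on `Q / W` fix `Z`. -/
theorem cent_bZ_of_triv (h : Exc T E) {y : G} (ht : Triv (bQ 3 E) (bW 3 E) y) {z : G} (hz : z ∈ bZ 3 E) :
    y * z = z * y := by
  have hle : bZ 3 E ≤ centralizer ({y} : Set G) := by
    rw [← h.derived, commutator_le]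
    intro a ha b hb'
    refine mem_centralizer_singleton_iff.2 ?_
    obtain ⟨wa, hwa, ea⟩ : ∃ wa ∈ bW 3 E, y * a * y⁻¹ = wa * a :=
      ⟨⁅y, a⁆, ht a ha, by rw [commutatorElement_def]; group⟩
    obtain ⟨wb, hwb, eb⟩ : ∃ wb ∈ bW 3 E, y * b * y⁻¹ = wb * b :=
      ⟨⁅y, b⁆, ht b hb', by rw [commutatorElement_def]; group⟩
    have h1 : y * ⁅a, b⁆ * y⁻¹ = ⁅a, b⁆ := by
      rw [show y * ⁅a, b⁆ * y⁻¹ = ⁅y * a * y⁻¹, y * b * y⁻¹⁆ by simp only [commutatorElement_def]; group, ea, eb]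
      exact comm_congr (fun w hw q hq => bW_comm_bQ hw hq) ha hb' hwa hwb (bW_le_bQ E)
    exact (mul_inv_eq_iff_eq_mul.1 h1).symm
  exact (mem_centralizer_singleton_iff.1 (hle hz)).symm

end Exc

namespace Inv

/-- `P = Q C_P(e)`, also for `E`. -/
theorem decomp (h : Inv T E e) {x : G} (hx : ⁅x, e⁆ ∈ bQ 3 E) :
    ∃ q ∈ bQ 3 E, e * q * e⁻¹ = q⁻¹ ∧ (q⁻¹ * x) * e = e * (q⁻¹ * x) :=
  decomp_invol h.sq (h.odd_of_mem (CfsgLib.JComp.isPGroup_pCoreOf 3 E) hx) hx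

/-- Coprime elements of `C_E(e)` centralise `C_P(e)`. -/
theorem cent_fixed (h : Inv T E e) {g y : G} (hg : g ∈ E) (hge : g * e = e * g) (ho : (orderOf g).Coprime 3)
    (hy : y ∈ cP 3 E) (hye : y * e = e * y) : g * y = y * g := by
  have hu : ⁅g, y⁆ ∈ bQ 3 E := by
    rw [← commutatorElement_inv y g]; exact inv_mem (h.cP_comm hy hg)
  have hue : e * ⁅g, y⁆ = ⁅g, y⁆ * e := by
    have c1 : Commute e g := hge.symm
    have c2 : Commute e y := hye.symm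
    rw [commutatorElement_def]
    exact ((((c1.mul_right c2).mul_right c1.inv_right).mul_right c2.inv_right)).eq
  have hz := h.fixed_mem_bZ hu hue
  refine commutatorElement_eq_one_iff_mul_comm.1
    (CfsgLib.Coprime.eq_one_of_conj_eq_mul (a := g) (x := y) (by rw [commutatorElement_def]; group) ?_ ?_)
  · rw [mul_inv_eq_iff_eq_mul]
    exact mem_centralizer_iff.1 (mem_inf.1 hz).2 g hg
  · obtain ⟨n, hn⟩ := (CfsgLib.JComp.isPGroup_pCoreOf 3 E) ⟨⁅g, y⁆, hu⟩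
    exact (Nat.Coprime.pow_right n ho).coprime_dvd_right (orderOf_dvd_of_pow_eq_one (congrArg Subtype.val hn))

/-- Coprime elements of `E` have coprime representatives in `C_E(e)`. -/
theorem exists_rep (h : Inv T E e) {g : G} (hg : g ∈ E) (ho : (orderOf g).Coprime 3) :
    ∃ g' ∈ E, g' * e = e * g' ∧ (orderOf g').Coprime 3 ∧ g * g'⁻¹ ∈ bQ 3 E := by
  obtain ⟨q, hq, -, hqg⟩ := h.decomp (h.cent g hg)
  obtain ⟨y, hy⟩ : ∃ y, y = q⁻¹ * g := ⟨_, rfl⟩
  rw [← hy] at hqg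
  have hyE : y ∈ E := hy ▸ mul_mem (inv_mem (bQ_le E hq)) hg
  obtain ⟨a, ha⟩ := exists_coprime_power 3 y
  obtain ⟨j, hj⟩ := exists_pow_eq_self_of_coprime (x := g) (n := 3 ^ a) ((Nat.Coprime.pow_right a ho).symm)
  refine ⟨(y ^ 3 ^ a) ^ j, pow_mem (pow_mem hyE _) _, ((show Commute y e from hqg).pow_left _).pow_left _,
    ha.coprime_dvd_left (orderOf_pow_dvd j), ?_⟩
  have hpow : ∀ n : ℕ, g ^ n * (y ^ n)⁻¹ ∈ bQ 3 E := by
    intro n
    induction n with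
    | zero => simp
    | succ n ih =>
      rw [pow_succ, pow_succ, show g ^ n * g * (y ^ n * y)⁻¹ =
        g ^ n * (g * y⁻¹) * (g ^ n)⁻¹ * (g ^ n * (y ^ n)⁻¹) by group]
      refine mul_mem ((mem_normalizer_iff.1 (bQ_norm (le_normalizer (pow_mem hg n))) _).1 ?_) ih
      rw [hy, show g * (q⁻¹ * g)⁻¹ = q by group]
      exact hq
  rw [← pow_mul]
  nth_rw 1 [← hj]
  rw [← pow_mul]
  exact hpow _

end Inv

/-- An element of the Baumann subgroup quadratic on both sections and moving `W`. -/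
structure IsQuad (T : Sylow 3 G) (E : Subgroup G) (b : G) : Prop where
  mem : b ∈ Cfsg.baumannSubgroupOf 3 (T : Subgroup G)
  move : b ∉ centralizer (bW 3 E : Set G)
  qW : ∀ a ∈ bW 3 E, ⁅b, ⁅b, a⁆⁆ ∈ bZ 3 E
  qQ : ∀ a ∈ bQ 3 E, ⁅b, ⁅b, a⁆⁆ ∈ bW 3 E

theorem Inv.exists_isQuad (h : Inv T E e) : ∃ b, IsQuad T E b := by
  obtain ⟨b, h1, h2, h3, h4⟩ := h.toExc.exists_quad h.split
  exact ⟨b, h1, h2, h3, h4⟩

theorem IsQuad.norm {b : G} (hb : IsQuad T E b) (h : Exc T E) : b ∈ normalizer (E : Set G) :=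
  baumann_le_normalizer_of_block h.hE hb.mem

/-- The section `Q / Z` does not split over `W / Z` compatibly with a quadratic element. -/
theorem no_split (h : Exc T E) {b : G} (hb : IsQuad T E b) {M : Type u} [AddCommGroup M]
    (R : SecRep (bQ 3 E) (bZ 3 E) M) (π : AddMonoid.End M)
    (hcomm : π * R.act ⟨b, Exc.norm_QZ (hb.norm h)⟩ = R.act ⟨b, Exc.norm_QZ (hb.norm h)⟩ * π)
    (hfix : ∀ a ∈ bW 3 E, π (R.pr a) = R.pr a) (himg : ∀ m, ∃ a ∈ bW 3 E, π m = R.pr a) : False := by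
  obtain ⟨b', hb'⟩ : ∃ b' : ↥(secN (bQ 3 E) (bZ 3 E)), b' = ⟨b, Exc.norm_QZ (hb.norm h)⟩ := ⟨_, rfl⟩
  rw [← hb'] at hcomm
  have hbv : (b' : G) = b := by rw [hb']
  have hcq : ∀ w ∈ bQ 3 E, ⁅b, w⁆ ∈ bQ 3 E := fun w hw => hbv ▸ SecRep.comm_mem b' hw
  have hπb : ∀ m, π (R.act b' m) = R.act b' (π m) := fun m =>
    congrArg (fun f : AddMonoid.End M => f m) hcomm
  have hpr : ∀ a ∈ bQ 3 E, R.pr ⁅b, ⁅b, a⁆⁆ =
      R.act b' (R.act b' (R.pr a) - R.pr a) - (R.act b' (R.pr a) - R.pr a) := fun a ha => by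
    rw [← hbv, R.pr_comm b' (hbv.symm ▸ hcq a ha), R.pr_comm b' ha]
  have hNN : ∀ m, R.act b' (R.act b' m - m) - (R.act b' m - m) = 0 := by
    intro m
    obtain ⟨a, ha, hma⟩ := R.pr_surj m
    obtain ⟨c, hc, hπ⟩ := himg m
    have e1 := hfix _ (hb.qQ a ha)
    rw [hpr a ha, hma] at e1
    have e2 := hpr c (bW_le_bQ E hc)
    rw [(R.pr_eq_zero _ (hcq _ (hcq c (bW_le_bQ E hc)))).2 (hb.qW c hc), ← hπ] at e2
    rw [← e1]
    simp only [map_sub, hπb] at e1 e2 ⊢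
    exact e2.symm
  refine (exc_data h.hE h.ne).2.2.2.2.2 b hb.mem hb.move ?_
  let L : Subgroup G :=
    { carrier := {z | z ∈ bQ 3 E ∧ R.act b' (R.pr z) = R.pr z}
      one_mem' := ⟨one_mem _, by rw [R.pr_one, map_zero]⟩
      mul_mem' := fun {z w} hz hw => ⟨mul_mem hz.1 hw.1, by rw [R.pr_mul _ hz.1 _ hw.1, map_add, hz.2, hw.2]⟩
      inv_mem' := fun {z} hz => ⟨inv_mem hz.1, by rw [R.pr_inv hz.1, map_neg, hz.2]⟩ }
  have hpw : ∀ (i : ℕ) (a : G), a ∈ bQ 3 E → ⁅b ^ i, a⁆ ∈ bQ 3 E ∧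
      R.pr ⁅b ^ i, a⁆ = R.act (b' ^ i) (R.pr a) - R.pr a := fun i a ha => by
    have h := R.pr_comm (b' ^ i) ha
    have h' := SecRep.comm_mem (b' ^ i) ha
    rw [Subgroup.coe_pow, hbv] at h h'
    exact ⟨h', h⟩
  have hL : ⁅bQ 3 E, zpowers b⁆ ≤ L := by
    refine commutator_le.2 fun u hu k hk => ?_
    obtain ⟨i, rfl⟩ := mem_powers_iff_mem_zpowers.2 hk
    rw [← commutatorElement_inv (b ^ i) u]
    refine inv_mem ⟨(hpw i u hu).1, ?_⟩
    have hNp : ∀ (j : ℕ) m, R.act b' (R.act (b' ^ j) m - m) = R.act (b' ^ j) m - m := by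
      intro j m
      induction j with
      | zero => simp
      | succ j ih =>
        have hN1 := hNN (R.act (b' ^ j) m)
        rw [pow_succ', map_mul, AddMonoid.End.coe_mul, Function.comp_apply]
        simp only [map_sub] at ih hN1 ⊢
        linear_combination (norm := abel) hN1 + ih
    rw [(hpw i u hu).2]
    exact hNp i _
  refine commutator_le.2 fun u hu k hk => ?_
  obtain ⟨i, rfl⟩ := mem_powers_iff_mem_zpowers.2 hk
  obtain ⟨huQ, huf⟩ := hL hu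
  rw [← commutatorElement_inv (b ^ i) u]
  refine inv_mem ((R.pr_eq_zero _ (hpw i u huQ).1).1 ?_)
  rw [(hpw i u huQ).2, sub_eq_zero]
  clear hk
  induction i with
  | zero => simp
  | succ i ih => rw [pow_succ', map_mul, AddMonoid.End.coe_mul, Function.comp_apply, ih, huf]

end CfsgLib.BlockCent
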