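import Cfsg.Agent.Lib.Char.BlockCent.Invol

/-!
# Some element of the Baumann subgroup moving the module is quadratic on both sections
-/

set_option autoImplicit false
set_option linter.unusedSectionVars false
set_option linter.style.haveILetI false
set_option linter.unusedVariables false
set_option maxHeartbeats 1000000

open Subgroup Matrix
open scoped commutatorElement MatrixGroups

namespace CfsgLib.BlockCent

open CfsgLib.SubBlock
open CfsgLib.BaumannBlock (bW bZ BlockFacts)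
open CfsgLib.Fusion (IsMaxEA)

universe u
variable {G : Type u} [Group G] [Finite G]

attribute [local instance] CfsgLib.Coprime.pCore_normal'
attribute [local instance] fact_three

section Nat

variable {F : Type} [Field F] [Fintype F] {E A A₀ : Subgroup G} {ρ : ↥E →* SL(2, F)}
  {R : SecRep A A₀ (Fin 2 → F)}

/-- An element normalising `E` acts semilinearly on a natural section. -/
theorem exists_semilinear
    (hc : ∀ (x : ↥(secN A A₀)) (hx : (x : G) ∈ E) (v : Fin 2 → F),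
      R.act x v = ((ρ ⟨x, hx⟩ : SL(2, F)) : Matrix (Fin 2) (Fin 2) F).mulVec v)
    (hE : E ≤ secN A A₀) (hsur : ∀ g : SL(2, F), ∃ e : ↥E, ρ e = g)
    (x : ↥(secN A A₀)) (hx : (x : G) ∈ normalizer (E : Set G)) :
    ∃ σ : F ≃+* F, ∀ (t : F) v, R.act x (t • v) = σ t • R.act x v := by
  have hii : ∀ v, R.act x (R.act x⁻¹ v) = v := fun v => by
    show (R.act x * R.act x⁻¹) v = v
    rw [← map_mul, mul_inv_cancel, map_one]; rfl
  have hii' : ∀ v, R.act x⁻¹ (R.act x v) = v := fun v => by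
    show (R.act x⁻¹ * R.act x) v = v
    rw [← map_mul, inv_mul_cancel, map_one]; rfl
  have hinj : Function.Injective (R.act x) := Function.LeftInverse.injective hii'
  have key : ∀ t : F, ∃ s : F, ∀ v, R.act x (t • v) = s • R.act x v := by
    intro t
    let h : (Fin 2 → F) → (Fin 2 → F) := fun v => R.act x (t • R.act x⁻¹ v)
    have hadd : ∀ v w, h (v + w) = h v + h w := fun v w => by simp only [h, map_add, smul_add]
    have hcomm : ∀ (g : SL(2, F)) v, h ((g : Matrix (Fin 2) (Fin 2) F).mulVec v) =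
        (g : Matrix (Fin 2) (Fin 2) F).mulVec (h v) := by
      intro g v
      obtain ⟨e, rfl⟩ := hsur g
      obtain ⟨e₁, he₁⟩ : ∃ e₁ : ↥(secN A A₀), e₁ = ⟨e, hE e.2⟩ := ⟨_, rfl⟩
      have hm : ((x⁻¹ * e₁ * x : ↥(secN A A₀)) : G) ∈ E := by
        rw [he₁]; exact (mem_normalizer_iff''.1 hx e).1 e.2
      have e2 : ∀ w, ((ρ e : SL(2, F)) : Matrix (Fin 2) (Fin 2) F).mulVec w = R.act e₁ w := fun w => by
        subst he₁; exact (hc ⟨e, hE e.2⟩ e.2 w).symm
      have e3 : R.act x⁻¹ (R.act e₁ v) = R.act (x⁻¹ * e₁ * x) (R.act x⁻¹ v) := by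
        rw [map_mul, map_mul]
        show _ = R.act x⁻¹ (R.act e₁ (R.act x (R.act x⁻¹ v)))
        rw [hii]
      show R.act x (t • R.act x⁻¹ _) = _
      rw [e2, e3, hc _ hm, ← Matrix.mulVec_smul, ← hc _ hm, map_mul, map_mul, e2]
      show R.act x (R.act x⁻¹ (R.act e₁ (R.act x _))) = _
      rw [hii]
    have hU : ∀ (a : F) v, h (![a * v 1, 0] + v) = ![a * h v 1, 0] + h v := fun a v => by
      have := hcomm (CfsgLib.Lie.SL2Rel.Fam.upper a) v
      rw [show ((CfsgLib.Lie.SL2Rel.Fam.upper a : SL(2, F)) : Matrix (Fin 2) (Fin 2) F) = !![1, a; 0, 1] from rfl] at this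
      have e1 : ∀ w : Fin 2 → F, (!![1, a; 0, 1] : Matrix (Fin 2) (Fin 2) F).mulVec w = ![a * w 1, 0] + w := fun w => by
        funext i; fin_cases i <;> simp [Matrix.mulVec, dotProduct, Fin.sum_univ_two, add_comm]
      rwa [e1, e1] at this
    have hL : ∀ (a : F) v, h (![0, a * v 0] + v) = ![0, a * h v 0] + h v := fun a v => by
      have := hcomm (CfsgLib.Lie.SL2Rel.Fam.lower a) v
      rw [show ((CfsgLib.Lie.SL2Rel.Fam.lower a : SL(2, F)) : Matrix (Fin 2) (Fin 2) F) = !![1, 0; a, 1] from rfl] at this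
      have e1 : ∀ w : Fin 2 → F, (!![1, 0; a, 1] : Matrix (Fin 2) (Fin 2) F).mulVec w = ![0, a * w 0] + w := fun w => by
        funext i; fin_cases i <;> simp [Matrix.mulVec, dotProduct, Fin.sum_univ_two, add_comm]
      rwa [e1, e1] at this
    have hU' : ∀ (a : F) v, h ![a * v 1, 0] = ![a * h v 1, 0] := fun a v =>
      add_right_cancel ((hadd _ v).symm.trans (hU a v))
    have hL' : ∀ (a : F) v, h ![0, a * v 0] = ![0, a * h v 0] := fun a v =>
      add_right_cancel ((hadd _ v).symm.trans (hL a v))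
    obtain ⟨c, hcd⟩ : ∃ c, c = h ![0, 1] 1 := ⟨_, rfl⟩
    have h0 : ∀ a : F, h ![a, 0] = ![a * c, 0] := fun a => by
      have := hU' a ![0, 1]
      simpa [hcd] using this
    have h1 : ∀ a : F, h ![0, a] = ![0, a * c] := fun a => by
      have := hL' a ![1, 0]
      simpa [h0 1] using this
    refine ⟨c, fun v => ?_⟩
    obtain ⟨w, hw⟩ : ∃ w, w = R.act x v := ⟨_, rfl⟩
    have hv : R.act x⁻¹ w = v := by rw [hw, hii']
    calc R.act x (t • v) = h w := by show _ = R.act x (t • _); rw [hv]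
      _ = h (![w 0, 0] + ![0, w 1]) := by congr 1; funext i; fin_cases i <;> simp
      _ = c • R.act x v := by
        rw [hadd, h0, h1, ← hw]; funext i; fin_cases i <;> simp [mul_comm c]
  choose s hs using key
  let v₀ : Fin 2 → F := ![1, 0]
  have hv₀ : R.act x v₀ ≠ 0 := fun h => by
    have := hinj (h.trans (map_zero _).symm)
    simpa [v₀] using congrFun this 0
  have hsm : ∀ a b : F, a • R.act x v₀ = b • R.act x v₀ → a = b := fun a b h => smul_left_injective F hv₀ h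
  have hadd : ∀ a b, s (a + b) = s a + s b := fun a b => hsm _ _ (by rw [← hs, add_smul, map_add, hs, hs, ← add_smul])
  have hmul : ∀ a b, s (a * b) = s a * s b := fun a b => hsm _ _ (by rw [← hs, mul_smul, hs, hs, smul_smul])
  have hsinj : Function.Injective s := fun a b h => by
    have h2 : R.act x (a • v₀) = R.act x (b • v₀) := by rw [hs, hs, h]
    exact smul_left_injective F (fun h0 => hv₀ (by rw [show v₀ = 0 from h0, map_zero])) (hinj h2)
  exact ⟨{ Equiv.ofBijective s (Finite.injective_iff_bijective.1 hsinj) with map_add' := hadd, map_mul' := hmul }, hs⟩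

/-- The fixed vectors of a semilinear map that is not linear. -/
theorem card_fixed_le {σ : F ≃+* F} (hσ : σ ≠ RingEquiv.refl F) {f : (Fin 2 → F) →+ (Fin 2 → F)}
    (hf : ∀ (t : F) v, f (t • v) = σ t • f v) : Nat.card {v : Fin 2 → F // f v = v} ≤ Fintype.card F := by
  classical
  refine le_trans ?_ (card_fixed_sq_le hσ)
  rw [← Nat.card_prod]
  by_cases hall : ∀ v w : {v : Fin 2 → F // f v = v}, v.1 0 * w.1 1 = v.1 1 * w.1 0
  · -- all fixed vectors lie on a line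
    by_cases hz : ∀ v : {v : Fin 2 → F // f v = v}, v.1 = 0
    · refine Nat.card_le_card_of_injective (fun _ => (⟨0, map_zero σ⟩, ⟨0, map_zero σ⟩)) fun v w _ => ?_
      exact Subtype.ext ((hz v).trans (hz w).symm)
    push Not at hz
    obtain ⟨⟨v₀, hv₀f⟩, hv₀⟩ := hz
    have hline : ∀ w : {v : Fin 2 → F // f v = v}, ∃ t : F, w.1 = t • v₀ := by
      intro w
      have h := hall ⟨v₀, hv₀f⟩ w
      by_cases h0 : v₀ 0 = 0
      · have h1 : v₀ 1 ≠ 0 := fun h1 => hv₀ (funext fun i => by fin_cases i <;> simp [h0, h1])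
        refine ⟨w.1 1 / v₀ 1, funext fun i => ?_⟩
        fin_cases i <;> simp [h0, div_mul_cancel₀ _ h1]
        simpa [h0, h1] using h.symm
      · refine ⟨w.1 0 / v₀ 0, funext fun i => ?_⟩
        fin_cases i <;> simp [div_mul_cancel₀ _ h0]
        field_simp
        linear_combination h
    choose τ hτ using hline
    refine Nat.card_le_card_of_injective (fun w => (⟨τ w, ?_⟩, ⟨0, map_zero σ⟩)) fun v w h => ?_
    · refine smul_left_injective F hv₀ ?_
      show σ (τ w) • v₀ = τ w • v₀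
      have h1 := hf (τ w) v₀
      rw [hv₀f, ← hτ w, w.2] at h1
      exact h1.symm.trans (hτ w)
    · refine Subtype.ext ?_
      rw [hτ v, hτ w, show τ v = τ w from congrArg (fun p => (p.1 : F)) h]
  · push Not at hall
    obtain ⟨⟨v, hv⟩, ⟨w, hw⟩, hd⟩ := hall
    have hco : ∀ x : Fin 2 → F, ∃ a b : F, x = a • v + b • w := fun x => by
      refine ⟨(x 0 * w 1 - x 1 * w 0) / (v 0 * w 1 - v 1 * w 0),
        (v 0 * x 1 - v 1 * x 0) / (v 0 * w 1 - v 1 * w 0), funext fun i => ?_⟩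
      have hd' : v 0 * w 1 - v 1 * w 0 ≠ 0 := sub_ne_zero.2 hd
      rw [Pi.add_apply, Pi.smul_apply, Pi.smul_apply, smul_eq_mul, smul_eq_mul, div_mul_eq_mul_div,
        div_mul_eq_mul_div, ← add_div, eq_div_iff hd']
      rcases Fin.exists_fin_two.1 ⟨i, rfl⟩ with h | h <;> subst h <;> ring
    choose a b hab using hco
    have huniq : ∀ a a' b b' : F, a • v + b • w = a' • v + b' • w → a = a' ∧ b = b' := fun a a' b b' h => by
      have e0 := congrFun h 0
      have e1 := congrFun h 1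
      simp only [Pi.add_apply, Pi.smul_apply, smul_eq_mul] at e0 e1
      have hd' : v 0 * w 1 - v 1 * w 0 ≠ 0 := sub_ne_zero.2 hd
      constructor
      · exact mul_right_cancel₀ hd' (by linear_combination (w 1) * e0 - (w 0) * e1)
      · exact mul_right_cancel₀ hd' (by linear_combination (v 0) * e1 - (v 1) * e0)
    have hfix : ∀ x : {x : Fin 2 → F // f x = x}, σ (a x.1) = a x.1 ∧ σ (b x.1) = b x.1 := fun x => by
      refine huniq _ _ _ _ ?_
      have h1 := x.2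
      conv_lhs at h1 => rw [hab x.1, map_add, hf, hf, hv, hw]
      exact h1.trans (hab x.1)
    refine Nat.card_le_card_of_injective (fun x => (⟨a x.1, (hfix x).1⟩, ⟨b x.1, (hfix x).2⟩)) fun x y h => ?_
    refine Subtype.ext ?_
    rw [hab x.1, hab y.1, show a x.1 = a y.1 from congrArg (fun p => (p.1 : F)) h,
      show b x.1 = b y.1 from congrArg (fun p => (p.2 : F)) h]

/-- A matrix of determinant one and trace two is quadratic and has cube one in characteristic three. -/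
theorem quad_mat [CharP F 3] {A : Matrix (Fin 2) (Fin 2) F} (hdet : A.det = 1) (htr : A 0 0 + A 1 1 = 2)
    (v : Fin 2 → F) : A.mulVec (A.mulVec v - v) - (A.mulVec v - v) = 0 ∧ A.mulVec (A.mulVec (A.mulVec v)) = v := by
  rw [det_fin_two] at hdet
  have h30 : (3 : F) = 0 := by exact_mod_cast (CharP.cast_eq_zero F 3)
  have h2 : ∀ v, A.mulVec (A.mulVec v - v) - (A.mulVec v - v) = 0 := fun v => by
    funext i
    fin_cases i <;> simp [Matrix.mulVec, dotProduct, Fin.sum_univ_two, Matrix.vecHead, Matrix.vecTail]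
    · linear_combination (A 0 0 * v 0 + A 0 1 * v 1) * htr - v 0 * hdet
    · linear_combination (A 1 0 * v 0 + A 1 1 * v 1) * htr - v 1 * hdet
  refine ⟨h2 v, ?_⟩
  have e1 := h2 v
  have e2 := h2 (A.mulVec v)
  rw [Matrix.mulVec_sub] at e1 e2
  funext i
  have a1 := congrFun e1 i
  have a2 := congrFun e2 i
  simp only [Pi.sub_apply, Pi.zero_apply] at a1 a2
  linear_combination a2 + 2 * a1 + (A.mulVec v i - v i) * h30

end Nat

variable {T : Sylow 3 G} {E : Subgroup G}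

namespace Exc

theorem triv_W_iff (h : Exc T E) (hs : bV 3 E ⊓ bZ 3 E = ⊥) {x : G} (hx : x ∈ normalizer (E : Set G)) :
    Triv (bW 3 E) (bZ 3 E) x ↔ x ∈ cC 3 E := by
  constructor
  · intro ht
    refine mem_centralizer_iff.2 fun v hv => ?_
    have h1 : ⁅x, v⁆ ∈ bV 3 E ⊓ bZ 3 E := mem_inf.2 ⟨by
      rw [commutatorElement_def]
      exact mul_mem ((mem_normalizer_iff.1 (bV_norm hx) v).1 hv) (inv_mem hv), ht v (bV_le_bW h.facts hv)⟩
    rw [hs, mem_bot, commutatorElement_eq_one_iff_mul_comm] at h1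
    exact h1.symm
  · intro hc w hw
    have hzn : bZ 3 E ≤ normalizer (bV 3 E : Set G) := fun z hz => bV_norm (le_normalizer (bQ_le E
      (bW_le_bQ E (mem_inf.1 hz).1)))
    obtain ⟨v, hv, z, hz, rfl⟩ := CfsgLib.Coprime.mem_sup_exists hzn
      ((CfsgLib.BaumannBlock.V_sup_Z h.facts h.ne_bot).ge hw)
    have hxv : x * v = v * x := (mem_centralizer_iff.1 hc v hv).symm
    have hu : ⁅x, z⁆ ∈ bZ 3 E := by
      rw [commutatorElement_def]
      exact mul_mem ((mem_normalizer_iff.1 (bZ_norm hx) z).1 hz) (inv_mem hz)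
    rw [show ⁅x, v * z⁆ = ⁅x, v⁆ * (v * ⁅x, z⁆ * v⁻¹) by simp only [commutatorElement_def]; group,
      commutatorElement_eq_one_iff_mul_comm.2 hxv, one_mul,
      bW_comm_bQ hu.1 (bW_le_bQ E (bV_le_bW h.facts hv)), mul_inv_cancel_right]
    exact hu

/-- Some element of `B(T)` moving `W` is quadratic on both sections. -/
theorem exists_quad (h : Exc T E) (hs : bV 3 E ⊓ bZ 3 E = ⊥) :
    ∃ b ∈ Cfsg.baumannSubgroupOf 3 (T : Subgroup G), b ∉ centralizer (bW 3 E : Set G) ∧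
      (∀ a ∈ bW 3 E, ⁅b, ⁅b, a⁆⁆ ∈ bZ 3 E) ∧ ∀ a ∈ bQ 3 E, ⁅b, ⁅b, a⁆⁆ ∈ bW 3 E := by
  classical
  obtain ⟨F, i₁, i₂, n, hn, hF, -, hW, hQ⟩ := h.nat_data
  have hBN := baumann_le_normalizer_of_block h.hE
  have hBT : Cfsg.baumannSubgroupOf 3 (T : Subgroup G) ≤ (T : Subgroup G) := inf_le_left
  have hNW : ∀ x ∈ normalizer (E : Set G), x ∈ secN (bW 3 E) (bZ 3 E) := fun x hx => ⟨bW_norm hx, bZ_norm hx⟩
  have hNQ : ∀ x ∈ normalizer (E : Set G), x ∈ secN (bQ 3 E) (bW 3 E) := fun x hx => ⟨bQ_norm hx, bW_norm hx⟩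
  have h3q : 3 ≤ Fintype.card F := hF ▸ Nat.le_self_pow hn 3
  rcases h3q.lt_or_eq with h4 | h4
  rotate_left
  · obtain ⟨b, hb, hbW⟩ := exists_moving_block h.hE
    have hp : IsPGroup 3 ↥(zpowers b) := T.2.to_le (zpowers_le.2 (hBT hb))
    exact ⟨b, hb, hbW, fun a ha => quad_of_card_nine h.secW.toIsAbSec (by rw [sl_card hW, ← h4]; norm_num)
      (hNW b (hBN hb)) hp ha, fun a ha => quad_of_card_nine h.secQ.toIsAbSec
      (by rw [sl_card hQ, ← h4]; norm_num) (hNQ b (hBN hb)) hp ha⟩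
  haveI : CharP F 3 := by
    obtain ⟨q, hq⟩ := CharP.exists F
    obtain ⟨k, hqp, hk⟩ := FiniteField.card F q
    rw [hF] at hk
    rwa [(Nat.prime_dvd_prime_iff_eq Nat.prime_three hqp).1
      (Nat.prime_three.dvd_of_dvd_pow (hk ▸ dvd_pow_self 3 hn : 3 ∣ q ^ (k : ℕ)))]
  obtain ⟨ρ, R, hρ, hc⟩ := exists_natRep hW h.secW.toIsAbSec
  have hsur : ∀ g : SL(2, F), ∃ e : ↥E, ρ e = g := fun g =>
    (hρ.trans (CfsgLib.Lie.SLUniv.sl2_commutator h4)).ge (mem_top g)
  -- an elementary abelian subgroup of largest order moving the module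
  obtain ⟨A, hA, hAm⟩ : ∃ A, IsMaxEA 3 (T : Subgroup G) A ∧ ¬ A ≤ cC 3 E := by
    by_contra! hcon
    refine CfsgLib.BaumannBlock.commutator_V_thompson_ne_bot T h.hE ?_
    rw [commutator_comm, commutator_eq_bot_iff_le_centralizer, CfsgLib.Fusion.thompsonSubgroupOf_eq]
    exact sSup_le fun A hA => hcon A hA
  have hAB : A ≤ Cfsg.baumannSubgroupOf 3 (T : Subgroup G) :=
    (CfsgLib.Fusion.le_thompsonSubgroupOf hA).trans (CfsgLib.BaumannNormal.thompson_le_baumann _)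
  have hAN : A ≤ normalizer (E : Set G) := hAB.trans hBN
  obtain ⟨φ, hφ⟩ : ∃ φ : ↥A →* AddMonoid.End (Fin 2 → F),
      φ = R.act.comp (MonoidHom.mk' (fun a : ↥A => (⟨(a : G), hNW _ (hAN a.2)⟩ : ↥(secN (bW 3 E) (bZ 3 E))))
        fun _ _ => rfl) := ⟨_, rfl⟩
  have hσ : ∀ a : ↥A, ∃ σ : F ≃+* F, ∀ (t : F) v, φ a (t • v) = σ t • φ a v := fun a => by
    rw [hφ]; exact exists_semilinear hc h.secW.nE hsur _ (hAN a.2)
  choose σ hσ using hσ
  have hker : ∀ a : ↥A, φ a = 1 ↔ (a : G) ∈ cC 3 E := fun a => by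
    rw [hφ, ← h.triv_W_iff hs (hAN a.2)]
    exact (R.triv_iff ⟨(a : G), hNW _ (hAN a.2)⟩).symm
  obtain ⟨a, haC, hlin⟩ : ∃ a : ↥A, (a : G) ∉ cC 3 E ∧ σ a = RingEquiv.refl F := by
    by_contra! hcon
    obtain ⟨a₁, ha₁, ha₁C⟩ := SetLike.not_le_iff_exists.1 hAm
    obtain ⟨C, hC⟩ : ∃ C, C = A ⊓ cC 3 E := ⟨_, rfl⟩
    have hCA : C ≤ A := hC ▸ inf_le_left
    have hσa : ∀ a b : ↥A, σ a = σ b → (a⁻¹ * b : ↥A) ∈ C.subgroupOf A := by
      intro a b hab
      refine mem_subgroupOf.2 (hC.ge ⟨(a⁻¹ * b).2, ?_⟩)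
      by_contra hne
      refine hcon _ hne (RingEquiv.ext fun t => ?_)
      have hinj : Function.Injective (φ a) := by
        refine Function.LeftInverse.injective (g := φ a⁻¹) fun v => ?_
        show (φ a⁻¹ * φ a) v = v
        rw [← map_mul, inv_mul_cancel, map_one]; rfl
      refine smul_left_injective F (?_ : φ (a⁻¹ * b) ![1, 0] ≠ 0) (hinj ?_)
      · intro h0
        have h1 : (φ (a⁻¹ * b)⁻¹ * φ (a⁻¹ * b)) ![1, 0] = 0 := by
          show φ _ (φ _ _) = 0
          rw [h0, map_zero]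
        rw [← map_mul, inv_mul_cancel, map_one] at h1
        simpa using congrFun h1 0
      · show φ a (σ (a⁻¹ * b) t • φ (a⁻¹ * b) ![1, 0]) = φ a (t • φ (a⁻¹ * b) ![1, 0])
        rw [← hσ (a⁻¹ * b), hσ a]
        show (φ a * φ (a⁻¹ * b)) (t • ![1, 0]) = σ a t • (φ a * φ (a⁻¹ * b)) ![1, 0]
        rw [← map_mul, mul_inv_cancel_left, hσ b, hab]
    have hAC : Nat.card (↥A ⧸ C.subgroupOf A) < Fintype.card F := by
      refine card_le_of_autFun (fun q => σ q.out) fun q q' hqq => ?_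
      rw [← QuotientGroup.out_eq' q, ← QuotientGroup.out_eq' q', QuotientGroup.eq]
      exact hσa _ _ hqq
    -- the count
    have hAe := hA.2.1
    have hAc : ∀ a ∈ A, ∀ b ∈ A, a * b = b * a := fun a ha b hb' =>
      congrArg Subtype.val (hAe.1.is_comm.comm (⟨a, ha⟩ : ↥A) ⟨b, hb'⟩)
    have hVO : bV 3 E ≤ vG G 3 := bV_le_vG h.hG h.hE
    have hCe : Cfsg.IsElementaryAbelian 3 C :=
      ⟨⟨⟨fun a b => Subtype.ext (hAc a (hCA a.2) b (hCA b.2))⟩⟩, fun a ha => hAe.2 a (hCA ha)⟩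
    have hVe : Cfsg.IsElementaryAbelian 3 (bV 3 E) :=
      ⟨⟨⟨fun a b => Subtype.ext (vG_comm (hVO b.2) (vG_le (hVO a.2)))⟩⟩, fun a ha => vG_pow (hVO ha)⟩
    have hle := hA.2.2 _ (sup_le (hCA.trans hA.1) (hVO.trans (vG_le.trans (CfsgLib.Coprime.pCore_le_sylow T))))
      (CfsgLib.EABasic.isElementaryAbelian_sup hCe hVe fun a ha b hb' =>
        (mem_centralizer_iff.1 (hC.le ha).2 b hb').symm)
    have hcard := CfsgLib.EABasic.card_sup_mul_card_inf_of_le_normalizer (H := C) (N := bV 3 E)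
      ((hC.le.trans inf_le_right).trans (centralizer_le_normalizer _))
    have hfx : Nat.card ↥(C ⊓ bV 3 E : Subgroup G) ≤ Nat.card {v : Fin 2 → F // φ ⟨a₁, ha₁⟩ v = v} := by
      refine Nat.card_le_card_of_injective (fun c => ⟨R.pr (c : G), ?_⟩) fun c c' hcc => ?_
      · rw [hφ]
        refine (R.pr_act ⟨a₁, hNW _ (hAN ha₁)⟩ _ (bV_le_bW h.facts c.2.2)).symm.trans (congrArg R.pr ?_)
        show a₁ * (c : G) * a₁⁻¹ = c
        rw [hAc a₁ ha₁ _ (hCA c.2.1), mul_inv_cancel_right]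
      · refine Subtype.ext ?_
        have h1 : (c : G) * (c' : G)⁻¹ ∈ bV 3 E ⊓ bZ 3 E := mem_inf.2 ⟨mul_mem c.2.2 (inv_mem c'.2.2),
          (R.pr_eq_iff (bV_le_bW h.facts c.2.2) (bV_le_bW h.facts c'.2.2)).1 (congrArg Subtype.val hcc)⟩
        rw [hs, mem_bot, mul_inv_eq_one] at h1
        exact h1
    have hfq : Nat.card {v : Fin 2 → F // φ ⟨a₁, ha₁⟩ v = v} ≤ Fintype.card F :=
      card_fixed_le (hcon ⟨a₁, ha₁⟩ ha₁C) (hσ ⟨a₁, ha₁⟩)
    have hV2 : Nat.card ↥(bV 3 E) = Fintype.card F ^ 2 := by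
      have h1 := CfsgLib.EABasic.card_sup_mul_card_inf_of_le_normalizer (H := bZ 3 E) (N := bV 3 E)
        (fun z hz => bV_norm (le_normalizer (bQ_le E (bW_le_bQ E (mem_inf.1 hz).1))))
      rw [sup_comm, CfsgLib.BaumannBlock.V_sup_Z h.facts h.ne_bot, inf_comm, hs, card_bot, mul_one, sl_card hW,
        mul_comm] at h1
      exact (Nat.eq_of_mul_eq_mul_left Nat.card_pos h1).symm
    have hlag : Nat.card ↥A = Nat.card (↥A ⧸ C.subgroupOf A) * Nat.card ↥C := by
      rw [card_eq_card_quotient_mul_card_subgroup (C.subgroupOf A), Nat.card_congr (subgroupOfEquivOfLe hCA).toEquiv]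
    have h2 := Nat.mul_le_mul hle (hfx.trans hfq)
    rw [hcard, hlag, hV2, mul_comm (Nat.card (↥A ⧸ C.subgroupOf A)), mul_assoc] at h2
    have h5 := Nat.le_of_mul_le_mul_left h2 Nat.card_pos
    rw [pow_two] at h5
    exact absurd h5 (not_le.2 (Nat.mul_lt_mul_of_pos_right hAC Fintype.card_pos))
  -- the matrix of the linear element
  have hlin' : ∀ (t : F) v, φ a (t • v) = t • φ a v := fun t v => by rw [hσ a, hlin]; rfl
  obtain ⟨N, hN⟩ := (T.2.to_le hA.1) a
  let g : Matrix (Fin 2) (Fin 2) F := Matrix.of fun i j => φ a (Pi.single j 1) i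
  have hg : ∀ v, φ a v = g.mulVec v := fun v => by
    conv_lhs => rw [show v = v 0 • Pi.single (0 : Fin 2) (1 : F) + v 1 • Pi.single (1 : Fin 2) (1 : F) by
      funext i; fin_cases i <;> simp]
    rw [map_add, hlin', hlin']
    funext i
    simp [g, Matrix.mulVec, dotProduct, Fin.sum_univ_two, mul_comm]
  have hgp : ∀ (k : ℕ) v, φ (a ^ k) v = (g ^ k).mulVec v := fun k => by
    induction k with
    | zero => intro v; rw [pow_zero, pow_zero, map_one, Matrix.one_mulVec]; rfl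
    | succ k ih =>
      intro v
      rw [pow_succ, pow_succ, map_mul, ← Matrix.mulVec_mulVec, ← hg]
      exact ih _
  have hg1 : g ^ 3 ^ N = 1 := Matrix.mulVec_injective (funext fun v => by
    rw [← hgp, hN, map_one, Matrix.one_mulVec]; rfl)
  have hdet : g.det = 1 := by
    have h1 : g.det ^ 3 ^ N = 1 := by rw [← Matrix.det_pow, hg1, Matrix.det_one]
    have h2 : (g.det - 1) ^ 3 ^ N = 0 := by rw [sub_pow_char_pow, one_pow, h1, sub_self]
    exact sub_eq_zero.1 ((pow_eq_zero_iff (pow_ne_zero N (by norm_num))).1 h2)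
  obtain ⟨gS, hgS⟩ : ∃ gS : SL(2, F), (gS : Matrix (Fin 2) (Fin 2) F) = g := ⟨⟨g, hdet⟩, rfl⟩
  have htr : g 0 0 + g 1 1 = 2 := hgS ▸ CfsgLib.LS.QdF.trace_of_pow_prime_pow (p := 3) (n := N)
    (g := gS) (Subtype.ext (by simpa [hgS] using hg1))
  obtain ⟨e, he⟩ := hsur gS
  have hbW : (a : G) ∉ centralizer (bW 3 E : Set G) := fun hc' =>
    haC (centralizer_le (fun v hv => bV_le_bW h.facts hv) hc')
  refine ⟨a, hAB a.2, hbW, fun w hw => ?_, ?_⟩
  · obtain ⟨b', hb'⟩ : ∃ b' : ↥(secN (bW 3 E) (bZ 3 E)), b' = ⟨a, hNW _ (hAN a.2)⟩ := ⟨_, rfl⟩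
    have hb'g : ∀ v, R.act b' v = g.mulVec v := fun v => by rw [← hg, hφ, hb']; rfl
    have h1 : ⁅(b' : G), w⁆ ∈ bW 3 E := SecRep.comm_mem b' hw
    rw [show (a : G) = (b' : G) by rw [hb']]
    refine (R.pr_eq_zero _ (SecRep.comm_mem b' h1)).1 ?_
    rw [R.pr_comm b' h1, R.pr_comm b' hw, hb'g, hb'g]
    exact (quad_mat hdet htr _).1
  -- the same matrix acts on the upper section
  obtain ⟨x, hx⟩ : ∃ x, x = (e : G)⁻¹ * (a : G) := ⟨_, rfl⟩
  have hxN : x ∈ normalizer (E : Set G) := hx ▸ mul_mem (inv_mem (le_normalizer e.2)) (hAN a.2)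
  have hRe : ∀ v, R.act ⟨(e : G), hNW _ (le_normalizer e.2)⟩ v = g.mulVec v := fun v => by
    rw [hc ⟨(e : G), hNW _ (le_normalizer e.2)⟩ e.2]
    show ((ρ e : SL(2, F)) : Matrix (Fin 2) (Fin 2) F).mulVec v = _
    rw [he, hgS]
  have hxC : x ∈ cC 3 E := by
    refine (h.triv_W_iff hs hxN).1 ((R.triv_iff ⟨x, hNW x hxN⟩).2 (AddMonoidHom.ext fun v => ?_))
    have hinj : Function.Injective (R.act ⟨(e : G), hNW _ (le_normalizer e.2)⟩) := by
      refine Function.LeftInverse.injective (g := R.act ⟨(e : G), hNW _ (le_normalizer e.2)⟩⁻¹) fun v => ?_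
      show (R.act _ * R.act _) v = v
      rw [← map_mul, inv_mul_cancel, map_one]; rfl
    apply hinj
    show (R.act _ * R.act _) v = _
    rw [← map_mul]
    refine Eq.trans ?_ (hRe v).symm
    rw [← hg, hφ]
    exact DFunLike.congr_fun (congrArg R.act (Subtype.ext (show (e : G) * x = a by rw [hx, mul_inv_cancel_left]))) v
  have he3 : (e : G) ^ 3 ∈ bQ 3 E := by
    refine h.kerW (pow_mem e.2 3) ((natRep_triv_iff hc (e := e ^ 3) (h.secW.nE (pow_mem e.2 3))).1 ?_)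
    rw [map_pow, he]
    refine Subtype.ext (Matrix.mulVec_injective (funext fun v => ?_))
    show ((gS ^ 3 : SL(2, F)) : Matrix (Fin 2) (Fin 2) F).mulVec v = (1 : Matrix (Fin 2) (Fin 2) F).mulVec v
    rw [Matrix.SpecialLinearGroup.coe_pow, hgS, pow_succ, pow_two, ← Matrix.mulVec_mulVec, ← Matrix.mulVec_mulVec,
      Matrix.one_mulVec]
    exact (quad_mat hdet htr v).2
  obtain ⟨M, iM, ⟨S⟩⟩ := exists_secRep h.secQ.toIsAbSec
  haveI := S.finite
  obtain ⟨e', he'⟩ : ∃ e' : ↥(secN (bQ 3 E) (bW 3 E)), e' = ⟨e, h.secQ.nE e.2⟩ := ⟨_, rfl⟩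
  obtain ⟨x', hx'⟩ : ∃ x' : ↥(secN (bQ 3 E) (bW 3 E)), x' = ⟨x, hNQ x hxN⟩ := ⟨_, rfl⟩
  have h3M : ∀ m : M, 3 • m = 0 := fun m => by
    obtain ⟨u, hu, rfl⟩ := S.pr_surj m
    rw [succ_nsmul, two_nsmul, ← S.pr_mul u hu u hu, ← S.pr_mul _ (mul_mem hu hu) u hu,
      S.pr_eq_zero _ (mul_mem (mul_mem hu hu) hu), show u * u * u = u ^ 3 by rw [pow_succ, pow_two]]
    exact (h.pow_three hu).1
  have hcom : S.act x' ∈ commutant S E := by
    refine h.secQ.act_mem_commutant S x' fun y hy u hu => h.secQ.comm (commutator_mem_commutator ?_ hu)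
    rw [show ((x' : ↥(secN (bQ 3 E) (bW 3 E))) : G) = x by rw [hx']]
    refine h.inf_cC (comm_mem_right hy hxN) ?_
    rw [commutatorElement_def, show x * y * x⁻¹ * y⁻¹ = x * (y * x⁻¹ * y⁻¹) by group]
    exact mul_mem hxC ((mem_normalizer_iff.1 (cC_norm (le_normalizer hy)) _).1 (inv_mem hxC))
  have hcomm : S.act e' * S.act x' = S.act x' * S.act e' := mem_commutant.1 hcom e' (he' ▸ e.2)
  have hE3 : S.act e' ^ 3 = 1 := by
    rw [← map_pow]
    refine (S.triv_iff (e' ^ 3)).1 fun u hu => ?_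
    rw [he']
    exact h.secQ.comm (commutator_mem_commutator he3 hu)
  obtain ⟨b', hb'⟩ : ∃ b' : ↥(secN (bQ 3 E) (bW 3 E)), b' = ⟨a, hNQ _ (hAN a.2)⟩ := ⟨_, rfl⟩
  have hbex : b' = e' * x' := Subtype.ext (by
    rw [Subgroup.coe_mul, hb', he', hx']
    show (a : G) = e * x
    rw [hx, mul_inv_cancel_left])
  have hx1 : S.act x' = 1 := by
    refine h.secQ.eq_one_of_pow_three S h3M (N + 1) _ hcom ?_
    have h1 : S.act b' ^ 3 ^ N = 1 := by
      rw [← map_pow, show b' ^ 3 ^ N = 1 from Subtype.ext (by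
        rw [hb', SubgroupClass.coe_pow]; exact congrArg Subtype.val hN), map_one]
    rw [hbex, map_mul, (show Commute (S.act e') _ from hcomm).mul_pow] at h1
    have h4 : (S.act e' ^ 3 ^ N * S.act x' ^ 3 ^ N) ^ 3 = 1 := by rw [h1, one_pow]
    rw [((show Commute (S.act e') _ from hcomm).pow_pow _ _).mul_pow, ← pow_mul, ← pow_mul, ← pow_succ,
      show S.act e' ^ 3 ^ (N + 1) = 1 by rw [pow_succ', pow_mul, hE3, one_pow], one_mul] at h4
    exact h4
  intro u hu
  obtain ⟨ρQ, RQ, -, hcQ⟩ := exists_natRep hQ h.secQ.toIsAbSec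
  have hbe : RQ.act b' = RQ.act e' := by
    rw [hbex, map_mul, (RQ.triv_iff x').1 ((S.triv_iff x').2 hx1), mul_one]
  have hρ3 : ρQ e ^ 3 ^ 1 = 1 := by
    rw [pow_one, ← map_pow]
    refine (natRep_triv_iff hcQ (e := e ^ 3) (h.secQ.nE (pow_mem e.2 3))).2 fun w hw => ?_
    exact h.secQ.comm (commutator_mem_commutator he3 hw)
  have htr2 := CfsgLib.LS.QdF.trace_of_pow_prime_pow (p := 3) (n := 1) hρ3
  have hb'v : ∀ v, RQ.act b' v = ((ρQ e : SL(2, F)) : Matrix (Fin 2) (Fin 2) F).mulVec v := fun v => by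
    rw [hbe, he']
    exact hcQ ⟨(e : G), h.secQ.nE e.2⟩ e.2 v
  have h1 : ⁅(b' : G), u⁆ ∈ bQ 3 E := SecRep.comm_mem b' hu
  rw [show (a : G) = (b' : G) by rw [hb']]
  refine (RQ.pr_eq_zero _ (SecRep.comm_mem b' h1)).1 ?_
  rw [RQ.pr_comm b' h1, RQ.pr_comm b' hu, hb'v, hb'v]
  exact (quad_mat (ρQ e).2 htr2 _).1

end Exc

end CfsgLib.BlockCent
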